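import Cfsg.Agent.PSpFourTypeThree.LocalU

/-!
A quaternion subgroup of the Levi complement: its normaliser normalises `C`.
-/

set_option autoImplicit false
set_option linter.unusedSectionVars false
set_option linter.style.haveILetI false
set_option maxHeartbeats 400000

open scoped Classical
open CfsgLib.PSpFourNormM

namespace CfsgLib.PSpFourTypeThree

section Matrices

variable (F : Type*) [Field F] [CharP F 3]

theorem three_zero : (3 : F) = 0 := by exact_mod_cast CharP.cast_eq_zero F 3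

/-- The first generator. -/
def iS : Matrix.SpecialLinearGroup (Fin 2) F :=
  ⟨!![0, 1; -1, 0], by simp [Matrix.det_fin_two]⟩

/-- The second generator. -/
def kS : Matrix.SpecialLinearGroup (Fin 2) F :=
  ⟨!![1, 1; 1, -1], by
    simp [Matrix.det_fin_two]
    linear_combination (-1 : F) * three_zero F⟩

@[simp] theorem iS_val : (iS F).1 = !![0, 1; -1, 0] := rfl

@[simp] theorem kS_val : (kS F).1 = !![1, 1; 1, -1] := rfl

/-- The quaternion group. -/
def q8 : Subgroup (Matrix.SpecialLinearGroup (Fin 2) F) := Subgroup.closure {iS F, kS F}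

theorem iS_mem : iS F ∈ q8 F := Subgroup.subset_closure (Set.mem_insert _ _)

theorem kS_mem : kS F ∈ q8 F :=
  Subgroup.subset_closure (Set.mem_insert_of_mem _ rfl)

theorem iS_sq : iS F * iS F = dS (-1 : Fˣ) := by
  refine Subtype.ext ?_
  simp [Matrix.SpecialLinearGroup.coe_mul, Matrix.mul_fin_two]

theorem dS_neg_one_comm (A : Matrix.SpecialLinearGroup (Fin 2) F) :
    A * dS (-1 : Fˣ) = dS (-1 : Fˣ) * A := by
  refine Subtype.ext ?_
  rw [Matrix.SpecialLinearGroup.coe_mul, Matrix.SpecialLinearGroup.coe_mul, dS_val,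
    Matrix.eta_fin_two A.1, Matrix.mul_fin_two, Matrix.mul_fin_two]
  simp

theorem uS_iS : uS (1 : F) * iS F * (uS 1)⁻¹ = iS F * iS F * kS F := by
  rw [mul_inv_eq_iff_eq_mul]
  refine Subtype.ext ?_
  simp [Matrix.SpecialLinearGroup.coe_mul, Matrix.mul_fin_two]
  linear_combination three_zero F

theorem uS_kS : uS (1 : F) * kS F * (uS 1)⁻¹ = iS F * iS F * iS F * kS F := by
  rw [mul_inv_eq_iff_eq_mul]
  refine Subtype.ext ?_
  simp [Matrix.SpecialLinearGroup.coe_mul, Matrix.mul_fin_two]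
  exact ⟨by linear_combination three_zero F, by linear_combination -(three_zero F)⟩

theorem uS_q8 {A : Matrix.SpecialLinearGroup (Fin 2) F} (h : A ∈ q8 F) :
    uS 1 * A * (uS 1)⁻¹ ∈ q8 F := by
  have : (q8 F).map (MulAut.conj (uS (1 : F))).toMonoidHom ≤ q8 F := by
    rw [q8, MonoidHom.map_closure, Subgroup.closure_le]
    rintro _ ⟨B, hB, rfl⟩
    simp only [Set.mem_insert_iff, Set.mem_singleton_iff] at hB
    rcases hB with rfl | rfl
    · show uS 1 * iS F * (uS 1)⁻¹ ∈ q8 F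
      rw [uS_iS]
      exact mul_mem (mul_mem (iS_mem F) (iS_mem F)) (kS_mem F)
    · show uS 1 * kS F * (uS 1)⁻¹ ∈ q8 F
      rw [uS_kS]
      exact mul_mem (mul_mem (mul_mem (iS_mem F) (iS_mem F)) (iS_mem F)) (kS_mem F)
  exact this ⟨A, h, rfl⟩

theorem q8_comm {A : Matrix.SpecialLinearGroup (Fin 2) F} (hi : A * iS F = iS F * A)
    (hk : A * kS F = kS F * A) : A = 1 ∨ A = dS (-1 : Fˣ) := by
  have h3 := three_zero F
  have h2 : (2 : F) ≠ 0 := fun h => one_ne_zero (α := F) (by linear_combination h3 - h)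
  have g := fun i j => congrFun (congrFun (congrArg Subtype.val hi) i) j
  have g' := fun i j => congrFun (congrFun (congrArg Subtype.val hk) i) j
  have a1 := g 0 0
  have a2 := g 0 1
  have b1 := g' 0 0
  have hd := A.2
  rw [Matrix.det_fin_two] at hd
  simp [Matrix.SpecialLinearGroup.coe_mul, Matrix.mul_apply, Fin.sum_univ_two] at a1 a2 b1
  have h01 : A.1 0 1 = 0 := mul_left_cancel₀ h2 (by linear_combination b1 - a1)
  have h10 : A.1 1 0 = 0 := by linear_combination -a1 - h01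
  rw [h01, zero_mul, sub_zero, ← a2] at hd
  rcases mul_self_eq_one_iff.1 hd with e | e
  · left
    refine Subtype.ext ?_
    ext i j
    fin_cases i <;> fin_cases j <;> simp [h01, h10, e, ← a2]
  · right
    refine Subtype.ext ?_
    ext i j
    fin_cases i <;> fin_cases j <;> simp [h01, h10, e, ← a2]

end Matrices

variable {F : Type*} [Field F] {G : Type*} [Group G] {α : G}
  (Φ : Frame F (Subgroup.centralizer ({α} : Set G)))

/-- The Levi complement as a homomorphism. -/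
def elHom : Matrix.SpecialLinearGroup (Fin 2) F →* G where
  toFun A := Φ.el 0 A
  map_one' := Φ.el_one
  map_mul' A B := by
    rw [Φ.mul]
    congr 1
    simp [vmul, Prod.ext_iff]

theorem elHom_apply (A : Matrix.SpecialLinearGroup (Fin 2) F) : elHom Φ A = Φ.el 0 A := rfl

/-- The involution of the complement. -/
abbrev jj : G := Φ.hH (-1)

/-- The standard unipotent element of the complement. -/
abbrev uu : G := Φ.mM (0, 0, 1)

theorem uu_eq : uu Φ = elHom Φ (uS 1) := rfl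

theorem el_z (a : F) : Φ.mM (a, 0, 0) = Φ.el (0, 0, a) 1 := by
  rw [Frame.mM, uS_zero]

theorem el_z_mul (a : F) (A : Matrix.SpecialLinearGroup (Fin 2) F) :
    Φ.mM (a, 0, 0) * Φ.el 0 A = Φ.el (0, 0, a) A := by
  rw [el_z, Φ.mul, one_mul]
  congr 1
  simp [vmul, Prod.ext_iff]

/-- The Sylow `3`-subgroup `Z × ⟨u⟩`. -/
def sSub : Subgroup G where
  carrier := {g | ∃ (a : F) (i : ℤ), g = Φ.mM (a, 0, (i : F))}
  one_mem' := ⟨0, 0, by simp [← Φ.mM_zero, show ((0, 0, 0) : V F) = 0 from rfl]⟩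
  mul_mem' := by
    rintro _ _ ⟨a, i, rfl⟩ ⟨b, j, rfl⟩
    exact ⟨a + b, i + j, by rw [← Φ.mM_add]; simp⟩
  inv_mem' := by
    rintro _ ⟨a, i, rfl⟩
    refine ⟨-a, -i, inv_eq_of_mul_eq_one_right ?_⟩
    rw [← Φ.mM_add, ← Φ.mM_zero]
    congr 1
    simp

variable [CharP F 3]

/-- The quaternion subgroup. -/
def tSub : Subgroup G := (q8 F).map (elHom Φ)

theorem tSub_le : tSub Φ ≤ CA α := by
  rintro _ ⟨A, -, rfl⟩
  exact Φ.el_mem _ _

theorem jj_mem_tSub : jj Φ ∈ tSub Φ :=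
  ⟨iS F * iS F, mul_mem (iS_mem F) (iS_mem F), by rw [iS_sq]; rfl⟩

variable [Fintype F] [Finite G]

namespace Hyp

variable {Φ} {P : Sylow 3 G} {M : Subgroup G} (K : Hyp Φ P M)
include K

theorem jj_sq : jj Φ * jj Φ = 1 := by
  show Φ.hH (-1) * Φ.hH (-1) = 1
  rw [← Φ.hH_mul, neg_mul_neg, one_mul, Φ.hH_one]

theorem jj_ne : jj Φ ≠ 1 := by
  intro h
  have h' := (Φ.inj _ _ _ _ (h.trans Φ.el_one.symm)).2
  have := congrArg (fun B : Matrix.SpecialLinearGroup (Fin 2) F => B.1 0 0) h'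
  simp at this
  exact K.two (by linear_combination -this)

theorem jj_cube_ne : jj Φ ^ 3 ≠ 1 := by
  rw [pow_succ, pow_two, K.jj_sq, one_mul]
  exact K.jj_ne

theorem comm_tSub {g : G} (hg : g ∈ CA α) (h : ∀ t ∈ tSub Φ, g * t = t * g) :
    ∃ a : F, g = Φ.mM (a, 0, 0) ∨ g = Φ.mM (a, 0, 0) * jj Φ := by
  obtain ⟨⟨p, r, a⟩, A, rfl⟩ := (Φ.mem_iff g).1 hg
  have hi := h _ ⟨_, iS_mem F, rfl⟩
  have hk := h _ ⟨_, kS_mem F, rfl⟩
  simp only [elHom_apply, Φ.mul] at hi hk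
  obtain ⟨v1, A1⟩ := Φ.inj _ _ _ _ hi
  obtain ⟨-, A2⟩ := Φ.inj _ _ _ _ hk
  simp [vmul] at v1
  obtain ⟨e1, e2⟩ := v1
  have hr : r = 0 := mul_left_cancel₀ K.two (by linear_combination e2 - e1)
  subst hr
  obtain rfl : p = 0 := by linear_combination e1
  refine ⟨a, ?_⟩
  rcases q8_comm F A1 A2 with rfl | rfl
  · exact Or.inl (el_z Φ a).symm
  · exact Or.inr (el_z_mul Φ a _).symm

theorem uu_normal {t : G} (ht : t ∈ tSub Φ) : uu Φ * t * (uu Φ)⁻¹ ∈ tSub Φ := by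
  obtain ⟨A, hA, rfl⟩ := ht
  exact ⟨_, uS_q8 F hA, by rw [map_mul, map_mul, map_inv, uu_eq]⟩

theorem uu_normalizer : uu Φ ∈ Subgroup.normalizer (tSub Φ : Set G) := by
  refine Subgroup.mem_normalizer_iff.2 fun t => ⟨K.uu_normal, fun ht => ?_⟩
  have hu3 : uu Φ ^ 3 = 1 := K.M_cube _ (K.mem_M _)
  have h := K.uu_normal (K.uu_normal ht)
  have e : uu Φ * (uu Φ * (uu Φ * t * (uu Φ)⁻¹) * (uu Φ)⁻¹) * (uu Φ)⁻¹ = t := by
    calc _ = uu Φ ^ 3 * t * (uu Φ ^ 3)⁻¹ := by rw [pow_succ, pow_two]; group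
      _ = t := by rw [hu3]; group
  rwa [e] at h

theorem normalizer_centralizer {g : G} (hg : g ∈ Subgroup.normalizer (tSub Φ : Set G)) {c : G}
    (hc : c ∈ Subgroup.centralizer (tSub Φ : Set G)) :
    g * c * g⁻¹ ∈ Subgroup.centralizer (tSub Φ : Set G) := by
  intro t ht
  have ht' : g⁻¹ * t * g ∈ tSub Φ := by
    have h := (Subgroup.mem_normalizer_iff.1 (inv_mem hg) t).1 ht
    rwa [inv_inv] at h
  have h := hc _ ht'
  calc t * (g * c * g⁻¹) = g * ((g⁻¹ * t * g) * c) * g⁻¹ := by group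
    _ = g * (c * (g⁻¹ * t * g)) * g⁻¹ := by rw [h]
    _ = g * c * g⁻¹ * t := by group

theorem uu_centralizer_zpow {c : G} (hc : c ∈ Subgroup.centralizer (tSub Φ : Set G)) (i : ℤ) :
    uu Φ ^ i * c * (uu Φ ^ i)⁻¹ ∈ Subgroup.centralizer (tSub Φ : Set G) :=
  K.normalizer_centralizer (Subgroup.zpow_mem _ K.uu_normalizer i) hc

/-- The centraliser of the quaternion subgroup extended by the unipotent element. -/
def kSub : Subgroup G where
  carrier := {g | ∃ c ∈ Subgroup.centralizer (tSub Φ : Set G), ∃ i : ℤ, g = c * uu Φ ^ i}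
  one_mem' := ⟨1, one_mem _, 0, by simp⟩
  mul_mem' := by
    rintro _ _ ⟨c, hc, i, rfl⟩ ⟨d, hd, j, rfl⟩
    refine ⟨c * (uu Φ ^ i * d * (uu Φ ^ i)⁻¹), mul_mem hc (K.uu_centralizer_zpow hd i), i + j, ?_⟩
    rw [zpow_add]; group
  inv_mem' := by
    rintro _ ⟨c, hc, i, rfl⟩
    refine ⟨uu Φ ^ (-i) * c⁻¹ * (uu Φ ^ (-i))⁻¹, K.uu_centralizer_zpow (inv_mem hc) _, -i, ?_⟩
    group

theorem centralizer_le_kSub : Subgroup.centralizer (tSub Φ : Set G) ≤ K.kSub := fun c hc =>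
  ⟨c, hc, 0, by simp⟩

theorem uu_mem_kSub : uu Φ ∈ K.kSub := ⟨1, one_mem _, 1, by simp⟩

theorem conj_uu {n : G} (hn : n ∈ K.kSub) :
    n * uu Φ * n⁻¹ * (uu Φ)⁻¹ ∈ Subgroup.centralizer (tSub Φ : Set G) := by
  obtain ⟨c, hc, i, rfl⟩ := hn
  rw [show c * uu Φ ^ i * uu Φ * (c * uu Φ ^ i)⁻¹ * (uu Φ)⁻¹ =
    c * (uu Φ ^ (1 : ℤ) * c⁻¹ * (uu Φ ^ (1 : ℤ))⁻¹) by group]
  exact mul_mem hc (K.uu_centralizer_zpow (inv_mem hc) 1)

theorem conj_centralizer {n c : G} (hn : n ∈ K.kSub)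
    (hc : c ∈ Subgroup.centralizer (tSub Φ : Set G)) :
    n * c * n⁻¹ ∈ Subgroup.centralizer (tSub Φ : Set G) := by
  obtain ⟨d, hd, i, rfl⟩ := hn
  rw [show d * uu Φ ^ i * c * (d * uu Φ ^ i)⁻¹ = d * (uu Φ ^ i * c * (uu Φ ^ i)⁻¹) * d⁻¹ by group]
  exact mul_mem (mul_mem hd (K.uu_centralizer_zpow hc i)) (inv_mem hd)

theorem uu_zpow (i : ℤ) : uu Φ ^ i = Φ.mM (0, 0, (i : F)) := by
  have h : ∀ k : ℕ, uu Φ ^ k = Φ.mM (0, 0, (k : F)) := by
    intro k
    induction k with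
    | zero => simp [Φ.mM_zero, show ((0, 0, 0) : V F) = 0 from rfl]
    | succ k ih => rw [pow_succ, ih, ← Φ.mM_add]; simp
  cases i with
  | ofNat k => simp [h]
  | negSucc k =>
    rw [zpow_negSucc, h, inv_eq_iff_mul_eq_one, ← Φ.mM_add, ← Φ.mM_zero]
    congr 1
    simp

theorem sSub_elem (a : F) (i : ℤ) : Φ.mM (a, 0, (i : F)) = Φ.mM (a, 0, 0) * uu Φ ^ i := by
  rw [K.uu_zpow, ← Φ.mM_add]; simp

theorem z_mem_centralizer (a : F) :
    Φ.mM (a, 0, 0) ∈ Subgroup.centralizer (tSub Φ : Set G) := fun t ht =>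
  Φ.central_mM a t (tSub_le Φ ht)

theorem sSub_le : (sSub Φ) ≤ K.kSub := by
  rintro _ ⟨a, i, rfl⟩
  exact ⟨_, K.z_mem_centralizer a, i, K.sSub_elem a i⟩

theorem sSub_le_M : (sSub Φ) ≤ M := by
  rintro _ ⟨a, i, rfl⟩
  exact K.mem_M _

theorem sSub_inter {g : G} (hg : g ∈ (sSub Φ))
    (hgc : g ∈ Subgroup.centralizer (tSub Φ : Set G)) : ∃ a : F, g = Φ.mM (a, 0, 0) := by
  obtain ⟨b, hb⟩ := K.comm_tSub (g := g) (by
      obtain ⟨a, i, rfl⟩ := hg
      exact Φ.mM_mem _) (fun t ht => (hgc t ht).symm)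
  rcases hb with hb | hb
  · exact ⟨b, hb⟩
  · exfalso
    apply K.jj_cube_ne
    have : jj Φ ∈ M := by
      have := M.mul_mem (M.inv_mem (K.mem_M (b, 0, 0))) (K.sSub_le_M hg)
      rwa [hb, inv_mul_cancel_left] at this
    exact K.M_cube _ this

theorem jj_comm_kSub {g : G} (hg : g ∈ K.kSub) : g * jj Φ = jj Φ * g := by
  obtain ⟨c, hc, i, rfl⟩ := hg
  have h1 : uu Φ ^ i * jj Φ = jj Φ * uu Φ ^ i := by
    refine (Commute.zpow_left ?_ i).eq
    show elHom Φ (uS 1) * elHom Φ (dS (-1)) = elHom Φ (dS (-1)) * elHom Φ (uS 1)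
    rw [← map_mul, ← map_mul, dS_neg_one_comm]
  calc c * uu Φ ^ i * jj Φ = c * (uu Φ ^ i * jj Φ) := by group
    _ = (c * jj Φ) * uu Φ ^ i := by rw [h1]; group
    _ = _ := by rw [← hc _ (jj_mem_tSub Φ)]; group

/-- The elements of `C` in the extended centraliser. -/
theorem kSub_C {g : G} (hg : g ∈ K.kSub) (hgC : g ∈ CA α) :
    ∃ s ∈ (sSub Φ), g = s ∨ g = s * jj Φ := by
  obtain ⟨c, hc, i, rfl⟩ := hg
  have hcC : c ∈ CA α := by
    have := mul_mem hgC (inv_mem (zpow_mem (Φ.mM_mem (0, 0, 1)) i))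
    rwa [mul_inv_cancel_right] at this
  obtain ⟨a, ha⟩ := K.comm_tSub hcC (fun t ht => (hc t ht).symm)
  refine ⟨Φ.mM (a, 0, (i : F)), ⟨a, i, rfl⟩, ?_⟩
  rw [K.sSub_elem]
  rcases ha with rfl | rfl
  · exact Or.inl rfl
  · right
    rw [mul_assoc, mul_assoc]
    congr 1
    exact (K.jj_comm_kSub (Subgroup.zpow_mem _ K.uu_mem_kSub i)).symm

theorem mem_NC_of_normalizes_z {n : G}
    (h : ∃ a : F, n * Φ.mM (1, 0, 0) * n⁻¹ = Φ.mM (a, 0, 0)) : n ∈ NC α := by
  obtain ⟨a, ha⟩ := h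
  refine mem_NC_of_conj Φ K.hb one_ne_zero ?_ ha
  rintro rfl
  refine z_ne_one Φ (one_ne_zero (α := F)) ?_
  simpa using ha.trans Φ.mM_zero

theorem index_sSub : ¬ 3 ∣ ((sSub Φ).subgroupOf K.kSub).index := by
  haveI : Fact (Nat.Prime 3) := ⟨Nat.prime_three⟩
  have hp : IsPGroup 3 ((sSub Φ).subgroupOf K.kSub) := fun g => ⟨1, Subtype.ext (Subtype.ext (by
    simpa using K.M_cube _ (K.sSub_le_M g.2)))⟩
  obtain ⟨R, hR⟩ := hp.exists_le_sylow
  suffices hsuf : (R : Subgroup K.kSub) = (sSub Φ).subgroupOf K.kSub by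
    rw [← hsuf]; exact R.not_dvd_index
  refine le_antisymm ?_ hR
  by_contra hne
  haveI : Group.IsNilpotent (R : Subgroup K.kSub) := R.isPGroup'.isNilpotent
  have htop : ((sSub Φ).subgroupOf K.kSub).subgroupOf R < ⊤ := lt_top_iff_ne_top.mpr fun e =>
    hne fun g hg => (show (⟨g, hg⟩ : (R : Subgroup K.kSub)) ∈ ((sSub Φ).subgroupOf K.kSub).subgroupOf R
      from e ▸ Subgroup.mem_top _)
  obtain ⟨⟨y, hyR⟩, hyN, hyS⟩ := SetLike.exists_of_lt (Group.normalizerCondition_of_isNilpotent _ htop)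
  apply hyS
  show (y : G) ∈ (sSub Φ)
  obtain ⟨k, hk⟩ := R.isPGroup' ⟨y, hyR⟩
  have hk' : (y : G) ^ 3 ^ k = 1 := congrArg (fun z : (R : Subgroup K.kSub) => ((z : K.kSub) : G)) hk
  have hz : Φ.mM (1, 0, 0) ∈ (sSub Φ) := ⟨1, 0, by simp⟩
  have hconj : (y : G) * Φ.mM (1, 0, 0) * (y : G)⁻¹ ∈ (sSub Φ) :=
    (Subgroup.mem_normalizer_iff.1 hyN ⟨⟨_, K.sSub_le hz⟩, hR hz⟩).1 hz
  have hyNC : (y : G) ∈ NC α := K.mem_NC_of_normalizes_z
    (K.sSub_inter hconj (K.conj_centralizer y.2 (K.z_mem_centralizer 1)))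
  obtain ⟨s, hs, e | e⟩ := K.kSub_C y.2 (mem_C_of_pow Φ K.hb K.two K.three_dvd hyNC hk')
  · rw [e]; exact hs
  · exfalso
    have hjj : ⟨jj Φ, (centralizer_le_kSub K) fun t ht => by
        obtain ⟨A, -, rfl⟩ := ht
        show elHom Φ A * elHom Φ (dS (-1)) = elHom Φ (dS (-1)) * elHom Φ A
        rw [← map_mul, ← map_mul, dS_neg_one_comm]⟩ = (⟨s, K.sSub_le hs⟩ : K.kSub)⁻¹ * y := by
      refine Subtype.ext ?_
      show jj Φ = s⁻¹ * (y : G)
      rw [e, inv_mul_cancel_left]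
    have hmem := (R : Subgroup K.kSub).mul_mem ((R : Subgroup K.kSub).inv_mem
      (hR (show (⟨s, K.sSub_le hs⟩ : K.kSub) ∈ (sSub Φ).subgroupOf K.kSub from hs))) hyR
    rw [← hjj] at hmem
    obtain ⟨l, hl⟩ := R.isPGroup' ⟨_, hmem⟩
    have hl' : jj Φ ^ 3 ^ l = 1 := congrArg (fun z : (R : Subgroup K.kSub) => ((z : K.kSub) : G)) hl
    have h2 : orderOf (jj Φ) ∣ 2 := orderOf_dvd_of_pow_eq_one (by rw [pow_two, K.jj_sq])
    have h3 := Nat.dvd_gcd h2 (orderOf_dvd_of_pow_eq_one hl')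
    rw [(Nat.Coprime.pow_right l (by norm_num) : Nat.Coprime 2 (3 ^ l)).gcd_eq_one, Nat.dvd_one,
      orderOf_eq_one_iff] at h3
    exact K.jj_ne h3

theorem centralizer_tSub_le : Subgroup.centralizer (tSub Φ : Set G) ≤ NC α := by
  haveI : Fact (Nat.Prime 3) := ⟨Nat.prime_three⟩
  set D := K.kSub with hD
  have hSD : (sSub Φ) ≤ D := K.sSub_le
  have hjD : jj Φ ∈ D := K.centralizer_le_kSub fun t ht => by
    obtain ⟨A, -, rfl⟩ := ht
    show elHom Φ A * elHom Φ (dS (-1)) = elHom Φ (dS (-1)) * elHom Φ A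
    rw [← map_mul, ← map_mul, dS_neg_one_comm]
  set S := (sSub Φ).subgroupOf D
  set B := (zSub Φ).subgroupOf D
  set W := Subgroup.zpowers (⟨jj Φ, hjD⟩ : D) with hW
  have hWel : ∀ w ∈ W, (w : G) = 1 ∨ (w : G) = jj Φ := by
    intro w hw
    obtain ⟨i, rfl⟩ := Subgroup.mem_zpowers_iff.1 hw
    have h2 : jj Φ ^ (2 : ℤ) = 1 := by rw [zpow_two]; exact K.jj_sq
    rw [SubgroupClass.coe_zpow]
    rcases Int.even_or_odd' i with ⟨r, rfl | rfl⟩
    · left; rw [zpow_mul, h2, one_zpow]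
    · right; rw [zpow_add, zpow_mul, h2, one_zpow, one_mul, zpow_one]
  have hjW : (⟨jj Φ, hjD⟩ : D) ∈ W := Subgroup.mem_zpowers _
  haveI hWn : W.Normal := ⟨fun w hw g => by
    have e : g * w * g⁻¹ = w := Subtype.ext (by
      show (g : G) * w * (g : G)⁻¹ = w
      rcases hWel w hw with h | h <;> rw [h]
      · group
      · rw [K.jj_comm_kSub g.2, mul_inv_cancel_right])
    rw [e]; exact hw⟩
  -- a product with an element of `W` lying in `M` is trivial
  have hWM : ∀ w ∈ W, (w : G) ∈ M → w = 1 := by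
    intro w hw hm
    rcases hWel w hw with h | h
    · exact Subtype.ext h
    · exact absurd (K.M_cube _ (h ▸ hm)) K.jj_cube_ne
  have hSM : ∀ s ∈ S, (s : G) ∈ M := fun s hs => K.sSub_le_M hs
  have hdrop : ∀ (g : D) (s : D), s ∈ S → g * s * g⁻¹ * s⁻¹ ∈ W → g * s * g⁻¹ = s := by
    intro g s hs hw
    rcases hWel _ hw with h | h
    · exact mul_inv_eq_one.1 (Subtype.ext h)
    · exfalso
      have hs3 : (s : G) ^ 3 = 1 := K.M_cube _ (hSM s hs)
      have e : ((g : G) * s * (g : G)⁻¹) = jj Φ * s := by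
        rw [← h]; push_cast; group
      have h3 : ((g : G) * s * (g : G)⁻¹) ^ 3 = 1 := by rw [conj_pow, hs3, mul_one, mul_inv_cancel]
      rw [e, (show Commute (jj Φ) (s : G) from (K.jj_comm_kSub s.2).symm).mul_pow, hs3, mul_one] at h3
      exact K.jj_cube_ne h3
  have hSWel : ∀ v ∈ S ⊔ W, ∀ h : (v : G) ^ 3 = 1, v ∈ S := by
    intro v hv h
    obtain ⟨s, hs, w, hw, rfl⟩ := Subgroup.mem_sup_of_normal_right.1 hv
    rcases hWel w hw with e | e
    · rw [show w = 1 from Subtype.ext e, mul_one]; exact hs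
    · exfalso
      rw [Subgroup.coe_mul, e,
        (show Commute (s : G) (jj Φ) from K.jj_comm_kSub s.2).mul_pow, K.M_cube _ (hSM s hs),
        one_mul] at h
      exact K.jj_cube_ne h
  have hN : ∀ n : D, n ∈ Subgroup.normalizer ((S ⊔ W : Subgroup D) : Set D) →
      ∀ s ∈ S, n * s * n⁻¹ ∈ S := by
    intro n hn s hs
    refine hSWel _ ((Subgroup.mem_normalizer_iff.1 hn s).1 (Subgroup.mem_sup_left hs)) ?_
    push_cast
    rw [conj_pow, K.M_cube _ (hSM s hs), mul_one, mul_inv_cancel]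
  have hNz : ∀ n : D, n ∈ Subgroup.normalizer ((S ⊔ W : Subgroup D) : Set D) → ∀ a : F,
      ∃ a' : F, (n : G) * Φ.mM (a, 0, 0) * (n : G)⁻¹ = Φ.mM (a', 0, 0) := by
    intro n hn a
    refine K.sSub_inter (hN n hn ⟨Φ.mM (a, 0, 0), hSD ⟨a, 0, by simp⟩⟩ ⟨a, 0, by simp [Frame.mM]⟩) ?_
    exact K.conj_centralizer n.2 (K.z_mem_centralizer a)
  have hNS : ∀ n : D, (∀ s ∈ S, n * s * n⁻¹ ∈ S) →
      n ∈ Subgroup.normalizer ((S ⊔ W : Subgroup D) : Set D) := by
    intro n hn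
    have hle : ∀ v ∈ S ⊔ W, n * v * n⁻¹ ∈ S ⊔ W := by
      intro v hv
      obtain ⟨s, hs, w, hw, rfl⟩ := Subgroup.mem_sup_of_normal_right.1 hv
      rw [show n * (s * w) * n⁻¹ = n * s * n⁻¹ * (n * w * n⁻¹) by group]
      exact Subgroup.mul_mem_sup (hn s hs) (hWn.conj_mem w hw n)
    refine Subgroup.mem_normalizer_iff.2 fun v => ⟨hle v, fun hv => ?_⟩
    let φ : (S ⊔ W : Subgroup D) → (S ⊔ W : Subgroup D) := fun u => ⟨n * u * n⁻¹, hle _ u.2⟩
    have hφ : Function.Injective φ := fun u u' e =>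
      Subtype.ext (mul_left_cancel (mul_right_cancel (congrArg Subtype.val e)))
    obtain ⟨u, hu⟩ := Finite.injective_iff_surjective.1 hφ ⟨_, hv⟩
    exact mul_left_cancel (mul_right_cancel (congrArg Subtype.val hu)) ▸ u.2
  have hCS : ∀ g : D, (g : G) ∈ CA α → g ∈ S ⊔ W := by
    intro g hg
    obtain ⟨s, hs, e | e⟩ := K.kSub_C g.2 hg
    · exact Subgroup.mem_sup_left (show (g : G) ∈ (sSub Φ) from e ▸ hs)
    · rw [show g = ⟨s, hSD hs⟩ * ⟨jj Φ, hjD⟩ from Subtype.ext e]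
      exact Subgroup.mul_mem_sup (show (⟨s, hSD hs⟩ : D) ∈ S from hs) hjW
  have hcommS : ∀ u ∈ S, ∀ v ∈ S, u * v = v * u := fun u hu v hv =>
    Subtype.ext (K.M_comm _ (hSM u hu) _ (hSM v hv))
  have hcent : ∀ s ∈ S, s ∉ W → ∀ g : D, g * s * g⁻¹ * s⁻¹ ∈ W →
      g ∈ Subgroup.normalizer ((S ⊔ W : Subgroup D) : Set D) := by
    intro s hs hsW g hg
    have hgs : (g : G) * s = s * g :=
      mul_inv_eq_iff_eq_mul.1 (congrArg Subtype.val (hdrop g s hs hg))
    obtain ⟨a, i, hai⟩ : ∃ (a : F) (i : ℤ), (s : G) = Φ.mM (a, 0, (i : F)) := hs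
    by_cases hi : (i : F) = 0
    · rw [hi] at hai
      have ha : a ≠ 0 := by
        rintro rfl
        exact hsW (show s ∈ W by
          rw [show s = 1 from Subtype.ext (by rw [hai, show ((0, 0, 0) : V F) = 0 from rfl, Φ.mM_zero]; rfl)]
          exact W.one_mem)
      rw [hai] at hgs
      exact Subgroup.le_normalizer (hCS g (mem_C_of_comm_z Φ K.hb ha hgs))
    · have hslant : Slant Φ M (Subgroup.zpowers (s : G)) := by
        refine ⟨Subgroup.zpowers_le.2 (hai ▸ K.mem_M _), ?_, ?_, ?_⟩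
        all_goals
          have hpow : ∀ v ∈ Subgroup.zpowers (s : G), ∀ b : V F, v = Φ.mM b →
              ∃ r : F, b = (r * a, 0, r * (i : F)) := by
            intro v hv b hb
            obtain ⟨r, rfl⟩ := Subgroup.mem_zpowers_iff.1 hv
            refine ⟨(r : F), Φ.mM_inj (hb.symm.trans ?_)⟩
            rw [hai]
            clear hb
            have hnat : ∀ r : ℕ, Φ.mM (a, 0, (i : F)) ^ r = Φ.mM ((r : F) * a, 0, (r : F) * (i : F)) := by
              intro r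
              induction r with
              | zero => simp [Φ.mM_zero, show ((0, 0, 0) : V F) = 0 from rfl]
              | succ r ih =>
                rw [pow_succ, ih, ← Φ.mM_add]; simp [add_mul]
            cases r with
            | ofNat r => simp [hnat]
            | negSucc r =>
              rw [zpow_negSucc, hnat, inv_eq_iff_mul_eq_one, ← Φ.mM_add, ← Φ.mM_zero]
              congr 1
              simp [add_mul]
        · intro x y z h
          obtain ⟨r, hr⟩ := hpow _ h _ rfl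
          simp at hr
          exact hr.2.1
        · intro x h
          obtain ⟨r, hr⟩ := hpow _ h _ rfl
          simp [hi] at hr
          obtain ⟨h1, h2⟩ := hr
          simp [h2] at h1
          exact h1
        · intro e
          obtain ⟨r, hr⟩ := hpow 1 (one_mem _) 0 Φ.mM_zero.symm
          rw [Subgroup.zpowers_eq_bot] at e
          rw [hai, ← Φ.mM_zero] at e
          exact hi (congrArg (fun v => v.2.2) (Φ.mM_inj e))
      have hgN : (g : G) ∈ Subgroup.normalizer (M : Set G) := by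
        refine K.cent_slant _ hslant fun v hv => ?_
        obtain ⟨r, rfl⟩ := Subgroup.mem_zpowers_iff.1 hv
        exact (Commute.zpow_right hgs r).eq.symm
      refine hNS g fun v hv => ?_
      have hm : ((g * v * g⁻¹ : D) : G) ∈ M := by
        push_cast
        exact (Subgroup.mem_normalizer_iff.1 hgN _).1 (hSM v hv)
      obtain ⟨u, hu⟩ := (K.hM _).1 hm
      obtain ⟨t, ht, w, hw, e⟩ := Subgroup.mem_sup_of_normal_right.1
        (hCS _ (hu ▸ Φ.mM_mem u))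
      have hwm : (w : G) ∈ M := by
        rw [show w = t⁻¹ * (g * v * g⁻¹) by rw [← e]; group]
        exact M.mul_mem (M.inv_mem (hSM t ht)) hm
      rw [← e, hWM w hw hwm, mul_one]
      exact ht
  have hzS : zSub Φ ≤ (sSub Φ) := by
    intro v hv
    obtain ⟨a, rfl⟩ := (mem_zSub Φ).1 hv
    exact ⟨a, 0, by simp⟩
  have hfix : ∀ (n b : D), (b : G) ∈ zSub Φ → b ≠ 1 → n * b * n⁻¹ = b → n ∈ S ⊔ W := by
    intro n b hb hb1 e
    obtain ⟨a, ha⟩ := (mem_zSub Φ).1 hb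
    have ha0 : a ≠ 0 := by
      rintro rfl
      exact hb1 (Subtype.ext (ha.trans (by rw [show ((0, 0, 0) : V F) = 0 from rfl, Φ.mM_zero]; rfl)))
    refine hCS n (mem_C_of_comm_z Φ K.hb ha0 ?_)
    have := congrArg Subtype.val (mul_inv_eq_iff_eq_mul.1 e)
    simpa [ha] using this
  have hmod : Mod W S B :=
    { normal := hWn
      comm := hcommS
      cube := fun s hs => Subtype.ext (by simpa using K.M_cube _ (hSM s hs))
      idx := K.index_sSub
      cent := hcent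
      le := fun b hb => hzS hb
      inv := by
        intro n hn b hb
        obtain ⟨a, ha⟩ := (mem_zSub Φ).1 (Subgroup.mem_subgroupOf.1 hb)
        obtain ⟨a', ha'⟩ := hNz n hn a
        refine (mem_zSub Φ).2 ⟨a', ?_⟩
        show (n : G) * b * (n : G)⁻¹ = _
        rw [show (b : G) = _ from ha, ha']
      fpf := by
        intro n hn b hb hbW h
        refine hfix n b hb (fun e => hbW (e ▸ W.one_mem)) (hdrop n b (hzS hb) h)
      inter := fun b hb hbW => hWM b hbW (hSM b (hzS hb)) }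
  -- choice of the second element
  let x : D := ⟨uu Φ, K.uu_mem_kSub⟩
  have hxS : x ∈ S := ⟨0, 1, by simp [x]⟩
  have hQ : ∀ n ∈ Subgroup.normalizer (S : Set D), n ∈ Subgroup.normalizer ((S ⊔ W : Subgroup D) : Set D) :=
    fun n hn => hNS n fun s hs => (Subgroup.mem_normalizer_iff.1 hn s).1 hs
  have hQ' : ∀ n ∈ Subgroup.normalizer ((S ⊔ W : Subgroup D) : Set D), n ∈ Subgroup.normalizer (S : Set D) :=
    fun n hn => Subgroup.mem_normalizer_iff.2 fun s => ⟨hN n hn s, fun hs => by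
      have h := hN n⁻¹ (inv_mem hn) _ hs
      simpa [mul_assoc] using h⟩
  have hcoset : ∀ n ∈ Subgroup.normalizer ((S ⊔ W : Subgroup D) : Set D), ∀ a : F,
      ∃ a' : F, ((n * ⟨Φ.mM (a, 0, (1 : F)), hSD ⟨a, 1, by simp⟩⟩ * n⁻¹ : D) : G) = Φ.mM (a', 0, 1) := by
    intro n hn a
    have hn' : ((n * x * n⁻¹ : D) : G) * (uu Φ)⁻¹ ∈ (sSub Φ) :=
      mul_mem (hN n hn x hxS) (inv_mem ⟨0, 1, by simp⟩)
    obtain ⟨δ, hδ⟩ := K.sSub_inter hn' (K.conj_uu n.2)
    obtain ⟨a1, ha1⟩ := hNz n hn a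
    refine ⟨a1 + δ, ?_⟩
    have e : Φ.mM (a, 0, (1 : F)) = Φ.mM (a, 0, 0) * uu Φ := by rw [← Φ.mM_add]; simp
    push_cast
    rw [e, show (n : G) * (Φ.mM (a, 0, 0) * uu Φ) * (n : G)⁻¹ =
      ((n : G) * Φ.mM (a, 0, 0) * (n : G)⁻¹) * ((((n * x * n⁻¹ : D) : G)) * (uu Φ)⁻¹) * uu Φ by
        push_cast; simp [x]; group, ha1, hδ, ← Φ.mM_add, ← Φ.mM_add]
    simp
  obtain ⟨β, hβ⟩ : ∃ β : F, ∀ n ∈ Subgroup.normalizer (S : Set D),
      ((n * x * n⁻¹ : D) : G) ≠ Φ.mM (β, 0, 1) := by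
    by_contra! hall
    refine orb_not_dvd S K.index_sSub hcommS hxS ?_
    have heq : Nat.card (orb S x) = Fintype.card F := by
      let φ : F → orb S x := fun b => ⟨⟨Φ.mM (b, 0, (1 : F)), hSD ⟨b, 1, by simp⟩⟩, by
        obtain ⟨n, hn, e⟩ := hall b
        exact ⟨n, hn, Subtype.ext e⟩⟩
      have hφ : Function.Bijective φ := by
        refine ⟨fun b b' e => ?_, fun ⟨v, n, hn, e⟩ => ?_⟩
        · have := congrArg (fun w : orb S x => ((w : D) : G)) e
          exact congrArg Prod.fst (Φ.mM_inj this)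
        · obtain ⟨b, hb⟩ := hcoset n (hQ n hn) 0
          refine ⟨b, Subtype.ext (Subtype.ext ?_)⟩
          show Φ.mM (b, 0, 1) = (v : G)
          rw [← e, ← hb]
      rw [← Nat.card_eq_of_bijective φ hφ, Nat.card_eq_fintype_card]
    rw [heq]
    exact K.three_dvd
  let y : D := ⟨Φ.mM (β, 0, (1 : F)), hSD ⟨β, 1, by simp⟩⟩
  have hyS : y ∈ S := ⟨β, 1, by simp [y]⟩
  have hcx : ∀ n ∈ Subgroup.normalizer ((S ⊔ W : Subgroup D) : Set D),
      ∃ a' : F, ((n * x * n⁻¹ : D) : G) = Φ.mM (a', 0, 1) := fun n hn => hcoset n hn 0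
  have hcy : ∀ n ∈ Subgroup.normalizer ((S ⊔ W : Subgroup D) : Set D),
      ∃ a' : F, ((n * y * n⁻¹ : D) : G) = Φ.mM (a', 0, 1) := fun n hn => hcoset n hn β
  have hxy : (x : G) * y = Φ.mM (β, 0, 1 + 1) := by
    show Φ.mM (0, 0, 1) * Φ.mM (β, 0, 1) = _
    rw [← Φ.mM_add]; simp
  have hclash : ∀ (a' : F) (b : D), (b : G) ∈ zSub Φ → ∀ w ∈ W,
      Φ.mM (a', 0, 1) ≠ (x : G) * y * b * w := by
    intro a' b hb w hw e
    obtain ⟨ρ, hρ⟩ := (mem_zSub Φ).1 hb
    have hwm : (w : G) ∈ M := by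
      rw [show (w : G) = ((x : G) * y * b)⁻¹ * Φ.mM (a', 0, 1) by rw [e]; group, hxy, hρ]
      exact M.mul_mem (M.inv_mem (M.mul_mem (K.mem_M _) (K.mem_M _))) (K.mem_M _)
    rw [hWM w hw hwm, Subgroup.coe_one, mul_one, hxy, hρ, ← Φ.mM_add] at e
    have := congrArg (fun v => v.2.2) (Φ.mM_inj e)
    simp at this
  have hne : ∀ (a : F) (v : D), (v : G) = Φ.mM (a, 0, 1) → v ∉ W := by
    intro a v hv hvW
    have h := hWM v hvW (hv ▸ K.mem_M _)
    rw [h, Subgroup.coe_one, ← Φ.mM_zero] at hv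
    simpa using congrArg (fun v => v.2.2) (Φ.mM_inj hv)
  have hpair : Pair W S B x y :=
    { hx := hxS
      hy := hyS
      x1 := hne 0 x rfl
      y1 := hne β y rfl
      xy := by
        intro n hn w hw e
        obtain ⟨a', ha'⟩ := hcx n hn
        have hwm : (w : G) ∈ M := by
          rw [show w = y⁻¹ * (n * x * n⁻¹) by rw [e]; group, Subgroup.coe_mul, ha']
          exact M.mul_mem (M.inv_mem (hSM y hyS)) (K.mem_M _)
        rw [hWM w hw hwm, mul_one] at e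
        exact hβ n (hQ' n hn) (congrArg Subtype.val e)
      s1 := by
        intro b hb h
        obtain ⟨ρ, hρ⟩ := (mem_zSub Φ).1 (Subgroup.mem_subgroupOf.1 hb)
        have hb' : (b : G) = Φ.mM (ρ, 0, 0) := hρ
        have hm : ((x * y * b : D) : G) ∈ M := by
          push_cast; rw [hxy, hb']
          exact M.mul_mem (K.mem_M _) (K.mem_M _)
        have e := congrArg Subtype.val (hWM _ h hm)
        push_cast at e
        rw [hxy, hb', ← Φ.mM_add, ← Φ.mM_zero] at e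
        have := congrArg (fun v => v.2.2) (Φ.mM_inj e)
        simp at this
        exact K.two (by linear_combination this)
      sx := by
        intro n hn b hb w hw e
        obtain ⟨a', ha'⟩ := hcx n hn
        exact hclash a' b hb w hw (ha'.symm.trans (congrArg Subtype.val e))
      sy := by
        intro n hn b hb w hw e
        obtain ⟨a', ha'⟩ := hcy n hn
        exact hclash a' b hb w hw (ha'.symm.trans (congrArg Subtype.val e)) }
  have hcardB : Nat.card B = Fintype.card F := by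
    rw [Nat.card_congr (Subgroup.subgroupOfEquivOfLe (hzS.trans hSD)).toEquiv,
      card_lineSub Φ _ inA1_inj]
  have key := mod_normal hmod hpair (Or.inl ⟨hcardB ▸ K.three_dvd, fun n hn k hk => by
    obtain ⟨a, ha⟩ := hcx n hn
    obtain ⟨b, hb⟩ := hcy k hk
    refine Subgroup.mem_sup_left (Subgroup.mem_subgroupOf.2 ((mem_zSub Φ).2 ⟨a + b - β, ?_⟩))
    push_cast at ha hb ⊢
    rw [hxy, ha, hb, inv_mul_eq_iff_eq_mul, ← Φ.mM_add, ← Φ.mM_add]
    congr 1
    simp⟩)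
  intro c hc
  exact K.mem_NC_of_normalizes_z (hNz ⟨c, K.centralizer_le_kSub hc⟩ (key _) 1)

/-- An element normalising the quaternion subgroup normalises `C`. -/
theorem normalizer_tSub_le : Subgroup.normalizer (tSub Φ : Set G) ≤ NC α := by
  intro d hd
  refine K.mem_NC_of_normalizes_z ?_
  have hc := K.normalizer_centralizer hd (K.z_mem_centralizer 1)
  have h3 : (d * Φ.mM (1, 0, 0) * d⁻¹) ^ 3 ^ 1 = 1 := by
    rw [pow_one, conj_pow, K.M_cube _ (K.mem_M _), mul_one, mul_inv_cancel]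
  have hC := mem_C_of_pow Φ K.hb K.two K.three_dvd (K.centralizer_tSub_le hc) h3
  obtain ⟨a, ha | ha⟩ := K.comm_tSub hC (fun t ht => (hc t ht).symm)
  · exact ⟨a, ha⟩
  · exfalso
    rw [pow_one, ha, (show Commute (Φ.mM (a, 0, 0)) (jj Φ) from
      (Φ.central_mM a _ (Φ.el_mem _ _)).symm).mul_pow, K.M_cube _ (K.mem_M _), one_mul] at h3
    exact K.jj_cube_ne h3

end Hyp

end CfsgLib.PSpFourTypeThree
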