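import Cfsg.Agent.PSpFourTypeThree.TwoLocal
import Cfsg.Agent.Solvable.Basics
import Cfsg.Agent.ZStar.Final
import Cfsg.Agent.S0205

/-!
The involution of the Levi complement is isolated, and `C` is normal.
-/

set_option autoImplicit false
set_option linter.unusedSectionVars false
set_option linter.style.haveILetI false
set_option maxHeartbeats 400000

open scoped Classical
open CfsgLib.PSpFourNormM

namespace CfsgLib.PSpFourTypeThree

/-- A `p`-group normalising a nontrivial `p`-subgroup centralises a nontrivial element of it. -/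
theorem exists_fixed_of_normalizing {G : Type*} [Group G] [Finite G] {p : ℕ} [Fact p.Prime]
    {Y A : Subgroup G} (hY : IsPGroup p Y) (hA : IsPGroup p A) (hA1 : A ≠ ⊥)
    (hYA : Y ≤ Subgroup.normalizer (A : Set G)) :
    ∃ a ∈ A, a ≠ 1 ∧ ∀ y ∈ Y, y * a = a * y := by
  let _ : MulAction Y A :=
    { smul := fun y a => ⟨(y : G) * a * (y : G)⁻¹, (Subgroup.mem_normalizer_iff.1 (hYA y.2) a).1 a.2⟩
      one_smul := fun a => Subtype.ext (show (1 : G) * a * (1 : G)⁻¹ = a by group)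
      mul_smul := fun y z a => Subtype.ext (show ((y : G) * z) * a * ((y : G) * z)⁻¹ =
        (y : G) * ((z : G) * a * (z : G)⁻¹) * (y : G)⁻¹ by group) }
  have hd : p ∣ Nat.card A := by
    obtain ⟨n, hn⟩ := IsPGroup.iff_card.1 hA
    rcases Nat.eq_zero_or_pos n with rfl | hn0
    · rw [pow_zero] at hn
      exact absurd (Subgroup.card_eq_one.1 hn) hA1
    · rw [hn]; exact dvd_pow_self p hn0.ne'
  have h1 : (1 : A) ∈ MulAction.fixedPoints Y A := fun y =>
    Subtype.ext (show (y : G) * ((1 : A) : G) * (y : G)⁻¹ = ((1 : A) : G) by simp)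
  obtain ⟨a, ha, ha1⟩ := hY.exists_fixed_point_of_prime_dvd_card_of_fixed_point A hd h1
  exact ⟨a, a.2, fun e => ha1 (Subtype.ext e.symm), fun y hy =>
    mul_inv_eq_iff_eq_mul.1 (congrArg Subtype.val (ha ⟨y, hy⟩))⟩

theorem sl_sq_one {F : Type*} [Field F] (h2 : (2 : F) ≠ 0) {A : Matrix.SpecialLinearGroup (Fin 2) F}
    (h : A * A = 1) : A = 1 ∨ A = dS (-1 : Fˣ) := by
  have g := fun i j => congrFun (congrFun (congrArg Subtype.val h) i) j
  have g00 := g 0 0
  have g01 := g 0 1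
  have g10 := g 1 0
  have hd := A.2
  rw [Matrix.det_fin_two] at hd
  simp [Matrix.SpecialLinearGroup.coe_mul, Matrix.mul_apply, Fin.sum_univ_two] at g00 g01 g10
  have hs : A.1 0 0 + A.1 1 1 ≠ 0 := fun e => h2 (by linear_combination -g00 - hd + A.1 0 0 * e)
  have h01 : A.1 0 1 = 0 := (mul_eq_zero.1
    (show (A.1 0 0 + A.1 1 1) * A.1 0 1 = 0 by linear_combination g01)).resolve_left hs
  have h10 : A.1 1 0 = 0 := (mul_eq_zero.1
    (show (A.1 0 0 + A.1 1 1) * A.1 1 0 = 0 by linear_combination g10)).resolve_left hs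
  rw [h01, h10, mul_zero, add_zero] at g00
  rw [h01, zero_mul, sub_zero] at hd
  rcases mul_self_eq_one_iff.1 g00 with e | e
  · left
    rw [e, one_mul] at hd
    refine Subtype.ext ?_
    ext i j
    fin_cases i <;> fin_cases j <;> simp [h01, h10, e, hd]
  · right
    rw [e] at hd
    have h11 : A.1 1 1 = -1 := by linear_combination -hd
    refine Subtype.ext ?_
    ext i j
    fin_cases i <;> fin_cases j <;> simp [h01, h10, e, h11]

variable {F : Type*} [Field F] {G : Type*} [Group G] {α : G}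
  (Φ : Frame F (Subgroup.centralizer ({α} : Set G))) [CharP F 3] [Fintype F] [Finite G]

/-- The Sylow `3`-subgroup of the centraliser of `j`. -/
def zuSub : Subgroup G where
  carrier := {g | ∃ a c : F, g = Φ.mM (a, 0, c)}
  one_mem' := ⟨0, 0, by rw [show ((0, 0, 0) : V F) = 0 from rfl, Φ.mM_zero]⟩
  mul_mem' := by
    rintro _ _ ⟨a, c, rfl⟩ ⟨a', c', rfl⟩
    exact ⟨a + a', c + c', by rw [← Φ.mM_add]; simp⟩
  inv_mem' := by
    rintro _ ⟨a, c, rfl⟩
    refine ⟨-a, -c, inv_eq_of_mul_eq_one_right ?_⟩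
    rw [← Φ.mM_add, ← Φ.mM_zero]
    congr 1
    simp

namespace Hyp

variable {Φ} {P : Sylow 3 G} {M : Subgroup G} (K : Hyp Φ P M)
include K

theorem zu_le_DJ : zuSub Φ ≤ DJ Φ := by
  rintro _ ⟨a, c, rfl⟩
  refine Subgroup.mem_centralizer_singleton_iff.2 ?_
  show Φ.mM (a, 0, c) * Φ.hH (-1) = Φ.hH (-1) * Φ.mM (a, 0, c)
  rw [Φ.hH_mM]
  simp

theorem zu_maximal {y : G} (hyD : y ∈ DJ Φ) (hyN : y ∈ Subgroup.normalizer (zuSub Φ : Set G))
    {k : ℕ} (hk : y ^ 3 ^ k = 1) : y ∈ zuSub Φ := by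
  haveI : Fact (Nat.Prime 3) := ⟨Nat.prime_three⟩
  have hzp : IsPGroup 3 (zuSub Φ) := fun g => ⟨1, Subtype.ext (by
    obtain ⟨a, c, e⟩ := g.2
    simpa using K.M_cube _ (e ▸ K.mem_M _))⟩
  have hz1 : zuSub Φ ≠ ⊥ := fun e =>
    z_ne_one Φ (one_ne_zero (α := F)) ((Subgroup.eq_bot_iff_forall _).1 e _ ⟨1, 0, rfl⟩)
  obtain ⟨w, ⟨a, c, rfl⟩, hw1, hw⟩ := exists_fixed_of_normalizing (isPGroup_zpowers hk) hzp hz1
    (Subgroup.zpowers_le.2 hyN)
  have hyw := hw y (Subgroup.mem_zpowers y)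
  have hyC : y ∈ CA α := by
    by_cases hc : c = 0
    · subst hc
      refine mem_C_of_comm_z Φ K.hb (a := a) ?_ hyw
      rintro rfl
      exact hw1 (by rw [show ((0, 0, 0) : V F) = 0 from rfl, Φ.mM_zero])
    · have hnat : ∀ (W : G), W ∈ Subgroup.zpowers (Φ.mM (a, 0, c)) →
          ∃ r : F, W = Φ.mM (r * a, 0, r * c) := by
        intro W hW
        obtain ⟨n, rfl⟩ := Subgroup.mem_zpowers_iff.1 hW
        have hn : ∀ r : ℕ, Φ.mM (a, 0, c) ^ r = Φ.mM ((r : F) * a, 0, (r : F) * c) := by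
          intro r
          induction r with
          | zero => simp [Φ.mM_zero, show ((0, 0, 0) : V F) = 0 from rfl]
          | succ r ih =>
            rw [pow_succ, ih, ← Φ.mM_add]; simp [add_mul]
        cases n with
        | ofNat r => exact ⟨r, by simp [hn]⟩
        | negSucc r =>
          refine ⟨-((r + 1 : ℕ) : F), ?_⟩
          rw [zpow_negSucc, hn, inv_eq_iff_mul_eq_one, ← Φ.mM_add, ← Φ.mM_zero]
          congr 1
          simp
          constructor <;> ring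
      have hslant : Slant Φ M (Subgroup.zpowers (Φ.mM (a, 0, c))) := by
        refine ⟨Subgroup.zpowers_le.2 (K.mem_M _), ?_, ?_, ?_⟩
        · intro x y z h
          obtain ⟨r, hr⟩ := hnat _ h
          have := Φ.mM_inj hr
          simp at this
          exact this.2.1
        · intro x h
          obtain ⟨r, hr⟩ := hnat _ h
          have := Φ.mM_inj hr
          simp [hc] at this
          obtain ⟨h1, rfl⟩ := this
          simp at h1
          exact h1
        · intro e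
          exact hw1 (Subgroup.zpowers_eq_bot.1 e)
      refine K.P_le_C (K.mem_P_of_pow (K.cent_slant _ hslant fun v hv => ?_) hk)
      obtain ⟨n, rfl⟩ := Subgroup.mem_zpowers_iff.1 hv
      exact (Commute.zpow_right (show Commute y (Φ.mM (a, 0, c)) from hyw) n).eq.symm
  obtain ⟨a', c', e⟩ := (Subgroup.mem_normalizer_iff.1 hyN _).1
    (⟨0, 1, rfl⟩ : Φ.mM (0, 0, 1) ∈ zuSub Φ)
  obtain ⟨u, t, l, hy⟩ := Φ.normalizer_form hyC ⟨(0, 0, a'), c', e⟩
  have hM : ∀ (g : G) (σ : Equiv.Perm (V F)), (∀ v, g * Φ.mM v = Φ.mM (σ v) * g) →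
      g ∈ Subgroup.normalizer (M : Set G) := by
    intro g σ hσ
    refine Subgroup.mem_normalizer_iff.mpr fun z => ⟨fun hz => ?_, fun hz => ?_⟩
    · obtain ⟨w, rfl⟩ := (K.hM z).mp hz
      exact (K.hM _).mpr ⟨σ w, by rw [hσ, mul_inv_cancel_right]⟩
    · obtain ⟨w, hw⟩ := (K.hM _).mp hz
      refine (K.hM z).mpr ⟨σ.symm w, ?_⟩
      have h := hσ (σ.symm w)
      rw [Equiv.apply_symm_apply, ← hw] at h
      exact (mul_left_cancel (a := g) (by rw [h]; group)).symm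
  have hyM : y ∈ Subgroup.normalizer (M : Set G) := by
    rw [hy]
    exact mul_mem (mul_mem (Subgroup.le_normalizer (K.mem_M u)) (hM _ _ (Φ.sS_mM t)))
      (hM _ _ (Φ.hH_mM l))
  obtain ⟨v, s, hy'⟩ := (K.hP _).1 (K.mem_P_of_pow hyM hk)
  obtain ⟨d, A, hd⟩ := K.C_inter_DJ hyC hyD
  have h' := Φ.mM_sS_hH v s 1
  rw [Φ.hH_one, mul_one, dS_one, mul_one, ← hy', hd] at h'
  have e' := (Φ.inj _ _ _ _ h').1
  simp at e'
  obtain ⟨e1, e2, -⟩ := e'
  obtain ⟨p, q, r⟩ := v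
  refine ⟨p, r, ?_⟩
  simp at e1
  rw [hy', show s = 0 by first | exact e2 | exact e2.symm | linear_combination e2, Φ.sS_zero, mul_one]
  congr 1
  simp
  rw [show s = 0 by first | exact e2 | exact e2.symm | linear_combination e2] at e1
  simpa [eq_comm] using e1

theorem three_conj {y : G} (hyD : y ∈ DJ Φ) (hy : y ^ 3 = 1) :
    ∃ d ∈ DJ Φ, d * y * d⁻¹ ∈ zuSub Φ := by
  haveI : Fact (Nat.Prime 3) := ⟨Nat.prime_three⟩
  have hzp : IsPGroup 3 ((zuSub Φ).subgroupOf (DJ Φ)) := fun g => ⟨1, Subtype.ext (Subtype.ext (by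
    obtain ⟨a, c, e⟩ := (Subgroup.mem_subgroupOf.1 g.2 : _)
    simpa using K.M_cube _ (e ▸ K.mem_M _)))⟩
  obtain ⟨R, hR⟩ := hzp.exists_le_sylow
  have hRT : (R : Subgroup (DJ Φ)) = (zuSub Φ).subgroupOf (DJ Φ) := by
    refine le_antisymm ?_ hR
    by_contra hne
    haveI : Group.IsNilpotent (R : Subgroup (DJ Φ)) := R.isPGroup'.isNilpotent
    have htop : ((zuSub Φ).subgroupOf (DJ Φ)).subgroupOf R < ⊤ := lt_top_iff_ne_top.mpr fun e =>
      hne fun g hg => (show (⟨g, hg⟩ : (R : Subgroup (DJ Φ))) ∈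
        ((zuSub Φ).subgroupOf (DJ Φ)).subgroupOf R from e ▸ Subgroup.mem_top _)
    obtain ⟨⟨z, hzR⟩, hzN, hzS⟩ :=
      SetLike.exists_of_lt (Group.normalizerCondition_of_isNilpotent _ htop)
    apply hzS
    show (z : G) ∈ zuSub Φ
    obtain ⟨k, hk⟩ := R.isPGroup' ⟨z, hzR⟩
    refine K.zu_maximal z.2 ?_ (congrArg (fun w : (R : Subgroup (DJ Φ)) => ((w : DJ Φ) : G)) hk)
    refine Subgroup.mem_normalizer_iff.2 fun v => ⟨fun hv => ?_, fun hv => ?_⟩
    · exact (Subgroup.mem_normalizer_iff.1 hzN ⟨⟨v, K.zu_le_DJ hv⟩, hR hv⟩).1 hv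
    · have hv' : v ∈ DJ Φ := by
        have := mul_mem (mul_mem (inv_mem z.2) (K.zu_le_DJ hv)) z.2
        simpa [mul_assoc] using this
      have hvR : (⟨v, hv'⟩ : DJ Φ) ∈ (R : Subgroup (DJ Φ)) := by
        have hin : z * ⟨v, hv'⟩ * z⁻¹ ∈ (R : Subgroup (DJ Φ)) := hR hv
        have := mul_mem (mul_mem (inv_mem hzR) hin) hzR
        simpa [mul_assoc] using this
      exact (Subgroup.mem_normalizer_iff.1 hzN ⟨⟨v, hv'⟩, hvR⟩).2 hv
  have hy2 : IsPGroup 3 (Subgroup.zpowers (⟨y, hyD⟩ : DJ Φ)) :=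
    pow_eq_one_of_cube (Subtype.ext (by simpa using hy))
  obtain ⟨R', hR'⟩ := hy2.exists_le_sylow
  obtain ⟨d, hd⟩ := MulAction.exists_smul_eq (DJ Φ) R' R
  refine ⟨d, d.2, ?_⟩
  have hmem : d * ⟨y, hyD⟩ * d⁻¹ ∈ (R : Subgroup (DJ Φ)) := by
    rw [← hd, Sylow.smul_def, Sylow.pointwise_smul_def]
    exact Subgroup.smul_mem_pointwise_smul _ (MulAut.conj d) _ (hR' (Subgroup.mem_zpowers _))
  rw [hRT] at hmem
  exact hmem

/-- A conjugate of `j` normalising `C` and commuting with `j` is `j`. -/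
theorem eq_jj {i g : G} (hiN : i ∈ NC α) (hiD : i ∈ DJ Φ) (hg : g * jj Φ * g⁻¹ = i) : i = jj Φ := by
  have h2 := K.two
  have hii : i * i = 1 := by
    rw [← hg, show g * jj Φ * g⁻¹ * (g * jj Φ * g⁻¹) = g * (jj Φ * jj Φ) * g⁻¹ by group, K.jj_sq]
    group
  have hi1 : i ≠ 1 := fun e => K.jj_ne (by simpa [e] using hg)
  by_cases hiC : i ∈ CA α
  · obtain ⟨a, A, rfl⟩ := K.C_inter_DJ hiC hiD
    rw [K.el_zero_sq, ← Φ.el_one] at hii
    obtain ⟨h1, hA⟩ := Φ.inj _ _ _ _ hii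
    have ha : a = 0 := by
      have := congrArg (fun v => v.2.2) h1
      simp at this
      exact mul_left_cancel₀ h2 (by linear_combination this)
    subst ha
    rcases sl_sq_one h2 hA with rfl | rfl
    · exact absurd Φ.el_one hi1
    · rfl
  exfalso
  have hiinv : i⁻¹ = i := inv_eq_of_mul_eq_one_right hii
  -- `i` inverts the centre
  have hinv : ∀ a : F, i * Φ.mM (a, 0, 0) * i⁻¹ = Φ.mM (-a, 0, 0) := by
    intro a
    obtain ⟨a', ha'⟩ := exists_z_conj Φ h2 hiN a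
    have hback : i * Φ.mM (a', 0, 0) * i⁻¹ = Φ.mM (a, 0, 0) := by
      calc i * Φ.mM (a', 0, 0) * i⁻¹ = (i * i) * Φ.mM (a, 0, 0) * (i * i)⁻¹ := by rw [← ha']; group
        _ = _ := by rw [hii]; group
    have hsum : i * Φ.mM (a + a', 0, 0) * i⁻¹ = Φ.mM (a + a', 0, 0) := by
      have e : Φ.mM (a + a', 0, 0) = Φ.mM (a, 0, 0) * Φ.mM (a', 0, 0) := by rw [← Φ.mM_add]; simp
      rw [show i * Φ.mM (a + a', 0, 0) * i⁻¹ =
        (i * Φ.mM (a, 0, 0) * i⁻¹) * (i * Φ.mM (a', 0, 0) * i⁻¹) by rw [e]; group, ha', hback,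
        ← Φ.mM_add]
      simp [add_comm]
    have h0 : a + a' = 0 := by
      by_contra h0
      exact hiC (mem_C_of_comm_z Φ K.hb h0 (mul_inv_eq_iff_eq_mul.1 hsum))
    rw [ha', show a' = -a by linear_combination h0]
  -- a translation, outside the centre, moved to itself modulo the centre
  obtain ⟨w1, w2, s, d, hw, hiw⟩ : ∃ w1 w2 s d : F, (w1 ≠ 0 ∨ w2 ≠ 0) ∧
      i * Φ.el (w1, w2, s) 1 * i⁻¹ = Φ.el (w1, w2, s + d) 1 := by
    obtain ⟨⟨p1, p2, p3⟩, hp⟩ := K.isQ_conj hiN ⟨(1, 0, 0), rfl⟩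
    obtain ⟨⟨r1, r2, r3⟩, hr⟩ := K.isQ_conj hiN ⟨(0, 1, 0), rfl⟩
    have key : ∀ v w : F × F × F, i * Φ.el v 1 * i⁻¹ = Φ.el w 1 →
        ∃ s d : F, i * Φ.el (v.1 + w.1, v.2.1 + w.2.1, s) 1 * i⁻¹ =
          Φ.el (v.1 + w.1, v.2.1 + w.2.1, s + d) 1 := by
      intro v w h
      refine ⟨v.2.2 + w.2.2 + (v.1 * w.2.1 - v.2.1 * w.1),
        (w.2.2 + v.2.2 + (w.1 * v.2.1 - w.2.1 * v.1)) - (v.2.2 + w.2.2 + (v.1 * w.2.1 - v.2.1 * w.1)), ?_⟩
      rw [← el_one_mul, show i * (Φ.el v 1 * Φ.el w 1) * i⁻¹ =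
        (i * Φ.el v 1 * i⁻¹) * (i * Φ.el w 1 * i⁻¹) by group]
      have hw : i * Φ.el w 1 * i⁻¹ = Φ.el v 1 := by
        rw [← h, hiinv]
        calc i * (i * Φ.el v 1 * i) * i = (i * i) * Φ.el v 1 * (i * i) := by group
          _ = _ := by rw [hii]; group
      rw [h, hw, el_one_mul]
      congr 1
      simp [add_comm]
    by_contra hall
    push Not at hall
    have t1 : p1 = -1 ∧ p2 = 0 := by
      obtain ⟨s, d, e⟩ := key (1, 0, 0) (p1, p2, p3) hp
      by_contra hne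
      refine hall _ _ s d ?_ e
      by_contra h
      push Not at h
      exact hne ⟨by linear_combination h.1, by simpa using h.2⟩
    have t2 : r1 = 0 ∧ r2 = -1 := by
      obtain ⟨s, d, e⟩ := key (0, 1, 0) (r1, r2, r3) hr
      by_contra hne
      refine hall _ _ s d ?_ e
      by_contra h
      push Not at h
      exact hne ⟨by simpa using h.1, by linear_combination h.2⟩
    obtain ⟨rfl, rfl⟩ := t1
    obtain ⟨rfl, rfl⟩ := t2
    have hc : Φ.el ((1 : F), 0, 0) 1 * Φ.el (0, 1, 0) 1 =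
        Φ.mM (2, 0, 0) * (Φ.el (0, 1, 0) 1 * Φ.el (1, 0, 0) 1) := by
      rw [el_z, el_one_mul, el_one_mul, el_one_mul]
      congr 1
      simp
      ring
    have h := congrArg (fun v => i * v * i⁻¹) hc
    rw [show i * (Φ.el ((1 : F), 0, 0) 1 * Φ.el (0, 1, 0) 1) * i⁻¹ =
        (i * Φ.el ((1 : F), 0, 0) 1 * i⁻¹) * (i * Φ.el (0, 1, 0) 1 * i⁻¹) by group,
      show i * (Φ.mM (2, 0, 0) * (Φ.el (0, 1, 0) 1 * Φ.el ((1 : F), 0, 0) 1)) * i⁻¹ =
        (i * Φ.mM (2, 0, 0) * i⁻¹) * ((i * Φ.el (0, 1, 0) 1 * i⁻¹) * (i * Φ.el ((1 : F), 0, 0) 1 * i⁻¹)) by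
        group, hp, hr, hinv, el_z, el_one_mul, el_one_mul, el_one_mul] at h
    have := congrArg (fun w => w.2.2) (Φ.inj _ _ _ _ h).1
    simp at this
    exact h2 (mul_left_cancel₀ h2 (by linear_combination this))
  -- a fixed lift
  obtain ⟨e, he⟩ : ∃ e : F, e + e = d := ⟨d / 2, by field_simp; ring⟩
  have hyi : i * Φ.el (w1, w2, s + e) 1 * i⁻¹ = Φ.el (w1, w2, s + e) 1 := by
    have hsplit : Φ.el (w1, w2, s + e) 1 = Φ.el (w1, w2, s) 1 * Φ.mM (e, 0, 0) := by
      rw [el_z, el_one_mul]; congr 1; simp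
    rw [hsplit, show i * (Φ.el (w1, w2, s) 1 * Φ.mM (e, 0, 0)) * i⁻¹ =
      (i * Φ.el (w1, w2, s) 1 * i⁻¹) * (i * Φ.mM (e, 0, 0) * i⁻¹) by group, hiw, hinv, el_z, el_z,
      el_one_mul, el_one_mul]
    congr 1
    simp
    linear_combination -he
  set y := Φ.el (w1, w2, s + e) 1
  have hy3 : y ^ 3 = 1 := by
    rw [pow_succ, pow_two, el_one_mul, el_one_mul, ← Φ.el_one]
    congr 1
    have h3 := K.three
    simp only [Prod.ext_iff, Prod.fst_zero, Prod.snd_zero]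
    refine ⟨?_, ?_, ?_⟩
    · linear_combination w1 * h3
    · linear_combination w2 * h3
    · linear_combination (s + e) * h3
  have hxD : g⁻¹ * y * g ∈ DJ Φ := by
    rw [Subgroup.mem_centralizer_singleton_iff]
    have hcomm : i * y = y * i := mul_inv_eq_iff_eq_mul.1 hyi
    rw [← hg] at hcomm
    calc g⁻¹ * y * g * jj Φ = g⁻¹ * (y * (g * jj Φ * g⁻¹)) * g := by group
      _ = g⁻¹ * (g * jj Φ * g⁻¹ * y) * g := by rw [hcomm]
      _ = _ := by group
  obtain ⟨d', hd', a, c, hdy⟩ := K.three_conj hxD (by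
    rw [show g⁻¹ * y * g = g⁻¹ * y * g⁻¹⁻¹ by group, conj_pow, hy3]; group)
  obtain ⟨k, hk, a', hk'⟩ := K.C_conj_Q w1 w2 (s + e) hw
  have hfus : (d' * g⁻¹ * k⁻¹) * Φ.mM (a', 1, 0) * (d' * g⁻¹ * k⁻¹)⁻¹ = Φ.mM (a, 0, c) := by
    rw [← hk', ← hdy]; simp only [y]; group
  obtain ⟨n, -, hn, hne⟩ := K.conj_M (H := ⊤) le_top (K.mem_M _) (K.mem_M _) (Subgroup.mem_top _) hfus
  have hact := K.act_eq hn hne
  have hc0 := K.act_plane hn a' 1
  rw [hact] at hc0
  obtain rfl : c = 0 := hc0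
  have hninv : act Φ n⁻¹ (a, 0, 0) = (a', 1, 0) := by
    refine K.act_eq (inv_mem hn) ?_
    rw [← hne]; group
  obtain ⟨b, hb⟩ := K.act_Z (inv_mem hn) a
  rw [hninv] at hb
  simpa using congrArg (fun v => v.2.1) hb

theorem jj_isolated : Cfsg.IsIsolatedInvolution (jj Φ) := by
  refine ⟨orderOf_eq_prime (by rw [pow_two, K.jj_sq]) K.jj_ne, fun g hg => ?_⟩
  set t := g * jj Φ * g⁻¹ with ht
  have htD : t ∈ DJ Φ := Subgroup.mem_centralizer_singleton_iff.2 hg.eq.symm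
  have htt : t * t = 1 := by
    rw [ht, show g * jj Φ * g⁻¹ * (g * jj Φ * g⁻¹) = g * (jj Φ * jj Φ) * g⁻¹ by group, K.jj_sq]
    group
  obtain ⟨d, hd, hdN⟩ := K.involution_conj htt htD
  have hdt : d * t * d⁻¹ ∈ DJ Φ := mul_mem (mul_mem hd htD) (inv_mem hd)
  have e := K.eq_jj (g := d * g) hdN hdt (by rw [ht]; group)
  calc t = d⁻¹ * (d * t * d⁻¹) * d := by group
    _ = d⁻¹ * (jj Φ * d) := by rw [e]; group
    _ = _ := by rw [← Subgroup.mem_centralizer_singleton_iff.1 hd, inv_mul_cancel_left]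

/-- `C` is normal. -/
theorem normal : (CA α).Normal := by
  haveI : Fact (Nat.Prime 3) := ⟨Nat.prime_three⟩
  have h2 := K.two
  obtain ⟨O, hOn, hOodd, hO⟩ := CfsgLib.ZStar.zstar K.jj_isolated
  haveI := hOn
  have hcube : ∀ w : F × F × F, Φ.el w 1 ^ 3 = 1 := by
    rintro ⟨p, r, s⟩
    rw [pow_succ, pow_two, el_one_mul, el_one_mul, ← Φ.el_one]
    congr 1
    have h3 := K.three
    simp only [Prod.ext_iff, Prod.fst_zero, Prod.snd_zero]
    refine ⟨?_, ?_, ?_⟩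
    · linear_combination p * h3
    · linear_combination r * h3
    · linear_combination s * h3
  set y := Φ.el ((1 : F), 0, 0) 1
  have hjy : jj Φ * y * (jj Φ)⁻¹ = y⁻¹ := by
    show Φ.el 0 (dS (-1)) * Φ.el (1, 0, 0) 1 * (Φ.el 0 (dS (-1)))⁻¹ = _
    rw [el_conj, mul_one, mul_inv_cancel, eq_inv_iff_mul_eq_one, el_one_mul, ← Φ.el_one]
    congr 1
    simp [vmul, Prod.ext_iff]
  have hyO : y ∈ O := by
    have h := hO y
    rw [hjy] at h
    have e : y = y⁻¹ * y⁻¹ := by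
      rw [← mul_inv_rev, eq_inv_iff_mul_eq_one, ← pow_two, ← pow_succ', hcube]
    rw [e]; exact h
  have hy1 : y ≠ 1 := fun e => by
    have := congrArg Prod.fst (Φ.inj _ _ _ _ (e.trans Φ.el_one.symm)).1
    simp at this
  have hO1 : O ≠ ⊥ := fun e => hy1 ((Subgroup.eq_bot_iff_forall _).1 e _ hyO)
  obtain ⟨A, hAn, hA1, hAO, hmin⟩ := CfsgLib.Solvable.exists_minimal_normal_le hO1
  haveI := hAn
  haveI hOs : Group.IsSolvable O := Cfsg.Agent.S0205.result hOodd
  have hAs : Group.IsSolvable A := Group.isSolvable_of_isSolvable_injective (Subgroup.inclusion_injective hAO)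
  obtain ⟨hAc, p, hp, hAp, hApg⟩ := CfsgLib.Solvable.minimal_normal_elementary hA1 hmin hAs
  haveI := hAc
  haveI := Fact.mk hp
  by_cases hp3 : p = 3
  · subst hp3
    have hAP : A ≤ (P : Subgroup G) := by
      have hsup : IsPGroup 3 (A ⊔ (P : Subgroup G) : Subgroup G) :=
        hApg.to_sup_of_normal_left P.isPGroup'
      rw [← P.is_maximal' hsup le_sup_right]
      exact le_sup_left
    obtain ⟨a, haA, ha1, hac⟩ := exists_fixed_of_normalizing P.isPGroup' hApg hA1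
      (fun v _ => by rw [Subgroup.normalizer_eq_top]; trivial)
    obtain ⟨z, rfl⟩ := exists_z_of_comm Φ h2 (K.P_le_C (hAP haA))
      (fun u => (hac _ (K.M_le_P (K.mem_M u))).symm)
      (hac _ (by simpa [Φ.mM_zero] using K.mem_P 0 1)).symm
    have hz : z ≠ 0 := by
      rintro rfl
      exact ha1 (by rw [show ((0, 0, 0) : V F) = 0 from rfl, Φ.mM_zero])
    exact ⟨fun c hc g => (Subgroup.mem_normalizer_iff.1
      (K.strong hz (hAP (hAn.conj_mem _ haA g))) c).1 hc⟩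
  · exfalso
    haveI : IsMulCommutative (zSub Φ) := ⟨⟨fun u v =>
      Subtype.ext (K.M_comm _ (K.lineSub_le_M _ u.2) _ (K.lineSub_le_M _ v.2))⟩⟩
    have hcop : (Nat.card (zSub Φ)).Coprime (Nat.card A) := by
      obtain ⟨n, -, e⟩ := K.pow
      obtain ⟨m, hm⟩ := IsPGroup.iff_card.1 hApg
      rw [card_lineSub Φ _ inA1_inj, e, hm]
      exact Nat.coprime_pow_primes _ _ Nat.prime_three hp (Ne.symm hp3)
    have hgen := CfsgLib.CoprimeAct.generated_by_centralizers (A := zSub Φ) (K := A) K.zSub_not_cyclic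
      (fun v _ => by rw [Subgroup.normalizer_eq_top]; trivial) hcop
    have hAC : A ≤ CA α := by
      rw [← hgen]
      refine iSup₂_le fun z hz => ?_
      rintro g ⟨-, hg2⟩
      obtain ⟨⟨z', rfl⟩, hz1⟩ := hz
      refine mem_C_of_comm_z Φ K.hb (a := z') ?_ (Subgroup.mem_centralizer_singleton_iff.1 hg2)
      rintro rfl
      exact hz1 (by rw [show inA1 F 0 = 0 from map_zero _, Φ.mM_zero])
    apply hA1
    rw [Subgroup.eq_bot_iff_forall]
    intro a ha
    have hsmall : ∀ g ∈ A, g ^ 3 = 1 → g = 1 := by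
      intro g hg h3
      have h := Nat.dvd_gcd (orderOf_dvd_of_pow_eq_one h3) (orderOf_dvd_of_pow_eq_one (hAp g hg))
      rw [((Nat.coprime_primes Nat.prime_three hp).2 (Ne.symm hp3)).gcd_eq_one, Nat.dvd_one] at h
      exact orderOf_eq_one_iff.1 h
    have hcommQ : ∀ w : F × F × F, a * Φ.el w 1 = Φ.el w 1 * a := by
      intro w
      have haN : a ∈ NC α := Subgroup.le_normalizer (hAC ha)
      obtain ⟨w', hw'⟩ := K.isQ_conj haN ⟨w, rfl⟩
      have hmem : a * Φ.el w 1 * a⁻¹ * (Φ.el w 1)⁻¹ ∈ A := by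
        rw [show a * Φ.el w 1 * a⁻¹ * (Φ.el w 1)⁻¹ =
          a * (Φ.el w 1 * a⁻¹ * (Φ.el w 1)⁻¹) by group]
        exact mul_mem ha (hAn.conj_mem _ (inv_mem ha) _)
      have hQ3 : (a * Φ.el w 1 * a⁻¹ * (Φ.el w 1)⁻¹) ^ 3 = 1 := by
        rw [hw']
        obtain ⟨w1, w2, w3⟩ := w
        have hinv : (Φ.el (w1, w2, w3) 1)⁻¹ = Φ.el (-w1, -w2, -w3) 1 := by
          refine inv_eq_of_mul_eq_one_right ?_
          rw [el_one_mul, ← Φ.el_one]
          congr 1
          simp [Prod.ext_iff]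
          ring
        rw [hinv, el_one_mul]
        exact hcube _
      exact mul_inv_eq_iff_eq_mul.1 (mul_inv_eq_one.1 (hsmall _ hmem hQ3))
    obtain ⟨v, T, rfl⟩ := (Φ.mem_iff a).1 (hAC ha)
    have hT : T = 1 := by
      have e1 := hcommQ (1, 0, 0)
      have e2 := hcommQ (0, 1, 0)
      rw [Φ.mul, Φ.mul] at e1 e2
      have a1 := congrArg Prod.fst (Φ.inj _ _ _ _ e1).1
      have a2 := congrArg (fun w => w.2.1) (Φ.inj _ _ _ _ e1).1
      have b1 := congrArg Prod.fst (Φ.inj _ _ _ _ e2).1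
      have b2 := congrArg (fun w => w.2.1) (Φ.inj _ _ _ _ e2).1
      simp [vmul] at a1 a2 b1 b2
      refine Subtype.ext ?_
      ext i j
      fin_cases i <;> fin_cases j <;>
        simp <;>
        first
          | linear_combination a1 | linear_combination -a1 | linear_combination a2
          | linear_combination -a2 | linear_combination b1 | linear_combination -b1
          | linear_combination b2 | linear_combination -b2
    subst hT
    exact hsmall _ ha (hcube v)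

/-- Every element factorises. -/
theorem factor (g : G) :
    ∃ c k : G, c ∈ CA α ∧ k ∈ Subgroup.normalizer (M : Set G) ∧ g = c * k := by
  haveI : Fact (Nat.Prime 3) := ⟨Nat.prime_three⟩
  have hn := K.normal
  have hle : ((g • P : Sylow 3 G) : Subgroup G) ≤ CA α := by
    intro v hv
    rw [Sylow.smul_def, Sylow.pointwise_smul_def] at hv
    obtain ⟨w, hw, rfl⟩ := hv
    exact hn.conj_mem _ (K.P_le_C hw) g
  obtain ⟨c, hc⟩ := MulAction.exists_smul_eq (CA α) ((g • P).subtype hle) (P.subtype K.P_le_C)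
  set m := (c : G) * g
  have hm : ∀ v ∈ (P : Subgroup G), m * v * m⁻¹ ∈ (P : Subgroup G) := by
    intro v hv
    have hgv : g * v * g⁻¹ ∈ ((g • P : Sylow 3 G) : Subgroup G) := by
      rw [Sylow.smul_def, Sylow.pointwise_smul_def]
      exact Subgroup.smul_mem_pointwise_smul _ (MulAut.conj g) _ hv
    have h : c * ⟨g * v * g⁻¹, hle hgv⟩ * c⁻¹ ∈
        ((P.subtype K.P_le_C : Sylow 3 (CA α)) : Subgroup (CA α)) := by
      rw [← hc, Sylow.smul_def, Sylow.pointwise_smul_def]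
      exact Subgroup.smul_mem_pointwise_smul _ (MulAut.conj c) _ (by
        rw [Sylow.coe_subtype, Subgroup.mem_subgroupOf]; exact hgv)
    rw [Sylow.coe_subtype, Subgroup.mem_subgroupOf] at h
    simpa [m, mul_assoc] using h
  have he : M.map (MulAut.conj m).toMonoidHom = M := by
    refine K.unique_M _ ?_ ?_ ?_
    · rintro _ ⟨v, hv, rfl⟩
      exact hm v (K.M_le_P hv)
    · rintro _ ⟨u, hu, rfl⟩ _ ⟨v, hv, rfl⟩
      rw [← map_mul, K.M_comm u hu v hv, map_mul]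
    · exact (Nat.card_congr (M.equivMapOfInjective _ (MulAut.conj m).injective).toEquiv).symm
  refine ⟨(c : G)⁻¹, m, inv_mem c.2, ?_, (inv_mul_cancel_left _ _).symm⟩
  refine Subgroup.mem_normalizer_iff.2 fun v => ⟨fun hv => he ▸ ⟨v, hv, rfl⟩, fun hv => ?_⟩
  rw [← he] at hv
  obtain ⟨w, hw, e⟩ := hv
  exact (MulAut.conj m).injective e ▸ hw

end Hyp

end CfsgLib.PSpFourTypeThree
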