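import Cfsg.Agent.PSpFourTypeThree.Base

/-!
The linear action of `N_G(M)` on `M` when `N_G(M)` normalises the Sylow subgroup, and strong closure
of the centre.
-/

set_option autoImplicit false
set_option linter.unusedSectionVars false
set_option linter.style.haveILetI false
set_option maxHeartbeats 400000

open scoped Classical
open CfsgLib.PSpFourNormM

namespace CfsgLib.PSpFourTypeThree

variable {F : Type*} [Field F] [Fintype F] {G : Type*} [Group G] [Finite G] {α : G}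
  (Φ : Frame F (Subgroup.centralizer ({α} : Set G)))

/-- The action on the coordinates of `M`. -/
noncomputable def act (g : G) (v : V F) : V F :=
  if h : ∃ w, g * Φ.mM v * g⁻¹ = Φ.mM w then h.choose else v

theorem el_conj (T : Matrix.SpecialLinearGroup (Fin 2) F) (w : F × F × F)
    (A : Matrix.SpecialLinearGroup (Fin 2) F) :
    Φ.el 0 T * Φ.el w A * (Φ.el 0 T)⁻¹ = Φ.el (vmul 0 T w) (T * A * T⁻¹) := by
  rw [mul_inv_eq_iff_eq_mul, Φ.mul, Φ.mul, inv_mul_cancel_right]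
  congr 1
  simp [vmul]

namespace Hyp

variable {Φ} {P : Sylow 3 G} {M : Subgroup G} (K : Hyp Φ P M)
include K

theorem act_spec {g : G} (hg : g ∈ Subgroup.normalizer (M : Set G)) (v : V F) :
    g * Φ.mM v * g⁻¹ = Φ.mM (act Φ g v) := by
  have h : ∃ w, g * Φ.mM v * g⁻¹ = Φ.mM w :=
    (K.hM _).1 ((Subgroup.mem_normalizer_iff.1 hg _).1 (K.mem_M v))
  rw [act, dif_pos h]
  exact h.choose_spec

theorem act_eq {g : G} (hg : g ∈ Subgroup.normalizer (M : Set G)) {v w : V F}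
    (h : g * Φ.mM v * g⁻¹ = Φ.mM w) : act Φ g v = w :=
  Φ.mM_inj ((K.act_spec hg v).symm.trans h)

theorem act_add {g : G} (hg : g ∈ Subgroup.normalizer (M : Set G)) (u v : V F) :
    act Φ g (u + v) = act Φ g u + act Φ g v := by
  refine K.act_eq hg ?_
  rw [Φ.mM_add, Φ.mM_add, ← K.act_spec hg, ← K.act_spec hg]
  group

theorem act_inj {g : G} (hg : g ∈ Subgroup.normalizer (M : Set G)) {u v : V F}
    (h : act Φ g u = act Φ g v) : u = v := by
  refine Φ.mM_inj ?_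
  have e := K.act_spec hg u
  rw [h, ← K.act_spec hg v] at e
  exact mul_left_cancel (mul_right_cancel e)

theorem act_zero {g : G} (hg : g ∈ Subgroup.normalizer (M : Set G)) : act Φ g 0 = 0 := by
  refine K.act_eq hg ?_
  rw [Φ.mM_zero]; group

theorem act_neg {g : G} (hg : g ∈ Subgroup.normalizer (M : Set G)) (u : V F) :
    act Φ g (-u) = -act Φ g u := by
  refine eq_neg_of_add_eq_zero_left ?_
  rw [← K.act_add hg, neg_add_cancel, K.act_zero hg]

theorem act_sU {g : G} (hg : g ∈ Subgroup.normalizer (M : Set G)) (t : F) :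
    ∃ t' : F, ∀ v, act Φ g (sU t v) = sU t' (act Φ g v) := by
  have hP : g * Φ.sS t * g⁻¹ ∈ (P : Subgroup G) := by
    refine (Subgroup.mem_normalizer_iff.1 (K.hB hg) _).1 ?_
    simpa [Φ.mM_zero] using K.mem_P 0 t
  obtain ⟨u, t', e⟩ := (K.hP _).1 hP
  refine ⟨t', fun v => K.act_eq hg ?_⟩
  have h1 : Φ.mM (sU t v) = Φ.sS t * Φ.mM v * (Φ.sS t)⁻¹ := by rw [Φ.sS_mM, mul_inv_cancel_right]
  rw [h1, show g * (Φ.sS t * Φ.mM v * (Φ.sS t)⁻¹) * g⁻¹ =
    (g * Φ.sS t * g⁻¹) * (g * Φ.mM v * g⁻¹) * (g * Φ.sS t * g⁻¹)⁻¹ by group, K.act_spec hg, e]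
  calc Φ.mM u * Φ.sS t' * Φ.mM (act Φ g v) * (Φ.mM u * Φ.sS t')⁻¹
      = Φ.mM u * (Φ.sS t' * Φ.mM (act Φ g v)) * (Φ.sS t')⁻¹ * (Φ.mM u)⁻¹ := by group
    _ = Φ.mM u * Φ.mM (sU t' (act Φ g v)) * (Φ.mM u)⁻¹ := by
      rw [Φ.sS_mM, ← mul_assoc, mul_inv_cancel_right]
    _ = Φ.mM (sU t' (act Φ g v)) := by
      rw [← Φ.mM_add, add_comm, Φ.mM_add, mul_inv_cancel_right]

theorem sub_sU (t a b c : F) :
    sU t (a, b, c) - ((a, b, c) : V F) = (2 * t * b + t * t * c, t * c, 0) := by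
  simp
  ring

theorem act_Z {g : G} (hg : g ∈ Subgroup.normalizer (M : Set G)) (a : F) :
    ∃ a' : F, act Φ g (a, 0, 0) = (a', 0, 0) := by
  obtain ⟨t, ht⟩ := K.act_sU (inv_mem hg) 1
  have hfix : sU (1 : F) (act Φ g (a, 0, 0)) = act Φ g (a, 0, 0) := by
    have h := ht (act Φ g (a, 0, 0))
    have hback : act Φ g⁻¹ (act Φ g (a, 0, 0)) = (a, 0, 0) := by
      refine K.act_eq (inv_mem hg) ?_
      rw [← K.act_spec hg]; group
    rw [hback, show sU t ((a, 0, 0) : V F) = (a, 0, 0) by simp] at h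
    exact K.act_inj (inv_mem hg) (h.trans hback.symm)
  generalize act Φ g (a, 0, 0) = w at hfix ⊢
  obtain ⟨x, y, z⟩ := w
  refine ⟨x, ?_⟩
  simp only [sU_apply, one_mul, mul_one, Prod.mk.injEq, and_true] at hfix
  obtain ⟨e1, e2⟩ := hfix
  have hz : z = 0 := by linear_combination e2
  subst hz
  rw [show y = 0 from mul_left_cancel₀ K.two (by linear_combination e1)]

theorem act_plane {g : G} (hg : g ∈ Subgroup.normalizer (M : Set G)) (a b : F) :
    (act Φ g (a, b, 0)).2.2 = 0 := by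
  obtain ⟨t, ht⟩ := K.act_sU (inv_mem hg) 1
  set w := act Φ g (a, b, 0) with hw
  have hback : act Φ g⁻¹ w = (a, b, 0) := by
    refine K.act_eq (inv_mem hg) ?_
    rw [hw, ← K.act_spec hg]; group
  have hlift : ∀ v, act Φ g (act Φ g⁻¹ v) = v := fun v => by
    refine K.act_eq hg ?_
    rw [← K.act_spec (inv_mem hg)]; group
  have h : sU (1 : F) w + -w = act Φ g (2 * t * b, 0, 0) := by
    rw [← hlift (sU 1 w + -w), K.act_add (inv_mem hg), K.act_neg (inv_mem hg), ht, hback]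
    congr 1
    simp
  obtain ⟨a', ha'⟩ := K.act_Z hg (2 * t * b)
  rw [ha'] at h
  obtain ⟨x, y, z⟩ := w
  simp at h
  exact h.2

theorem fix_z {g : G} (hg : g ∈ Subgroup.normalizer (M : Set G)) {a : F} (ha : a ≠ 0)
    (h : act Φ g (a, 0, 0) = (a, 0, 0)) :
    ∃ (u : V F) (t : F) (l : Fˣ), g = Φ.mM u * Φ.sS t * Φ.hH l ∧
      ∀ v, act Φ g v = (sU t * hT l) v := by
  have hgC : g ∈ CA α := mem_C_of_comm_z Φ K.hb ha (mul_inv_eq_iff_eq_mul.1 ((K.act_spec hg _).trans (by rw [h])))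
  obtain ⟨u, t, l, e⟩ := Φ.normalizer_form hgC
    ⟨((act Φ g (0, 0, 1)).2.1, 0, (act Φ g (0, 0, 1)).1), (act Φ g (0, 0, 1)).2.2, by
      have e := K.act_spec hg (0, 0, 1)
      simp only [Frame.mM] at e
      exact e⟩
  refine ⟨u, t, l, e, fun v => K.act_eq hg ?_⟩
  rw [e]
  calc Φ.mM u * Φ.sS t * Φ.hH l * Φ.mM v * (Φ.mM u * Φ.sS t * Φ.hH l)⁻¹
      = Φ.mM u * Φ.sS t * (Φ.hH l * Φ.mM v) * (Φ.hH l)⁻¹ * (Φ.sS t)⁻¹ * (Φ.mM u)⁻¹ := by group
    _ = Φ.mM u * (Φ.sS t * Φ.mM (hT l v)) * (Φ.sS t)⁻¹ * (Φ.mM u)⁻¹ := by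
      rw [Φ.hH_mM]; group
    _ = Φ.mM u * Φ.mM (sU t (hT l v)) * (Φ.mM u)⁻¹ := by rw [Φ.sS_mM]; group
    _ = Φ.mM ((sU t * hT l) v) := by
      rw [← Φ.mM_add, add_comm, Φ.mM_add, mul_inv_cancel_right, Equiv.Perm.mul_apply]

/-- Elements fixing a point `(a, 0, c)`, `c ≠ 0`. -/
theorem fix_u {g : G} (hg : g ∈ Subgroup.normalizer (M : Set G)) {a c : F} (hc : c ≠ 0)
    (h : act Φ g (a, 0, c) = (a, 0, c)) :
    ∃ f : F → F, (∀ t, t ≠ 0 → f t ≠ 0) ∧ (∀ t, act Φ g (t * t * c, 0, 0) = (f t * f t * c, 0, 0)) ∧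
      (∀ t, act Φ g (0, t * c, 0) = (0, f t * c, 0)) ∧
      ∀ t v, act Φ g (sU t v) = sU (f t) (act Φ g v) := by
  choose f hf using K.act_sU hg
  have h2 := K.two
  have hdiff : ∀ t v, act Φ g (sU t v - v) = sU (f t) (act Φ g v) - act Φ g v := fun t v => by
    rw [sub_eq_add_neg, K.act_add hg, K.act_neg hg, hf, ← sub_eq_add_neg]
  have hsum : ∀ t, act Φ g (t * t * c, 0, 0) + act Φ g (0, t * c, 0) = (f t * f t * c, f t * c, 0) := by
    intro t
    have e := hdiff t (a, 0, c)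
    rw [h, K.sub_sU, K.sub_sU] at e
    rw [← K.act_add hg]
    simpa using e
  have hne : ∀ t, t ≠ 0 → f t ≠ 0 := by
    intro t ht e
    have e' := hf t (0, 0, 1)
    rw [e, sU_zero] at e'
    have := K.act_inj hg (e'.trans (Equiv.Perm.one_apply _))
    simp at this
    exact ht this
  -- `f` is odd
  have hf0 : ∀ s t, f (s + t) = f s + f t := by
    intro s t
    have key : ∀ v, sU (f (s + t)) (act Φ g v) = sU (f s + f t) (act Φ g v) := fun v => by
      rw [← hf, sU_add, sU_add, Equiv.Perm.mul_apply, Equiv.Perm.mul_apply, hf, hf]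
    have e := key (a, 0, c)
    rw [h] at e
    simp at e
    exact e.2.resolve_right hc
  have hzero : f 0 = 0 := by
    have := hf0 0 0
    rw [add_zero] at this
    linear_combination -this
  have hodd : ∀ t, f (-t) = -f t := fun t => by
    have := hf0 t (-t)
    rw [add_neg_cancel, hzero] at this
    linear_combination -this
  refine ⟨f, hne, fun t => ?_, fun t => ?_, hf⟩
  all_goals
    have e1 := hsum t
    have e2 := hsum (-t)
    rw [hodd, neg_mul_neg, neg_mul_neg, show ((0 : F), -t * c, (0 : F)) = -((0, t * c, 0) : V F) by simp,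
      K.act_neg hg] at e2
    generalize act Φ g (0, t * c, 0) = w at e1 e2 ⊢
    generalize act Φ g (t * t * c, 0, 0) = w' at e1 e2 ⊢
    obtain ⟨x, y, z⟩ := w
    obtain ⟨x', y', z'⟩ := w'
    simp at e1 e2
    obtain ⟨p1, p2, p3⟩ := e1
    obtain ⟨q1, q2, q3⟩ := e2
  · refine Prod.ext ?_ (Prod.ext ?_ ?_)
    · exact mul_left_cancel₀ h2 (by linear_combination p1 + q1)
    · exact mul_left_cancel₀ h2 (by linear_combination p2 + q2)
    · exact mul_left_cancel₀ h2 (by linear_combination p3 + q3)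
  · refine Prod.ext ?_ (Prod.ext ?_ ?_)
    · exact mul_left_cancel₀ h2 (by linear_combination p1 - q1)
    · exact mul_left_cancel₀ h2 (by linear_combination p2 - q2)
    · exact mul_left_cancel₀ h2 (by linear_combination p3 - q3)

theorem no_anti {g : G} (hg : g ∈ Subgroup.normalizer (M : Set G)) {a c : F} (hc : c ≠ 0)
    (h : act Φ g (a, 0, c) = (a, 0, c)) {z : F} (hz : z ≠ 0) :
    act Φ g (z, 0, 0) ≠ (-z, 0, 0) := by
  intro hneg
  obtain ⟨f, -, hsq, -, -⟩ := K.fix_u hg hc h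
  obtain ⟨t, ht⟩ := sq_or_neg_sq K.mod4 (z / c)
  have hne : ∀ r : F, r ≠ 0 → ∀ t, t * t * c = r → f t * f t * c = -r → False := by
    intro r hr t ht e
    have ht0 : t ≠ 0 := by rintro rfl; simp at ht; exact hr ht.symm
    refine neg_one_ne_sq K.mod4 (f t / t) ?_
    have hh : f t * f t = -(t * t) := mul_right_cancel₀ hc (by rw [e, ← ht]; ring)
    field_simp
    linear_combination hh
  rcases ht with e | e
  · have ht2 : t * t * c = z := by rw [e]; field_simp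
    refine hne z hz t ht2 ?_
    have := hsq t
    rw [ht2, hneg] at this
    exact (congrArg Prod.fst this).symm
  · have ht2 : t * t * c = -z := by rw [e]; field_simp
    refine hne (-z) (neg_ne_zero.2 hz) t ht2 ?_
    have hn : act Φ g (-z, 0, 0) = (z, 0, 0) := by
      rw [show ((-z, 0, 0) : V F) = -((z, 0, 0) : V F) by simp, K.act_neg hg, hneg]; simp
    have := hsq t
    rw [ht2, hn] at this
    rw [neg_neg]
    exact (congrArg Prod.fst this).symm

theorem rigid {g : G} (hg : g ∈ Subgroup.normalizer (M : Set G)) {a c : F} (hc : c ≠ 0)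
    (h : act Φ g (a, 0, c) = (a, 0, c)) {a' b' c' : F} (hb : b' ≠ 0)
    (h' : act Φ g (a', b', c') = (a', b', c')) : g ∈ M := by
  have h2 := K.two
  obtain ⟨f, hne, hsq, hlin, hf⟩ := K.fix_u hg hc h
  -- `g` fixes a central point
  set t := 2 * b' / c
  have ht : t ≠ 0 := div_ne_zero (mul_ne_zero h2 hb) hc
  have hd : ∀ r, act Φ g (2 * r * b' + r * r * c', r * c', 0) =
      (2 * f r * b' + f r * f r * c', f r * c', 0) := fun r => by
    rw [← K.sub_sU r a' b' c', sub_eq_add_neg, K.act_add hg, K.act_neg hg, hf, h', ← sub_eq_add_neg,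
      K.sub_sU]
  have f0 : f (-t) = -f t := by
    have e1 := hlin (-t)
    rw [show ((0 : F), -t * c, (0 : F)) = -((0, t * c, 0) : V F) by simp, K.act_neg hg, hlin] at e1
    simp at e1
    exact mul_right_cancel₀ hc (by linear_combination -e1)
  have e1 := hd t
  have e2 := hd (-t)
  rw [f0] at e2
  obtain ⟨z, hz⟩ := K.act_Z hg (2 * t * b')
  have hsplit : ∀ r, ((2 * r * b' + r * r * c', r * c', 0) : V F) =
      (2 * r * b', 0, 0) + (r * r * c', r * c', 0) := fun r => by simp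
  rw [hsplit, K.act_add hg, hz] at e1
  rw [hsplit, K.act_add hg, show ((2 * -t * b', 0, 0) : V F) = -((2 * t * b', 0, 0) : V F) by simp,
    K.act_neg hg, hz, show ((-t * -t * c', -t * c', 0) : V F) =
      (t * t * c', 0, 0) + -((0, t * c', 0) : V F) by simp, K.act_add hg, K.act_neg hg] at e2
  rw [show ((t * t * c', t * c', 0) : V F) = (t * t * c', 0, 0) + ((0, t * c', 0) : V F) by simp,
    K.act_add hg] at e1
  obtain ⟨w, hw⟩ := K.act_Z hg (t * t * c')
  rw [hw] at e1 e2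
  generalize act Φ g (0, t * c', 0) = q at e1 e2
  obtain ⟨q1, q2, q3⟩ := q
  simp at e1 e2
  have ez : z + q1 = 2 * f t * b' := mul_left_cancel₀ h2 (by linear_combination e1.1 - e2.1)
  have hq1 : q1 = 0 := by
    obtain ⟨r, hr⟩ : ∃ r, r * c = t * c' := ⟨t * c' / c, div_mul_cancel₀ _ hc⟩
    have := K.act_inj hg (u := (0, t * c', 0)) (v := (0, r * c, 0))
    have e : act Φ g (0, t * c', 0) = (0, f r * c, 0) := by rw [← hr]; exact hlin r
    have e' := hd t
    rw [hsplit, K.act_add hg, hz, show ((t * t * c', t * c', 0) : V F) = (t * t * c', 0, 0) + ((0, t * c', 0) : V F) by simp,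
      K.act_add hg, hw, e] at e'
    simp at e'
    linear_combination e1.1 - e'.1
  rw [hq1, add_zero] at ez
  have hkey : 2 * t * b' = t * t * c := by simp only [t]; field_simp
  have hz' : (z, (0 : F), (0 : F)) = (f t * f t * c, (0 : F), (0 : F)) := by rw [← hz, hkey, hsq]
  have hft : f t = t := by
    have h1 : 2 * f t * b' = f t * f t * c := by rw [← ez]; exact congrArg Prod.fst hz'
    have : f t * c = 2 * b' := mul_left_cancel₀ (hne t ht) (by linear_combination -h1)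
    simp only [t]
    field_simp
    linear_combination this
  have hfix : act Φ g (t * t * c, 0, 0) = (t * t * c, 0, 0) := by rw [hsq, hft]
  obtain ⟨u, s, l, e, hact⟩ := K.fix_z hg (mul_ne_zero (mul_ne_zero ht ht) hc) hfix
  have g1 := h
  have g2 := h'
  rw [hact, sh_apply] at g1 g2
  simp only [Prod.mk.injEq, mul_zero, zero_add, add_zero] at g1 g2
  obtain ⟨-, g12, g13⟩ := g1
  obtain ⟨-, g22, g23⟩ := g2
  have hl2 : (l : F) * l = 1 := mul_right_cancel₀ hc (by linear_combination g13)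
  have hs : s = 0 := by
    rw [hl2, one_mul] at g12
    exact (mul_eq_zero.1 g12).resolve_right hc
  subst hs
  have hl : l = 1 := Units.ext (mul_right_cancel₀ hb (by rw [Units.val_one]; linear_combination g22))
  subst hl
  rw [e, Φ.sS_zero, Φ.hH_one, mul_one, mul_one]
  exact K.mem_M u

theorem C_conj_Q (p r s : F) (h : p ≠ 0 ∨ r ≠ 0) :
    ∃ c ∈ CA α, ∃ a : F, c * Φ.el (p, r, s) 1 * c⁻¹ = Φ.mM (a, 1, 0) := by
  obtain ⟨T, hT⟩ : ∃ T : Matrix.SpecialLinearGroup (Fin 2) F,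
      T.1 0 0 * p + T.1 0 1 * r = 1 ∧ T.1 1 0 * p + T.1 1 1 * r = 0 := by
    rcases h with h | h
    · refine ⟨⟨!![p⁻¹, 0; -r, p], ?_⟩, ?_, ?_⟩
      · simp [Matrix.det_fin_two, h]
      · simp [h]
      · simp; ring
    · refine ⟨⟨!![0, r⁻¹; -r, p], ?_⟩, ?_, ?_⟩
      · simp [Matrix.det_fin_two, h]
      · simp [h]
      · simp; ring
  refine ⟨Φ.el 0 T, Φ.el_mem _ _, s, ?_⟩
  rw [el_conj, mul_one, mul_inv_cancel, Frame.mM, uS_zero]
  congr 1
  simp [vmul, hT.1, hT.2]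

/-- The centre is strongly closed. -/
theorem strong {g : G} {a : F} (ha : a ≠ 0) (h : g * Φ.mM (a, 0, 0) * g⁻¹ ∈ (P : Subgroup G)) :
    g ∈ NC α := by
  have hzc : ∀ c ∈ CA α, ∀ a' : F, c * Φ.mM (a', 0, 0) * c⁻¹ = Φ.mM (a', 0, 0) := fun c hc a' => by
    rw [Φ.central_mM a' c hc, mul_inv_cancel_right]
  have inM : ∀ g : G, g * Φ.mM (a, 0, 0) * g⁻¹ ∈ M →
      ∃ a', g * Φ.mM (a, 0, 0) * g⁻¹ = Φ.mM (a', 0, 0) := by
    intro g hgM
    obtain ⟨n, -, hn, e⟩ := K.conj_M (H := ⊤) le_top (K.mem_M _) hgM (Subgroup.mem_top g) rfl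
    obtain ⟨a', ha'⟩ := K.act_Z hn a
    exact ⟨a', by rw [← e, K.act_spec hn, ha']⟩
  obtain ⟨⟨x, y, z⟩, t, e⟩ := (K.hP _).1 h
  suffices hsuf : ∃ a', g * Φ.mM (a, 0, 0) * g⁻¹ = Φ.mM (a', 0, 0) by
    obtain ⟨a', ha'⟩ := hsuf
    refine mem_NC_of_conj Φ K.hb ha ?_ ha'
    rintro rfl
    exact z_ne_one Φ ha (by simpa using ha'.trans Φ.mM_zero)
  by_cases ht : t = 0
  · refine inM g ?_
    rw [e, ht, Φ.sS_zero, mul_one]
    exact K.mem_M _
  have h3 : (g * Φ.mM (a, 0, 0) * g⁻¹) ^ 3 = 1 := by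
    rw [conj_pow, K.M_cube _ (K.mem_M _), mul_one, mul_inv_cancel]
  rw [e] at h3
  set u : V F := (x, y, z)
  have hcube : (Φ.mM u * Φ.sS t) ^ 3 = Φ.mM (u + sU t u + sU (t + t) u) := by
    rw [pow_succ, pow_two, Φ.mM_add, Φ.mM_add]
    calc Φ.mM u * Φ.sS t * (Φ.mM u * Φ.sS t) * (Φ.mM u * Φ.sS t)
        = Φ.mM u * (Φ.sS t * Φ.mM u) * Φ.sS t * Φ.mM u * Φ.sS t := by group
      _ = Φ.mM u * Φ.mM (sU t u) * ((Φ.sS t * Φ.sS t) * Φ.mM u) * Φ.sS t := by
        rw [Φ.sS_mM]; group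
      _ = Φ.mM u * Φ.mM (sU t u) * Φ.mM (sU (t + t) u) * (Φ.sS (t + t) * Φ.sS t) := by
        rw [← Φ.sS_add, Φ.sS_mM]; group
      _ = _ := by
        rw [← Φ.sS_add, show t + t + t = 0 by linear_combination t * K.three, Φ.sS_zero, mul_one]
  rw [hcube, ← Φ.mM_zero] at h3
  have hz := congrArg Prod.fst (Φ.mM_inj h3)
  simp [u] at hz
  have hz0 : z = 0 := by
    refine (mul_eq_zero.1 (show 2 * t * t * z = 0 from ?_)).resolve_left
      (mul_ne_zero (mul_ne_zero K.two ht) ht)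
    linear_combination hz - (x + 2 * t * y + t * t * z) * K.three
  have eQ : g * Φ.mM (a, 0, 0) * g⁻¹ = Φ.el (y, -t, x - y * t) 1 := by
    have h' := Φ.mM_sS_hH (x, y, (0 : F)) t 1
    rw [Φ.hH_one, mul_one, dS_one, mul_one, uS_zero] at h'
    rw [e]
    show Φ.mM (x, y, z) * Φ.sS t = _
    rw [hz0, h']
    congr 1
    simp
  obtain ⟨c, hc, s, hcs⟩ := K.C_conj_Q y (-t) (x - y * t) (Or.inr (neg_ne_zero.2 ht))
  have hcg : c * g * Φ.mM (a, 0, 0) * (c * g)⁻¹ = Φ.mM (s, 1, 0) := by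
    rw [← hcs, ← eQ]; group
  obtain ⟨a', ha'⟩ := inM (c * g) (by rw [hcg]; exact K.mem_M _)
  rw [hcg] at ha'
  simpa using congrArg (fun v => v.2.1) (Φ.mM_inj ha')

end Hyp

end CfsgLib.PSpFourTypeThree
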