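import Cfsg.Agent.PSpFourTypeThree.Exceptional

/-!
Two ways of verifying the divisibility condition, and the passage to a quotient.
-/

set_option autoImplicit false
set_option linter.style.haveILetI false
set_option maxHeartbeats 400000

namespace CfsgLib.PSpFourTypeThree

universe u

section Count

variable {H : Type u} [Group H] [Finite H] (S B : Subgroup H)
  (hidx : ¬ 3 ∣ S.index) (hcomm : ∀ a ∈ S, ∀ b ∈ S, a * b = b * a)

/-- The orbit under the normaliser. -/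
def orb (x : H) : Set H := {u | ∃ n ∈ Subgroup.normalizer (S : Set H), n * x * n⁻¹ = u}

include hidx hcomm in
theorem orb_not_dvd {x : H} (hx : x ∈ S) : ¬ 3 ∣ Nat.card (orb S x) := by
  classical
  haveI := Fintype.ofFinite H
  set N := Subgroup.normalizer (S : Set H)
  let X : N := ⟨x, Subgroup.le_normalizer hx⟩
  have h1 : Nat.card (orb S x) = Nat.card {u : N // IsConj X u} := by
    refine Nat.card_congr
      { toFun := fun u => ⟨⟨u.1, ?_⟩, ?_⟩
        invFun := fun u => ⟨u.1.1, ?_⟩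
        left_inv := fun u => rfl
        right_inv := fun u => rfl }
    · obtain ⟨n, hn, e⟩ := u.2
      exact e ▸ N.mul_mem (N.mul_mem hn X.2) (N.inv_mem hn)
    · obtain ⟨n, hn, e⟩ := u.2
      exact isConj_iff.2 ⟨⟨n, hn⟩, Subtype.ext e⟩
    · obtain ⟨n, hn⟩ := isConj_iff.1 u.2
      exact ⟨n, n.2, congrArg Subtype.val hn⟩
  have h2 := CfsgLib.Char.card_conj_class_mul_card_centralizer X
  have hle : S.subgroupOf N ≤ Subgroup.centralizer ({X} : Set N) := fun s hs =>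
    Subgroup.mem_centralizer_singleton_iff.2 (Subtype.ext (hcomm _ hs _ hx))
  obtain ⟨c, hc⟩ := Subgroup.card_dvd_of_le hle
  intro h3
  apply hidx
  refine dvd_trans ?_ (Subgroup.relIndex_dvd_index_of_le (Subgroup.le_normalizer (H := S)))
  refine h3.trans (h1 ▸ Dvd.intro c ?_)
  have h4 := (S.subgroupOf N).index_mul_card
  rw [← h2, hc] at h4
  have hp : 0 < Nat.card (S.subgroupOf N) := Nat.card_pos
  exact Nat.eq_of_mul_eq_mul_right hp (by rw [Subgroup.relIndex]; linarith)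

include hidx hcomm in
/-- All products of the two orbits in one coset. -/
theorem not_dvd_of_prod {x y : H} (hx : x ∈ S) (hy : y ∈ S) (hB : 3 ∣ Nat.card B)
    (hprod : ∀ n ∈ Subgroup.normalizer (S : Set H), ∀ k ∈ Subgroup.normalizer (S : Set H),
      (x * y)⁻¹ * (n * x * n⁻¹ * (k * y * k⁻¹)) ∈ B) :
    ¬ Nat.card B ∣ Nat.card {p : H × H //
      (∃ n ∈ Subgroup.normalizer (S : Set H), n * x * n⁻¹ = p.1) ∧
      (∃ n ∈ Subgroup.normalizer (S : Set H), n * y * n⁻¹ = p.2) ∧ (x * y)⁻¹ * (p.1 * p.2) ∈ B} := by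
  intro h
  rw [Nat.card_congr (Equiv.subtypeEquivRight (q := fun p : H × H => p.1 ∈ orb S x ∧ p.2 ∈ orb S y)
      fun p => ⟨fun hp => ⟨hp.1, hp.2.1⟩, fun hp => ⟨hp.1, hp.2, by
        obtain ⟨n, hn, e1⟩ := hp.1
        obtain ⟨k, hk, e2⟩ := hp.2
        rw [← e1, ← e2]; exact hprod n hn k hk⟩⟩),
    Nat.card_congr (Equiv.subtypeProdEquivProd (p := (· ∈ orb S x)) (q := (· ∈ orb S y))),
    Nat.card_prod] at h
  rcases (Nat.prime_three.dvd_mul).1 (hB.trans h) with h' | h'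
  · exact orb_not_dvd S hidx hcomm hx h'
  · exact orb_not_dvd S hidx hcomm hy h'

include hcomm in
/-- Orbits meeting each coset at most twice and avoiding the inverse coset. -/
theorem not_dvd_of_two {x y : H} (hx : x ∈ S) (T : Subgroup H) (hTS : T ≤ S)
    (hTx : ∀ n ∈ Subgroup.normalizer (S : Set H), n * x * n⁻¹ ∈ T) (hTcard : Nat.card T ≤ Nat.card B)
    (hBinv : ∀ n ∈ Subgroup.normalizer (S : Set H), ∀ b ∈ B, n * b * n⁻¹ ∈ B)
    (hBodd : Odd (Nat.card B)) (hxB : x ∉ B)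
    (hanti : ∀ n ∈ Subgroup.normalizer (S : Set H), n * x * n⁻¹ * x ∉ B)
    {x₁ : H} (hx2 : ∀ n ∈ Subgroup.normalizer (S : Set H), x⁻¹ * (n * x * n⁻¹) ∈ B →
      n * x * n⁻¹ = x ∨ n * x * n⁻¹ = x₁)
    {y₁ : H} (hy2 : ∀ n ∈ Subgroup.normalizer (S : Set H), y⁻¹ * (n * y * n⁻¹) ∈ B →
      n * y * n⁻¹ = y ∨ n * y * n⁻¹ = y₁) :
    ¬ Nat.card B ∣ Nat.card {p : H × H //
      (∃ n ∈ Subgroup.normalizer (S : Set H), n * x * n⁻¹ = p.1) ∧
      (∃ n ∈ Subgroup.normalizer (S : Set H), n * y * n⁻¹ = p.2) ∧ (x * y)⁻¹ * (p.1 * p.2) ∈ B} := by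
  classical
  haveI := Fintype.ofFinite H
  set N := Subgroup.normalizer (S : Set H)
  set q := Nat.card B with hq
  let Ox : Finset H := Finset.univ.filter (· ∈ orb S x)
  let Oy : Finset H := Finset.univ.filter (· ∈ orb S y)
  let P : Finset (H × H) := (Ox ×ˢ Oy).filter fun p => (x * y)⁻¹ * (p.1 * p.2) ∈ B
  have hP : Nat.card {p : H × H // (∃ n ∈ N, n * x * n⁻¹ = p.1) ∧ (∃ n ∈ N, n * y * n⁻¹ = p.2) ∧
      (x * y)⁻¹ * (p.1 * p.2) ∈ B} = P.card := by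
    rw [Nat.card_eq_fintype_card]
    refine Fintype.card_of_subtype P fun p => ?_
    simp only [P, Ox, Oy, Finset.mem_filter, Finset.mem_product, Finset.mem_univ, true_and, and_assoc]
    exact Iff.rfl
  rw [hP]
  set ky := (Oy.filter fun v => y⁻¹ * v ∈ B).card
  have hky1 : 1 ≤ ky := Finset.card_pos.2 ⟨y, Finset.mem_filter.2 ⟨Finset.mem_filter.2
    ⟨Finset.mem_univ _, 1, one_mem _, by group⟩, by simp⟩⟩
  have hky2 : ky ≤ 2 := le_trans (Finset.card_le_card (t := {y, y₁}) fun v hv => by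
    obtain ⟨hv1, hv2⟩ := Finset.mem_filter.1 hv
    obtain ⟨n, hn, rfl⟩ := (Finset.mem_filter.1 hv1).2
    simpa using hy2 n hn hv2) Finset.card_le_two
  -- fibres
  have hfib : ∀ u ∈ Ox, (Oy.filter fun v => (x * y)⁻¹ * (u * v) ∈ B).card = 0 ∨
      (Oy.filter fun v => (x * y)⁻¹ * (u * v) ∈ B).card = ky := by
    intro u hu
    by_cases h0 : (Oy.filter fun v => (x * y)⁻¹ * (u * v) ∈ B).card = 0
    · exact Or.inl h0
    right
    obtain ⟨v, hv⟩ := Finset.card_pos.1 (Nat.pos_of_ne_zero h0)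
    obtain ⟨hv1, hv2⟩ := Finset.mem_filter.1 hv
    obtain ⟨n, hn, hny⟩ := (Finset.mem_filter.1 hv1).2
    have hsame : ∀ w : H, (x * y)⁻¹ * (u * w) ∈ B ↔ v⁻¹ * w ∈ B := fun w => by
      rw [show v⁻¹ * w = ((x * y)⁻¹ * (u * v))⁻¹ * ((x * y)⁻¹ * (u * w)) by group,
        B.mul_mem_cancel_left (B.inv_mem hv2)]
    refine (Finset.card_bij (fun w _ => n * w * n⁻¹) (fun w hw => ?_) (fun a _ b _ e => ?_)
      (fun w hw => ?_)).symm
    · obtain ⟨hw1, hw2⟩ := Finset.mem_filter.1 hw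
      obtain ⟨m, hm, hmy⟩ := (Finset.mem_filter.1 hw1).2
      refine Finset.mem_filter.2 ⟨Finset.mem_filter.2 ⟨Finset.mem_univ _, n * m, N.mul_mem hn hm, by
        rw [← hmy]; group⟩, (hsame _).2 ?_⟩
      rw [← hny, show (n * y * n⁻¹)⁻¹ * (n * w * n⁻¹) = n * (y⁻¹ * w) * n⁻¹ by group]
      exact hBinv n hn _ hw2
    · exact mul_left_cancel (mul_right_cancel e)
    · obtain ⟨hw1, hw2⟩ := Finset.mem_filter.1 hw
      obtain ⟨m, hm, hmy⟩ := (Finset.mem_filter.1 hw1).2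
      refine ⟨n⁻¹ * w * n, Finset.mem_filter.2 ⟨Finset.mem_filter.2 ⟨Finset.mem_univ _, n⁻¹ * m,
        N.mul_mem (N.inv_mem hn) hm, by rw [← hmy]; group⟩, ?_⟩, by group⟩
      have h := hBinv n⁻¹ (N.inv_mem hn) _ ((hsame w).1 hw2)
      rwa [← hny, show n⁻¹ * ((n * y * n⁻¹)⁻¹ * w) * n⁻¹⁻¹ = y⁻¹ * (n⁻¹ * w * n) by group] at h
  have hPsum : P.card = ∑ u ∈ Ox, (Oy.filter fun v => (x * y)⁻¹ * (u * v) ∈ B).card := by
    simp only [P, Finset.card_filter, Finset.sum_product]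
  have hdvd : ky ∣ P.card := hPsum ▸ Finset.dvd_sum fun u hu => by
    rcases hfib u hu with e | e <;> rw [e]; exact dvd_zero _
  have hle : P.card ≤ Ox.card * ky := by
    rw [hPsum]
    exact Finset.sum_le_card_nsmul _ _ _ fun u hu => by rcases hfib u hu with e | e <;> omega
  have hpos : 0 < P.card := Finset.card_pos.2 ⟨(x, y), Finset.mem_filter.2
    ⟨Finset.mem_product.2 ⟨Finset.mem_filter.2 ⟨Finset.mem_univ _, 1, one_mem _, by group⟩,
      Finset.mem_filter.2 ⟨Finset.mem_univ _, 1, one_mem _, by group⟩⟩, by simp⟩⟩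
  -- the size of the first orbit
  haveI : (B.subgroupOf T).Normal := ⟨fun a ha g => by
    rw [show g * a * g⁻¹ = a from Subtype.ext (by
      show (g : H) * a * (g : H)⁻¹ = a
      rw [hcomm _ (hTS g.2) _ (hTS a.2), mul_inv_cancel_right])]
    exact ha⟩
  haveI := Fintype.ofFinite (T ⧸ B.subgroupOf T)
  have hTO : ∀ u ∈ Ox, u ∈ T := fun u hu => by
    obtain ⟨n, hn, rfl⟩ := (Finset.mem_filter.1 hu).2
    exact hTx n hn
  let π : H → T ⧸ B.subgroupOf T := fun u => if h : u ∈ T then ((⟨u, h⟩ : T) : T ⧸ _) else 1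
  have hπ : ∀ u (h : u ∈ T), π u = ((⟨u, h⟩ : T) : T ⧸ _) := fun u h => dif_pos h
  have heq : ∀ u v (hu : u ∈ T) (hv : v ∈ T), π u = π v ↔ u⁻¹ * v ∈ B := fun u v hu hv => by
    rw [hπ u hu, hπ v hv, QuotientGroup.eq]
    rfl
  set I := Ox.image π
  have hOx : Ox.card ≤ 2 * I.card := Finset.card_le_mul_card_image _ _ fun a ha => by
    obtain ⟨u, hu, rfl⟩ := Finset.mem_image.1 ha
    obtain ⟨n, hn, hnx⟩ := (Finset.mem_filter.1 hu).2
    refine le_trans (Finset.card_le_card (t := {u, n * x₁ * n⁻¹}) fun w hw => ?_) Finset.card_le_two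
    obtain ⟨hw1, hw2⟩ := Finset.mem_filter.1 hw
    obtain ⟨m, hm, hmx⟩ := (Finset.mem_filter.1 hw1).2
    have h := hBinv n⁻¹ (N.inv_mem hn) _ ((heq _ _ (hTO _ hu)
      (hTO _ hw1)).1 hw2.symm)
    rw [← hnx, ← hmx, show n⁻¹ * ((n * x * n⁻¹)⁻¹ * (m * x * m⁻¹)) * n⁻¹⁻¹ =
      x⁻¹ * ((n⁻¹ * m) * x * (n⁻¹ * m)⁻¹) by group] at h
    have hw' : w = n * ((n⁻¹ * m) * x * (n⁻¹ * m)⁻¹) * n⁻¹ := by rw [← hmx]; group
    simp only [Finset.mem_insert, Finset.mem_singleton]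
    rcases hx2 _ (N.mul_mem (N.inv_mem hn) hm) h with e | e
    · left; rw [hw', e, hnx]
    · right; rw [hw', e]
  have hI1 : ∀ a ∈ I, a⁻¹ ∉ I ∧ a ≠ 1 := by
    intro a ha
    obtain ⟨u, hu, rfl⟩ := Finset.mem_image.1 ha
    obtain ⟨n, hn, rfl⟩ := (Finset.mem_filter.1 hu).2
    have huS := hTx n hn
    refine ⟨fun h => ?_, fun h => ?_⟩
    · obtain ⟨v, hv, hv'⟩ := Finset.mem_image.1 h
      obtain ⟨m, hm, rfl⟩ := (Finset.mem_filter.1 hv).2
      have hvS := hTx m hm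
      have hm' : m * x * m⁻¹ * (n * x * n⁻¹) ∈ B := by
        have h' : π (m * x * m⁻¹) * π (n * x * n⁻¹) = 1 := by rw [hv', inv_mul_cancel]
        rw [hπ _ hvS, hπ _ huS, ← QuotientGroup.mk_mul, QuotientGroup.eq_one_iff] at h'
        exact h'
      have h' := hBinv n⁻¹ (N.inv_mem hn) _ hm'
      apply hanti (n⁻¹ * m) (N.mul_mem (N.inv_mem hn) hm)
      convert h' using 1
      group
    · rw [hπ _ huS, QuotientGroup.eq_one_iff] at h
      have h' := hBinv n⁻¹ (N.inv_mem hn) _ h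
      apply hxB
      convert h' using 1
      simp; group
  have hI : 2 * I.card + 1 ≤ Fintype.card (T ⧸ B.subgroupOf T) := by
    have hd : Disjoint I (I.image (·⁻¹)) := Finset.disjoint_left.2 fun a ha ha' => by
      obtain ⟨b, hb, rfl⟩ := Finset.mem_image.1 ha'
      exact (hI1 b hb).1 ha
    have h1 : (1 : T ⧸ B.subgroupOf T) ∉ I ∪ I.image (·⁻¹) := fun h => by
      rcases Finset.mem_union.1 h with h | h
      · exact (hI1 1 h).2 rfl
      · obtain ⟨b, hb, e⟩ := Finset.mem_image.1 h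
        exact (hI1 b hb).2 (inv_eq_one.1 e)
    have := Finset.card_le_univ (insert (1 : T ⧸ B.subgroupOf T) (I ∪ I.image (·⁻¹)))
    rw [Finset.card_insert_of_notMem h1, Finset.card_union_of_disjoint hd,
      Finset.card_image_of_injective _ inv_injective] at this
    omega
  have hidxB : Fintype.card (T ⧸ B.subgroupOf T) ≤ q := by
    rw [← Nat.card_eq_fintype_card]
    exact le_trans (Nat.card_le_card_of_surjective _ QuotientGroup.mk_surjective) hTcard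
  intro hdiv
  obtain ⟨c, hc⟩ := hdiv
  obtain ⟨d, hd⟩ := hBodd
  rcases (show ky = 1 ∨ ky = 2 by omega) with e | e <;> rw [e] at hle hdvd
  · have := Nat.le_of_dvd hpos (Dvd.intro c hc.symm)
    omega
  · have hlt : P.card < q * 2 := by omega
    rw [hc] at hlt hdvd hpos
    have : c < 2 := Nat.lt_of_mul_lt_mul_left hlt
    have : 0 < c := Nat.pos_of_mul_pos_left hpos
    have : c = 1 := by omega
    subst this
    omega

end Count

section Quot

variable {K : Type u} [Group K] [Finite K]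

/-- The hypotheses on `S` and `B` modulo a normal subgroup `W`. -/
structure Mod (W S B : Subgroup K) : Prop where
  normal : W.Normal
  comm : ∀ a ∈ S, ∀ b ∈ S, a * b = b * a
  cube : ∀ a ∈ S, a ^ 3 = 1
  idx : ¬ 3 ∣ S.index
  cent : ∀ s ∈ S, s ∉ W → ∀ g : K, g * s * g⁻¹ * s⁻¹ ∈ W →
    g ∈ Subgroup.normalizer ((S ⊔ W : Subgroup K) : Set K)
  le : B ≤ S
  inv : ∀ n ∈ Subgroup.normalizer ((S ⊔ W : Subgroup K) : Set K), ∀ b ∈ B, n * b * n⁻¹ ∈ B
  fpf : ∀ n ∈ Subgroup.normalizer ((S ⊔ W : Subgroup K) : Set K), ∀ b ∈ B, b ∉ W →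
    n * b * n⁻¹ * b⁻¹ ∈ W → n ∈ S ⊔ W
  inter : ∀ b ∈ B, b ∈ W → b = 1

/-- The hypotheses on two elements. -/
structure Pair (W S B : Subgroup K) (x y : K) : Prop where
  hx : x ∈ S
  hy : y ∈ S
  x1 : x ∉ W
  y1 : y ∉ W
  xy : ∀ n ∈ Subgroup.normalizer ((S ⊔ W : Subgroup K) : Set K), ∀ w ∈ W, n * x * n⁻¹ ≠ y * w
  s1 : ∀ b ∈ B, x * y * b ∉ W
  sx : ∀ n ∈ Subgroup.normalizer ((S ⊔ W : Subgroup K) : Set K), ∀ b ∈ B, ∀ w ∈ W,
    n * x * n⁻¹ ≠ x * y * b * w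
  sy : ∀ n ∈ Subgroup.normalizer ((S ⊔ W : Subgroup K) : Set K), ∀ b ∈ B, ∀ w ∈ W,
    n * y * n⁻¹ ≠ x * y * b * w

theorem mod_normal {W S B : Subgroup K} (M : Mod W S B) {x y : K} (P : Pair W S B x y)
    (hcase :
      (3 ∣ Nat.card B ∧ ∀ n ∈ Subgroup.normalizer ((S ⊔ W : Subgroup K) : Set K),
        ∀ k ∈ Subgroup.normalizer ((S ⊔ W : Subgroup K) : Set K),
          (x * y)⁻¹ * (n * x * n⁻¹ * (k * y * k⁻¹)) ∈ B ⊔ W) ∨
      ((∃ T : Subgroup K, T ≤ S ∧ Nat.card T ≤ Nat.card B ∧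
          ∀ n ∈ Subgroup.normalizer ((S ⊔ W : Subgroup K) : Set K), n * x * n⁻¹ ∈ T ⊔ W) ∧
        Odd (Nat.card B) ∧ x ∉ B ⊔ W ∧
        (∀ n ∈ Subgroup.normalizer ((S ⊔ W : Subgroup K) : Set K), n * x * n⁻¹ * x ∉ B ⊔ W) ∧
        (∃ x₁ : K, ∀ n ∈ Subgroup.normalizer ((S ⊔ W : Subgroup K) : Set K),
          x⁻¹ * (n * x * n⁻¹) ∈ B ⊔ W → (n * x * n⁻¹)⁻¹ * x ∈ W ∨ (n * x * n⁻¹)⁻¹ * x₁ ∈ W) ∧
        (∃ y₁ : K, ∀ n ∈ Subgroup.normalizer ((S ⊔ W : Subgroup K) : Set K),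
          y⁻¹ * (n * y * n⁻¹) ∈ B ⊔ W → (n * y * n⁻¹)⁻¹ * y ∈ W ∨ (n * y * n⁻¹)⁻¹ * y₁ ∈ W))) :
    ∀ g : K, g ∈ Subgroup.normalizer ((S ⊔ W : Subgroup K) : Set K) := by
  classical
  haveI := M.normal
  set π := QuotientGroup.mk' W with hπdef
  set Sb := S.map π with hSb
  set Bb := B.map π with hBb
  have hsurj : Function.Surjective π := QuotientGroup.mk'_surjective W
  have hcomap : Sb.comap π = S ⊔ W := by
    rw [hSb, Subgroup.comap_map_eq, hπdef, QuotientGroup.ker_mk']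
  have hN : ∀ g : K, π g ∈ Subgroup.normalizer (Sb : Set (K ⧸ W)) ↔
      g ∈ Subgroup.normalizer ((S ⊔ W : Subgroup K) : Set K) := by
    intro g
    rw [← hcomap]
    constructor
    · intro h
      refine Subgroup.mem_normalizer_iff.2 fun a => ?_
      rw [Subgroup.mem_comap, Subgroup.mem_comap, map_mul, map_mul, map_inv]
      exact Subgroup.mem_normalizer_iff.1 h (π a)
    · intro h
      refine Subgroup.mem_normalizer_iff.2 fun a => ?_
      obtain ⟨a, rfl⟩ := hsurj a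
      have h' := Subgroup.mem_normalizer_iff.1 h a
      rwa [Subgroup.mem_comap, Subgroup.mem_comap, map_mul, map_mul, map_inv] at h'
  have hlift : ∀ n ∈ Subgroup.normalizer (Sb : Set (K ⧸ W)),
      ∃ m ∈ Subgroup.normalizer ((S ⊔ W : Subgroup K) : Set K), π m = n := fun n hn => by
    obtain ⟨m, rfl⟩ := hsurj n
    exact ⟨m, (hN m).1 hn, rfl⟩
  have hW : ∀ a : K, π a = 1 ↔ a ∈ W := fun a => QuotientGroup.eq_one_iff a
  have hπeq : ∀ a b : K, π a = π b ↔ a⁻¹ * b ∈ W := fun a b => QuotientGroup.eq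
  have hmemB : ∀ a : K, π a ∈ Bb ↔ a ∈ B ⊔ W := fun a => by
    rw [← Subgroup.mem_comap, hBb, Subgroup.comap_map_eq, hπdef, QuotientGroup.ker_mk']
  have hcomm : ∀ a ∈ Sb, ∀ b ∈ Sb, a * b = b * a := by
    rintro _ ⟨a, ha, rfl⟩ _ ⟨b, hb, rfl⟩
    rw [← map_mul, ← map_mul, M.comm a ha b hb]
  have hexp : ∀ a ∈ Sb, a ^ 3 = 1 := by
    rintro _ ⟨a, ha, rfl⟩
    rw [← map_pow, M.cube a ha, map_one]
  have hidx : ¬ 3 ∣ Sb.index := fun h => M.idx <| h.trans <| by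
    rw [hSb, Subgroup.index_map, hπdef, QuotientGroup.range_mk', Subgroup.index_top, mul_one]
    exact Subgroup.index_dvd_of_le le_sup_left
  have hcent : ∀ s ∈ Sb, s ≠ 1 →
      Subgroup.centralizer ({s} : Set (K ⧸ W)) ≤ Subgroup.normalizer (Sb : Set (K ⧸ W)) := by
    rintro _ ⟨s, hs, rfl⟩ hs1 g hg
    obtain ⟨g, rfl⟩ := hsurj g
    refine (hN g).2 (M.cent s hs (fun h => hs1 ((hW s).2 h)) g ((hW _).1 ?_))
    rw [map_mul, map_mul, map_mul, map_inv, map_inv, Subgroup.mem_centralizer_singleton_iff.1 hg]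
    group
  have hBS : Bb ≤ Sb := Subgroup.map_mono M.le
  have hBinv : ∀ n ∈ Subgroup.normalizer (Sb : Set (K ⧸ W)), ∀ b ∈ Bb, n * b * n⁻¹ ∈ Bb := by
    rintro n hn _ ⟨b, hb, rfl⟩
    obtain ⟨m, hm, rfl⟩ := hlift n hn
    exact ⟨m * b * m⁻¹, M.inv m hm b hb, by simp⟩
  have hfpf : ∀ n ∈ Subgroup.normalizer (Sb : Set (K ⧸ W)), ∀ b ∈ Bb, b ≠ 1 →
      n * b * n⁻¹ = b → n ∈ Sb := by
    rintro n hn _ ⟨b, hb, rfl⟩ hb1 h
    obtain ⟨m, hm, rfl⟩ := hlift n hn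
    have hm' := M.fpf m hm b hb (fun e => hb1 ((hW b).2 e)) ((hW _).1 (by
      rw [map_mul, map_mul, map_mul, map_inv, map_inv, h, mul_inv_cancel]))
    rw [← hcomap] at hm'
    exact hm'
  have hπB : ∀ b ∈ Bb, ∃ b₀ ∈ B, π b₀ = b := fun b hb => hb
  have hxy : ∀ n ∈ Subgroup.normalizer (Sb : Set (K ⧸ W)), n * π x * n⁻¹ ≠ π y := fun n hn h => by
    obtain ⟨m, hm, rfl⟩ := hlift n hn
    rw [← map_mul, ← map_inv, ← map_mul] at h
    exact P.xy m hm _ ((hπeq _ _).1 h.symm) (mul_inv_cancel_left _ _).symm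
  have hs1 : ∀ b ∈ Bb, π x * π y * b ≠ 1 := by
    rintro _ ⟨b, hb, rfl⟩ h
    rw [← map_mul, ← map_mul, hW] at h
    exact P.s1 b hb h
  have hsx : ∀ n ∈ Subgroup.normalizer (Sb : Set (K ⧸ W)), ∀ b ∈ Bb,
      n * π x * n⁻¹ ≠ π x * π y * b := by
    rintro n hn _ ⟨b, hb, rfl⟩ h
    obtain ⟨m, hm, rfl⟩ := hlift n hn
    simp only [← map_mul, ← map_inv] at h
    exact P.sx m hm b hb _ ((hπeq _ _).1 h.symm) (mul_inv_cancel_left _ _).symm
  have hsy : ∀ n ∈ Subgroup.normalizer (Sb : Set (K ⧸ W)), ∀ b ∈ Bb,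
      n * π y * n⁻¹ ≠ π x * π y * b := by
    rintro n hn _ ⟨b, hb, rfl⟩ h
    obtain ⟨m, hm, rfl⟩ := hlift n hn
    simp only [← map_mul, ← map_inv] at h
    exact P.sy m hm b hb _ ((hπeq _ _).1 h.symm) (mul_inv_cancel_left _ _).symm
  have hxS : π x ∈ Sb := ⟨x, P.hx, rfl⟩
  have hyS : π y ∈ Sb := ⟨y, P.hy, rfl⟩
  have hcardB : Nat.card Bb = Nat.card B := by
    refine Nat.card_congr (Equiv.ofBijective (fun b : B => (⟨π b, b, b.2, rfl⟩ : Bb)) ⟨?_, ?_⟩).symm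
    · intro a b e
      have h := (hπeq _ _).1 (congrArg Subtype.val e)
      exact Subtype.ext (inv_mul_eq_one.1 (M.inter _ (B.mul_mem (B.inv_mem a.2) b.2) h))
    · rintro ⟨_, b, hb, rfl⟩
      exact ⟨⟨b, hb⟩, rfl⟩
  have htop : Subgroup.normalizer (Sb : Set (K ⧸ W)) = ⊤ := by
    refine normal_of_coset Sb Bb hcomm hexp hidx hcent hBS hBinv hfpf hxS hyS
      (fun h => P.x1 ((hW x).1 h)) (fun h => P.y1 ((hW y).1 h)) hxy hs1 hsx hsy ?_
    rcases hcase with ⟨h3, hprod⟩ | ⟨⟨T, hTS, hTcard, hTx⟩, hodd, hxB, hanti, ⟨x₁, hx2⟩, y₁, hy2⟩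
    · refine not_dvd_of_prod Sb Bb hidx hcomm hxS hyS (hcardB ▸ h3) fun n hn k hk => ?_
      obtain ⟨m, hm, rfl⟩ := hlift n hn
      obtain ⟨l, hl, rfl⟩ := hlift k hk
      have := (hmemB _).2 (hprod m hm l hl)
      simpa using this
    · refine not_dvd_of_two Sb Bb hcomm hxS (T.map π) (Subgroup.map_mono hTS) (fun n hn => ?_) ?_
        hBinv (hcardB ▸ hodd)
        (fun h => hxB ((hmemB x).1 h)) (fun n hn h => ?_) (x₁ := π x₁) (fun n hn h => ?_)
        (y₁ := π y₁) (fun n hn h => ?_)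
      · obtain ⟨m, hm, rfl⟩ := hlift n hn
        have h' := hTx m hm
        rw [show T ⊔ W = (T.map π).comap π by
          rw [Subgroup.comap_map_eq, hπdef, QuotientGroup.ker_mk'], Subgroup.mem_comap] at h'
        simpa using h'
      · rw [hcardB]
        exact le_trans (Nat.le_of_dvd Nat.card_pos (T.card_map_dvd π)) hTcard
      · obtain ⟨m, hm, rfl⟩ := hlift n hn
        refine hanti m hm ((hmemB _).1 ?_)
        simpa using h
      · obtain ⟨m, hm, rfl⟩ := hlift n hn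
        simp only [← map_mul, ← map_inv] at h ⊢
        rw [hπeq, hπeq]
        exact hx2 m hm ((hmemB _).1 h)
      · obtain ⟨m, hm, rfl⟩ := hlift n hn
        simp only [← map_mul, ← map_inv] at h ⊢
        rw [hπeq, hπeq]
        exact hy2 m hm ((hmemB _).1 h)
  intro g
  rw [← hN, htop]
  trivial

end Quot

end CfsgLib.PSpFourTypeThree
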