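import Cfsg.Agent.PSpFourNormM.Bridge
import Cfsg.Agent.PSpFourTypeThree.Coset

/-!
The centraliser `C` of `α` in coordinates: centre, Sylow subgroups, and fusion in the elementary
subgroup of order `q³`.
-/

set_option autoImplicit false
set_option linter.unusedSectionVars false
set_option linter.style.haveILetI false
set_option maxHeartbeats 400000

open scoped Classical
open CfsgLib.PSpFourNormM

namespace CfsgLib.PSpFourTypeThree

theorem pow_eq_one_of_cube {G : Type*} [Group G] {y : G} (h : y ^ 3 = 1) :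
    IsPGroup 3 (Subgroup.zpowers y) := fun g => ⟨1, by
  obtain ⟨i, hi⟩ := Subgroup.mem_zpowers_iff.mp g.2
  refine Subtype.ext ?_
  rw [pow_one, SubgroupClass.coe_pow, ← hi, ← zpow_natCast, ← zpow_mul, mul_comm, zpow_mul,
    zpow_natCast, h, one_zpow]
  rfl⟩

theorem isPGroup_zpowers {G : Type*} [Group G] {p : ℕ} {y : G} {k : ℕ} (h : y ^ p ^ k = 1) :
    IsPGroup p (Subgroup.zpowers y) := fun g => ⟨k, by
  obtain ⟨i, hi⟩ := Subgroup.mem_zpowers_iff.mp g.2
  refine Subtype.ext ?_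
  rw [SubgroupClass.coe_pow, ← hi, ← zpow_natCast, ← zpow_mul, mul_comm, zpow_mul,
    zpow_natCast, h, one_zpow]
  rfl⟩

/-- A `p`-element normalising a Sylow subgroup lies in it. -/
theorem mem_sylow_of_normalizer {G : Type*} [Group G] {p : ℕ} (P : Sylow p G) {y : G}
    (hy : y ∈ Subgroup.normalizer ((P : Subgroup G) : Set G)) {k : ℕ} (h : y ^ p ^ k = 1) :
    y ∈ (P : Subgroup G) := by
  have hsup : IsPGroup p ((Subgroup.zpowers y ⊔ (P : Subgroup G) : Subgroup G)) :=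
    (isPGroup_zpowers h).to_sup_of_normal_right' P.isPGroup' (Subgroup.zpowers_le.2 hy)
  have := P.is_maximal' hsup le_sup_right
  rw [← this]
  exact le_sup_left (a := Subgroup.zpowers y) (Subgroup.mem_zpowers y)

variable {F : Type*} [Field F] {G : Type*} [Group G]

section Frame

variable {C : Subgroup G} (Φ : Frame F C)

/-- An element of `C` centralising all of `C` is a central coordinate. -/
theorem exists_z_of_comm (h2 : (2 : F) ≠ 0) {g : G} (hg : g ∈ C)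
    (h : ∀ u, g * Φ.mM u = Φ.mM u * g) (hs : g * Φ.sS 1 = Φ.sS 1 * g) :
    ∃ a : F, g = Φ.mM (a, 0, 0) := by
  obtain ⟨⟨a, b, c⟩, rfl⟩ := Φ.eq_mM_of_comm h2 hg h
  rw [Φ.sS_mM, mul_left_inj] at hs
  have e := (Φ.mM_inj hs)
  simp only [sU_apply, one_mul, mul_one, Prod.mk.injEq, and_true] at e
  obtain ⟨e1, e2⟩ := e
  have hc : c = 0 := by linear_combination -e2
  subst hc
  have hb : b = 0 := mul_left_cancel₀ h2 (by linear_combination -e1)
  subst hb
  exact ⟨a, rfl⟩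

/-- An abelian subgroup of order `q³` of the coordinate Sylow subgroup is the elementary one. -/
theorem eq_of_abelian [Finite G] [Fintype F] {p n : ℕ} [Fact p.Prime] (hn : 1 ≤ n)
    (h2 : (2 : F) ≠ 0) (hF : Fintype.card F = p ^ n)
    (A : Subgroup G) (hA : A ≤ Φ.pSub) (hAc : ∀ a ∈ A, ∀ b ∈ A, a * b = b * a)
    (hAcard : Nat.card A = p ^ (3 * n)) : ∀ g, g ∈ A ↔ ∃ u, g = Φ.mM u := by
  have hAsub : ∀ g ∈ A, ∃ u, g = Φ.mM u := by
    intro g hg
    obtain ⟨u, t, rfl⟩ := hA hg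
    by_cases ht : t = 0
    · exact ⟨u, by rw [ht, Φ.sS_zero, mul_one]⟩
    exfalso
    have hcoord : ∀ m : A, ∃ (u' : V F) (t' : F), (m : G) = Φ.mM u' * Φ.sS t' := fun m => hA m.2
    choose U T hUT using hcoord
    have hinj : Function.Injective fun m : A => (T m, (U m).1) := by
      intro m m' hmm
      simp only [Prod.mk.injEq] at hmm
      have key : ∀ m : A, (U m).2.2 = T m * u.2.2 / t ∧
          2 * t * (U m).2.1 = 2 * T m * u.2.1 + T m * T m * u.2.2 - t * t * (U m).2.2 := by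
        intro m
        have h := hAc _ hg _ m.2
        rw [hUT] at h
        have h' : Φ.mM (u + sU t (U m)) * Φ.sS (t + T m) = Φ.mM (U m + sU (T m) u) * Φ.sS (T m + t) := by
          rw [Φ.mM_add, Φ.mM_add, Φ.sS_add, Φ.sS_add]
          calc Φ.mM u * Φ.mM (sU t (U m)) * (Φ.sS t * Φ.sS (T m))
              = Φ.mM u * (Φ.mM (sU t (U m)) * Φ.sS t) * Φ.sS (T m) := by group
            _ = (Φ.mM u * Φ.sS t) * (Φ.mM (U m) * Φ.sS (T m)) := by rw [← Φ.sS_mM]; group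
            _ = (Φ.mM (U m) * Φ.sS (T m)) * (Φ.mM u * Φ.sS t) := h
            _ = Φ.mM (U m) * (Φ.sS (T m) * Φ.mM u) * Φ.sS t := by group
            _ = _ := by rw [Φ.sS_mM]; group
        have h'' := (Φ.pSub_inj h').1
        obtain ⟨a, b, c'⟩ := u
        generalize U m = w at h'' ⊢
        obtain ⟨a', b', c''⟩ := w
        simp at h''
        obtain ⟨e1, e2, -⟩ := h''
        have e3 : t * c'' = T m * c' := by linear_combination e2
        refine ⟨?_, by linear_combination e1⟩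
        field_simp
        linear_combination e3
      have h3 : (U m).2.2 = (U m').2.2 := by rw [(key m).1, (key m').1, hmm.1]
      have h4 : (U m).2.1 = (U m').2.1 := mul_left_cancel₀ (mul_ne_zero h2 ht) (by
        rw [(key m).2, (key m').2, hmm.1, h3])
      refine Subtype.ext ?_
      rw [hUT, hUT, hmm.1, show U m = U m' from Prod.ext hmm.2 (Prod.ext h4 h3)]
    have hle := Nat.card_le_card_of_injective _ hinj
    rw [hAcard, Nat.card_prod, Nat.card_eq_fintype_card, hF, ← pow_add] at hle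
    exact absurd ((Nat.pow_le_pow_iff_right (Fact.out : p.Prime).one_lt).mp hle) (by omega)
  intro g
  refine ⟨hAsub g, ?_⟩
  rintro ⟨u, rfl⟩
  choose U hU using fun m : A => hAsub m m.2
  have hinj : Function.Injective U := fun m m' h => Subtype.ext (by rw [hU, hU, h])
  have hb := (Nat.bijective_iff_injective_and_card U).mpr ⟨hinj, by
    rw [hAcard]
    show _ = Nat.card (F × F × F)
    rw [Nat.card_prod, Nat.card_prod, Nat.card_eq_fintype_card, hF]
    ring⟩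
  obtain ⟨m, rfl⟩ := hb.2 u
  rw [← hU]
  exact m.2

end Frame

variable {α : G} (Φ : Frame F (Subgroup.centralizer ({α} : Set G)))

/-- The centraliser of `α`. -/
abbrev CA (α : G) : Subgroup G := Subgroup.centralizer ({α} : Set G)

/-- Central elements of `C` have centraliser `C`. -/
def CentHyp (α : G) : Prop :=
  ∀ z ∈ Subgroup.centralizer ({α} : Set G), z ≠ 1 →
    (∀ c ∈ Subgroup.centralizer ({α} : Set G), c * z = z * c) →
    Subgroup.centralizer ({z} : Set G) = Subgroup.centralizer ({α} : Set G)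

theorem z_ne_one {a : F} (ha : a ≠ 0) : Φ.mM (a, 0, 0) ≠ 1 := fun e => by
  rw [← Φ.mM_zero] at e
  exact ha (congrArg Prod.fst (Φ.mM_inj e))

theorem cent_z (hb : CentHyp α) {a : F} (ha : a ≠ 0) :
    Subgroup.centralizer ({Φ.mM (a, 0, 0)} : Set G) = (CA α) :=
  hb _ (Φ.mM_mem _) (z_ne_one Φ ha) fun c hc => Φ.central_mM a c hc

theorem mem_C_of_comm_z (hb : CentHyp α) {a : F} (ha : a ≠ 0) {g : G}
    (h : g * Φ.mM (a, 0, 0) = Φ.mM (a, 0, 0) * g) : g ∈ (CA α) := by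
  rw [← cent_z Φ hb ha, Subgroup.mem_centralizer_singleton_iff]
  exact h

/-- The normaliser of `C`. -/
abbrev NC (α : G) : Subgroup G :=
  Subgroup.normalizer ((Subgroup.centralizer ({α} : Set G) : Subgroup G) : Set G)

theorem exists_z_conj (h2 : (2 : F) ≠ 0) {g : G} (hg : g ∈ NC α) (a : F) :
    ∃ a' : F, g * Φ.mM (a, 0, 0) * g⁻¹ = Φ.mM (a', 0, 0) := by
  have hm : g * Φ.mM (a, 0, 0) * g⁻¹ ∈ (CA α) := (Subgroup.mem_normalizer_iff.1 hg _).1 (Φ.mM_mem _)
  have hcent : ∀ x ∈ (CA α), g * Φ.mM (a, 0, 0) * g⁻¹ * x = x * (g * Φ.mM (a, 0, 0) * g⁻¹) := by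
    intro x hx
    have hx' : g⁻¹ * x * g ∈ (CA α) := by
      have := (Subgroup.mem_normalizer_iff.1 (inv_mem hg) _).1 hx
      rwa [inv_inv] at this
    have h := Φ.central_mM a _ hx'
    calc g * Φ.mM (a, 0, 0) * g⁻¹ * x = g * (Φ.mM (a, 0, 0) * (g⁻¹ * x * g)) * g⁻¹ := by group
      _ = g * ((g⁻¹ * x * g) * Φ.mM (a, 0, 0)) * g⁻¹ := by rw [h]
      _ = x * (g * Φ.mM (a, 0, 0) * g⁻¹) := by group
  exact exists_z_of_comm Φ h2 hm (fun u => hcent _ (Φ.mM_mem u)) (hcent _ (Φ.el_mem _ _))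

theorem mem_NC_of_conj (hb : CentHyp α) {g : G} {a a' : F} (ha : a ≠ 0) (ha' : a' ≠ 0)
    (h : g * Φ.mM (a, 0, 0) * g⁻¹ = Φ.mM (a', 0, 0)) : g ∈ NC α := by
  refine Subgroup.mem_normalizer_iff.2 fun x => ⟨fun hx => ?_, fun hx => ?_⟩
  · refine mem_C_of_comm_z Φ hb ha' ?_
    have e := Φ.central_mM a x hx
    rw [← h, show g * x * g⁻¹ * (g * Φ.mM (a, 0, 0) * g⁻¹) = g * (x * Φ.mM (a, 0, 0)) * g⁻¹ by group, e]
    group
  · refine mem_C_of_comm_z Φ hb ha ?_
    have e := Φ.central_mM a' _ hx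
    rw [← h, show g * x * g⁻¹ * (g * Φ.mM (a, 0, 0) * g⁻¹) = g * (x * Φ.mM (a, 0, 0)) * g⁻¹ by group,
      show g * Φ.mM (a, 0, 0) * g⁻¹ * (g * x * g⁻¹) = g * (Φ.mM (a, 0, 0) * x) * g⁻¹ by group] at e
    exact mul_left_cancel (mul_right_cancel e)

variable [Finite G] [Fintype F]

include Φ in
/-- A `3`-element normalising `C` lies in `C`. -/
theorem mem_C_of_pow (hb : CentHyp α) (h2 : (2 : F) ≠ 0) (h3 : 3 ∣ Fintype.card F) {y : G}
    (hy : y ∈ NC α) {k : ℕ} (hyk : y ^ 3 ^ k = 1) : y ∈ (CA α) := by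
  haveI : Fact (Nat.Prime 3) := ⟨Nat.prime_three⟩
  let Y := Subgroup.zpowers y
  have hYN : ∀ g : Y, (g : G) ∈ NC α := fun g => Subgroup.zpowers_le.2 hy g.2
  choose r hr using fun (g : Y) (a : F) => exists_z_conj Φ h2 (hYN g) a
  have hzi : ∀ {a a' : F}, Φ.mM (a, 0, 0) = Φ.mM (a', 0, 0) → a = a' := fun h =>
    congrArg Prod.fst (Φ.mM_inj h)
  let _ : MulAction Y F :=
    { smul := fun g a => r g a
      one_smul := fun a => hzi (by
        show Φ.mM (r 1 a, 0, 0) = _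
        rw [← hr]; simp)
      mul_smul := fun g g' a => hzi (by
        show Φ.mM (r (g * g') a, 0, 0) = Φ.mM (r g (r g' a), 0, 0)
        rw [← hr, ← hr, ← hr]; push_cast; group) }
  have h0 : (0 : F) ∈ MulAction.fixedPoints Y F := fun g => hzi (by
    show Φ.mM (r g 0, 0, 0) = _
    rw [← hr, show ((0 : F), (0 : F), (0 : F)) = (0 : V F) from rfl, Φ.mM_zero]; group)
  obtain ⟨a, ha, ha0⟩ := (isPGroup_zpowers hyk).exists_fixed_point_of_prime_dvd_card_of_fixed_point F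
    (by rw [Nat.card_eq_fintype_card]; exact h3) h0
  refine mem_C_of_comm_z Φ hb (Ne.symm ha0) ?_
  have e := hr ⟨y, Subgroup.mem_zpowers y⟩ a
  rw [show r ⟨y, Subgroup.mem_zpowers y⟩ a = a from ha ⟨y, Subgroup.mem_zpowers y⟩] at e
  exact mul_inv_eq_iff_eq_mul.1 e

/-- The coordinate Sylow subgroup of `C` is a Sylow subgroup of `G`. -/
theorem pSub_sylow [CharP F 3] (hb : CentHyp α) {n : ℕ} (hn : 1 ≤ n) (hF : Fintype.card F = 3 ^ n)
    (h2 : (2 : F) ≠ 0) :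
    ∃ P : Sylow 3 G, (P : Subgroup G) = Φ.pSub := by
  haveI : Fact (Nat.Prime 3) := ⟨Nat.prime_three⟩
  have hp : IsPGroup 3 Φ.pSub := IsPGroup.of_card (n := n * 4) (by rw [Φ.card_pSub, hF, ← pow_mul])
  obtain ⟨P, hP⟩ := hp.exists_le_sylow
  have hPC : ∀ g ∈ (P : Subgroup G), g ∈ (CA α) → g ∈ Φ.pSub := fun g hg hgC =>
    Φ.sylow_eq ((P : Subgroup G) ⊓ (CA α)) (P.isPGroup'.to_le inf_le_left) inf_le_right
      (fun u t => ⟨hP ⟨u, t, rfl⟩, Φ.pSub_le ⟨u, t, rfl⟩⟩) g ⟨hg, hgC⟩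
  refine ⟨P, le_antisymm ?_ hP⟩
  by_contra hne
  haveI : Group.IsNilpotent (P : Subgroup G) := P.isPGroup'.isNilpotent
  have htop : Φ.pSub.subgroupOf P < ⊤ := lt_top_iff_ne_top.mpr fun e =>
    hne fun g hg => (show (⟨g, hg⟩ : (P : Subgroup G)) ∈ Φ.pSub.subgroupOf P from e ▸ Subgroup.mem_top _)
  obtain ⟨⟨y, hyP⟩, hyN, hyS⟩ := SetLike.exists_of_lt (Group.normalizerCondition_of_isNilpotent _ htop)
  refine hyS (hPC y hyP ?_)
  obtain ⟨k, hk⟩ := P.isPGroup' ⟨y, hyP⟩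
  refine mem_C_of_pow Φ hb h2 (hF ▸ dvd_pow_self 3 (by omega)) ?_ (congrArg Subtype.val hk)
  have hconj : ∀ v, v ∈ Φ.pSub ↔ y * v * y⁻¹ ∈ Φ.pSub := by
    intro v
    constructor
    · intro hv
      exact (Subgroup.mem_normalizer_iff.mp hyN ⟨v, hP hv⟩).mp hv
    · intro hv
      have hv' : v ∈ (P : Subgroup G) := by
        simpa [mul_assoc] using mul_mem (mul_mem (inv_mem hyP) (hP hv)) hyP
      exact (Subgroup.mem_normalizer_iff.mp hyN ⟨v, hv'⟩).mpr hv
  have hz : Φ.mM (1, 0, 0) ∈ Φ.pSub := Φ.mM_mem_pSub _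
  have hc : ∀ v ∈ Φ.pSub, y * Φ.mM (1, 0, 0) * y⁻¹ * v = v * (y * Φ.mM (1, 0, 0) * y⁻¹) := by
    intro v hv
    have hv' : y⁻¹ * v * y ∈ Φ.pSub := (hconj _).2 (by rwa [show y * (y⁻¹ * v * y) * y⁻¹ = v by group])
    calc y * Φ.mM (1, 0, 0) * y⁻¹ * v = y * (Φ.mM (1, 0, 0) * (y⁻¹ * v * y)) * y⁻¹ := by group
      _ = y * ((y⁻¹ * v * y) * Φ.mM (1, 0, 0)) * y⁻¹ := by
        rw [Φ.central_mM 1 _ (Φ.pSub_le hv')]
      _ = v * (y * Φ.mM (1, 0, 0) * y⁻¹) := by group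
  obtain ⟨a', ha'⟩ := exists_z_of_comm Φ h2 (Φ.pSub_le ((hconj _).1 hz))
    (fun u => hc _ (Φ.mM_mem_pSub u)) (hc _ (Φ.sS_mem_pSub 1))
  refine mem_NC_of_conj Φ hb one_ne_zero ?_ ha'
  rintro rfl
  refine z_ne_one Φ (one_ne_zero (α := F)) ?_
  have e : y * Φ.mM (1, 0, 0) * y⁻¹ = 1 := ha'.trans Φ.mM_zero
  simpa using e

/-- The hypotheses common to both cases, after replacing `α` by a conjugate. -/
structure Basic (Φ : Frame F (Subgroup.centralizer ({α} : Set G))) (P : Sylow 3 G) (M : Subgroup G) :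
    Prop where
  char : CharP F 3
  card8 : Fintype.card F % 8 = 3
  big : 3 < Fintype.card F
  pow : ∃ n, 1 ≤ n ∧ Fintype.card F = 3 ^ n
  hb : CentHyp α
  hP : ∀ g, g ∈ (P : Subgroup G) ↔ ∃ (u : V F) (t : F), g = Φ.mM u * Φ.sS t
  hM : ∀ g, g ∈ M ↔ ∃ u, g = Φ.mM u

/-- The standing hypotheses, after replacing `α` by a conjugate. -/
structure Hyp (Φ : Frame F (Subgroup.centralizer ({α} : Set G))) (P : Sylow 3 G) (M : Subgroup G) :
    Prop extends Basic Φ P M where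
  hB : Subgroup.normalizer (M : Set G) ≤ Subgroup.normalizer ((P : Subgroup G) : Set G)

namespace Basic

variable {Φ} {P : Sylow 3 G} {M : Subgroup G} (K : Basic Φ P M)
include K

theorem mod4 : Fintype.card F % 4 = 3 := by
  have := K.card8
  omega

theorem two : (2 : F) ≠ 0 := two_ne K.mod4

theorem three : (3 : F) = 0 := by
  haveI := K.char
  exact_mod_cast CharP.cast_eq_zero F 3

theorem three_dvd : 3 ∣ Fintype.card F := by
  obtain ⟨n, hn, e⟩ := K.pow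
  rw [e]
  exact dvd_pow_self 3 (by omega)

theorem mem_M (u : V F) : Φ.mM u ∈ M := (K.hM _).2 ⟨u, rfl⟩

theorem mem_P (u : V F) (t : F) : Φ.mM u * Φ.sS t ∈ (P : Subgroup G) := (K.hP _).2 ⟨u, t, rfl⟩

theorem M_le_P : M ≤ (P : Subgroup G) := fun g hg => by
  obtain ⟨u, rfl⟩ := (K.hM g).1 hg
  simpa [Φ.sS_zero] using K.mem_P u 0

theorem P_le_C : (P : Subgroup G) ≤ (CA α) := fun g hg => by
  obtain ⟨u, t, rfl⟩ := (K.hP g).1 hg
  exact mul_mem (Φ.mM_mem u) (Φ.el_mem _ _)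

theorem M_comm : ∀ a ∈ M, ∀ b ∈ M, a * b = b * a := by
  intro a ha b hb
  obtain ⟨u, rfl⟩ := (K.hM a).1 ha
  obtain ⟨v, rfl⟩ := (K.hM b).1 hb
  rw [← Φ.mM_add, ← Φ.mM_add, add_comm]

theorem M_cube : ∀ a ∈ M, a ^ 3 = 1 := by
  intro a ha
  obtain ⟨u, rfl⟩ := (K.hM a).1 ha
  rw [pow_succ, pow_two, ← Φ.mM_add, ← Φ.mM_add, ← Φ.mM_zero]
  congr 1
  obtain ⟨x, y, z⟩ := u
  refine Prod.ext ?_ (Prod.ext ?_ ?_)
  · show x + x + x = 0; linear_combination x * K.three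
  · show y + y + y = 0; linear_combination y * K.three
  · show z + z + z = 0; linear_combination z * K.three

theorem card_M : Nat.card M = Fintype.card F ^ 3 := by
  let φ : V F → M := fun u => ⟨Φ.mM u, K.mem_M u⟩
  have hφ : Function.Bijective φ :=
    ⟨fun u v h => Φ.mM_inj (congrArg Subtype.val h), fun ⟨g, hg⟩ => by
      obtain ⟨u, rfl⟩ := (K.hM g).1 hg
      exact ⟨u, rfl⟩⟩
  rw [← Nat.card_eq_of_bijective φ hφ]
  show Nat.card (F × F × F) = _
  rw [Nat.card_prod, Nat.card_prod, Nat.card_eq_fintype_card]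
  ring

/-- An abelian subgroup of order `q³` of `P` is `M`. -/
theorem unique_M (A : Subgroup G) (hA : A ≤ (P : Subgroup G))
    (hAc : ∀ a ∈ A, ∀ b ∈ A, a * b = b * a) (hAcard : Nat.card A = Nat.card M) : A = M := by
  haveI : Fact (Nat.Prime 3) := ⟨Nat.prime_three⟩
  obtain ⟨n, hn, e⟩ := K.pow
  ext g
  rw [K.hM]
  refine eq_of_abelian Φ (p := 3) hn K.two e A ?_ hAc ?_ g
  · intro g hg
    exact (K.hP g).1 (hA hg)
  · rw [hAcard, K.card_M, e, ← pow_mul, mul_comm]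

/-- Burnside: fusion in `M` inside a subgroup containing `M` is controlled by the normaliser. -/
theorem conj_M {H : Subgroup G} (hMH : M ≤ H) {a a' x : G} (ha : a ∈ M) (ha' : a' ∈ M) (hx : x ∈ H)
    (h : x * a * x⁻¹ = a') :
    ∃ n ∈ H, n ∈ Subgroup.normalizer (M : Set G) ∧ n * a * n⁻¹ = a' := by
  haveI : Fact (Nat.Prime 3) := ⟨Nat.prime_three⟩
  set D := H ⊓ Subgroup.centralizer ({a} : Set G) with hD
  set A := M.map (MulAut.conj x⁻¹).toMonoidHom with hA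
  have hMD : M ≤ D := fun v hv =>
    ⟨hMH hv, Subgroup.mem_centralizer_singleton_iff.2 (K.M_comm v hv a ha)⟩
  have hAD : A ≤ D := by
    rintro _ ⟨v, hv, rfl⟩
    simp only [MulEquiv.coe_toMonoidHom, MulAut.conj_apply, inv_inv]
    refine ⟨H.mul_mem (H.mul_mem (H.inv_mem hx) (hMH hv)) hx, Subgroup.mem_centralizer_singleton_iff.2 ?_⟩
    have e := K.M_comm v hv a' ha'
    rw [← h] at e
    calc x⁻¹ * v * x * a = x⁻¹ * (v * (x * a * x⁻¹)) * x := by group
      _ = x⁻¹ * ((x * a * x⁻¹) * v) * x := by rw [e]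
      _ = a * (x⁻¹ * v * x) := by group
  have hMp : IsPGroup 3 M := fun g => ⟨1, Subtype.ext (by simpa using K.M_cube _ g.2)⟩
  obtain ⟨S1, hS1⟩ := (hMp.comap_subtype (K := D)).exists_le_sylow
  obtain ⟨S2, hS2⟩ := ((hMp.map (MulAut.conj x⁻¹).toMonoidHom).comap_subtype (K := D)).exists_le_sylow
  obtain ⟨c, hc⟩ := MulAction.exists_smul_eq D S2 S1
  set R := (S1 : Subgroup D).map D.subtype
  set A' := A.map (MulAut.conj (c : G)).toMonoidHom with hA'
  have hMR : M ≤ R := fun v hv => ⟨⟨v, hMD hv⟩, hS1 hv, rfl⟩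
  have hAR : A' ≤ R := by
    rintro _ ⟨v, hv, rfl⟩
    refine ⟨c * ⟨v, hAD hv⟩ * c⁻¹, ?_, by simp⟩
    rw [← hc, SetLike.mem_coe, Sylow.smul_def, Sylow.pointwise_smul_def]
    exact Subgroup.smul_mem_pointwise_smul _ (MulAut.conj c) _ (hS2 hv)
  obtain ⟨Q, hQ⟩ := (S1.isPGroup'.map D.subtype).exists_le_sylow
  obtain ⟨g, hg⟩ := MulAction.exists_smul_eq G Q P
  have hto : ∀ B : Subgroup G, B ≤ R → (∀ u ∈ B, ∀ v ∈ B, u * v = v * u) → Nat.card B = Nat.card M →
      B.map (MulAut.conj g).toMonoidHom = M := by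
    intro B hB hBc hBcard
    refine K.unique_M _ ?_ ?_ ?_
    · rintro _ ⟨v, hv, rfl⟩
      rw [← hg, Sylow.smul_def, Sylow.pointwise_smul_def]
      exact Subgroup.smul_mem_pointwise_smul _ (MulAut.conj g) _ (hQ (hB hv))
    · rintro _ ⟨u, hu, rfl⟩ _ ⟨v, hv, rfl⟩
      rw [← map_mul, hBc u hu v hv, map_mul]
    · rw [← hBcard]
      exact (Nat.card_congr (B.equivMapOfInjective _ (MulAut.conj g).injective).toEquiv).symm
  have hcard : Nat.card A' = Nat.card M :=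
    (Nat.card_congr (A.equivMapOfInjective _ (MulAut.conj (c : G)).injective).toEquiv).symm.trans
      (Nat.card_congr (M.equivMapOfInjective _ (MulAut.conj x⁻¹).injective).toEquiv).symm
  have hA'c : ∀ u ∈ A', ∀ v ∈ A', u * v = v * u := by
    rintro _ ⟨_, ⟨u, hu, rfl⟩, rfl⟩ _ ⟨_, ⟨v, hv, rfl⟩, rfl⟩
    rw [← map_mul, ← map_mul, K.M_comm u hu v hv, map_mul, map_mul]
  have he : A' = M := by
    refine Subgroup.map_injective (f := (MulAut.conj g).toMonoidHom) (MulAut.conj g).injective ?_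
    rw [hto A' hAR hA'c hcard, hto M hMR K.M_comm rfl]
  have hcx : (c : G) * x⁻¹ ∈ Subgroup.normalizer (M : Set G) := by
    refine Subgroup.mem_normalizer_iff.2 fun v => ?_
    have hval : (c : G) * x⁻¹ * v * ((c : G) * x⁻¹)⁻¹ =
        MulAut.conj (c : G) (MulAut.conj x⁻¹ v) := by simp [mul_assoc]
    rw [hval]
    constructor
    · intro hv
      rw [← he]
      exact ⟨_, ⟨v, hv, rfl⟩, rfl⟩
    · intro hv
      rw [← he] at hv
      obtain ⟨_, ⟨w, hw, rfl⟩, e⟩ := hv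
      rwa [(MulAut.conj x⁻¹).injective ((MulAut.conj (c : G)).injective e)] at hw
  refine ⟨x * (c : G)⁻¹, mul_mem hx (inv_mem c.2.1), ?_, ?_⟩
  · have := inv_mem hcx
    rwa [mul_inv_rev, inv_inv] at this
  · have hca : (c : G) * a = a * c := Subgroup.mem_centralizer_singleton_iff.1 c.2.2
    calc x * (c : G)⁻¹ * a * (x * (c : G)⁻¹)⁻¹ = x * ((c : G)⁻¹ * (a * c)) * x⁻¹ := by group
      _ = a' := by rw [← hca, inv_mul_cancel_left, h]

end Basic

namespace Hyp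

variable {Φ} {P : Sylow 3 G} {M : Subgroup G} (K : Hyp Φ P M)
include K

theorem mem_P_of_pow {y : G} (hy : y ∈ Subgroup.normalizer (M : Set G)) {k : ℕ}
    (h : y ^ 3 ^ k = 1) : y ∈ (P : Subgroup G) :=
  mem_sylow_of_normalizer P (K.hB hy) h

end Hyp

end CfsgLib.PSpFourTypeThree
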