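import Cfsg.Agent.PSpFourTypeThree.Triangle
import Cfsg.Agent.Char.NormTwo
import Cfsg.Agent.Char.ClassProducts
import Cfsg.Agent.Char.Clifford
import Cfsg.Agent.Char.Linear

/-!
A TI elementary abelian Sylow 3-subgroup `S` with a normaliser-invariant subgroup `B` on which the
normaliser acts freely modulo `S`: exceptional characters force `S` to be normal.
-/

set_option autoImplicit false
set_option linter.style.haveILetI false
set_option maxHeartbeats 400000

open scoped ComplexConjugate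
open CfsgLib.Char

namespace CfsgLib.PSpFourTypeThree

universe u

section Local

variable {N : Type u} [Group N] [Finite N] (S B : Subgroup N) [S.Normal]

/-- An irreducible character not constant on `B`-cosets in `S` is induced from `S`. -/
theorem induced_or_const (hcomm : ∀ a ∈ S, ∀ b ∈ S, a * b = b * a) (hBS : B ≤ S)
    (hBinv : ∀ n : N, ∀ b ∈ B, n * b * n⁻¹ ∈ B)
    (hfpf : ∀ n : N, ∀ b ∈ B, b ≠ 1 → n * b * n⁻¹ = b → n ∈ S)
    {θ : N → ℂ} (hθ : Cfsg.IsIrrCharacter N θ)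
    (hne : ¬ ∀ s ∈ S, ∀ b ∈ B, θ (s * b) = θ s) :
    (∀ g : N, g ∉ S → θ g = 0) ∧ θ 1 = (S.index : ℂ) := by
  classical
  haveI := Fintype.ofFinite N
  obtain ⟨ψ, hψ, hc⟩ := exists_constituent_restrict (N := S) hθ
  have hlin : ψ 1 = 1 := IsIrrCharacter.apply_one_eq_one hψ fun a b =>
    Subtype.ext (hcomm _ a.2 _ b.2)
  obtain ⟨l, hl⟩ := IsCharacter.exists_hom (IsIrrCharacter.isCharacter hψ) hlin
  have hnt : ∃ b : S, (b : N) ∈ B ∧ l b ≠ 1 := by
    by_contra! htr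
    apply hne
    intro s hs b hb
    have h1 := restrict_eq_smul_sum hθ hψ hc
    have e1 := congrFun h1 (⟨s, hs⟩ * ⟨b, hBS hb⟩)
    have e2 := congrFun h1 ⟨s, hs⟩
    simp only [Pi.smul_apply, Finset.sum_apply, Subgroup.coe_mul] at e1 e2
    rw [e1, e2]
    refine congrArg _ (Finset.sum_congr rfl fun φ hφ => ?_)
    obtain ⟨g, rfl⟩ := mem_conjOrbit.1 hφ
    simp only [conjOn_apply, Subgroup.coe_mul, hl]
    rw [show (⟨g * (s * b) * g⁻¹, Subgroup.Normal.conj_mem inferInstance _ (mul_mem hs (hBS hb)) g⟩ : S)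
      = ⟨g * s * g⁻¹, Subgroup.Normal.conj_mem inferInstance _ hs g⟩ *
        ⟨g * b * g⁻¹, Subgroup.Normal.conj_mem inferInstance _ (hBS hb) g⟩ from
      Subtype.ext (show g * (s * b) * g⁻¹ = g * s * g⁻¹ * (g * b * g⁻¹) by group), map_mul,
      htr ⟨g * b * g⁻¹, Subgroup.Normal.conj_mem inferInstance _ (hBS hb) g⟩ (hBinv g b hb), mul_one]
  have hI : inertia ψ ≤ S := by
    intro g hg
    by_contra hgS
    obtain ⟨b, hbB, hb⟩ := hnt
    let φ : B → B := fun c => ⟨g * c * g⁻¹ * (c : N)⁻¹, mul_mem (hBinv g c c.2) (inv_mem c.2)⟩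
    have hφ : Function.Injective φ := fun c d e => by
      by_contra hcd
      have e' : g * c * g⁻¹ * (c : N)⁻¹ = g * d * g⁻¹ * (d : N)⁻¹ := congrArg Subtype.val e
      have hBc : (c : N)⁻¹ * d = d * (c : N)⁻¹ :=
        hcomm _ (inv_mem (hBS c.2)) _ (hBS d.2)
      refine hgS (hfpf g ((d : N)⁻¹ * c) (mul_mem (inv_mem d.2) c.2) (fun h => hcd
        (Subtype.ext (inv_mul_eq_one.mp h).symm)) ?_)
      calc g * ((d : N)⁻¹ * c) * g⁻¹
          = (g * d * g⁻¹ * (d : N)⁻¹ * d)⁻¹ * (g * c * g⁻¹ * (c : N)⁻¹ * c) := by group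
        _ = (d : N)⁻¹ * c := by rw [← e']; group
    obtain ⟨c, hc'⟩ := Finite.injective_iff_surjective.mp hφ ⟨b, hbB⟩
    apply hb
    have hbeq : b = ⟨g * c * g⁻¹, Subgroup.Normal.conj_mem inferInstance _ (hBS c.2) g⟩ *
        (⟨c, hBS c.2⟩ : S)⁻¹ := Subtype.ext (congrArg Subtype.val hc').symm
    have hfix := congrFun ((mem_inertia ψ g).1 hg) ⟨c, hBS c.2⟩
    rw [conjOn_apply, hl] at hfix
    rw [hbeq, map_mul, map_inv, Units.ext hfix, mul_inv_cancel]
  have hirr := isIrrCharacter_indFun_of_inertia_le hψ hI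
  have heq : θ = Cfsg.indFun S ψ := by
    by_contra h
    refine hc ?_
    rw [← classInner_indFun_right (IsIrrCharacter.isClassFunction hθ),
      IsIrrCharacter.classInner_of_ne hθ hirr h]
  refine ⟨fun g hg => ?_, ?_⟩
  · rw [heq, indFun_eq_zero_of_normal ψ hg]
  · rw [heq, indFun_one, hlin, mul_one]

end Local

variable {H : Type u} [Group H] [Finite H] (S B : Subgroup H)

theorem normal_of_diff (hcomm : ∀ a ∈ S, ∀ b ∈ S, a * b = b * a) (hexp : ∀ a ∈ S, a ^ 3 = 1)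
    (hidx : ¬ 3 ∣ S.index)
    (hcent : ∀ s ∈ S, s ≠ 1 → Subgroup.centralizer ({s} : Set H) ≤ Subgroup.normalizer (S : Set H))
    (hBS : B ≤ S) (hBinv : ∀ n ∈ Subgroup.normalizer (S : Set H), ∀ b ∈ B, n * b * n⁻¹ ∈ B)
    (hfpf : ∀ n ∈ Subgroup.normalizer (S : Set H), ∀ b ∈ B, b ≠ 1 → n * b * n⁻¹ = b → n ∈ S)
    {x y : H} (hx : x ∈ S) (hy : y ∈ S) (hx1 : x ≠ 1) (hy1 : y ≠ 1)
    (hxy : ∀ n ∈ Subgroup.normalizer (S : Set H), n * x * n⁻¹ ≠ y)
    {b0 : H} (hb0 : b0 ∈ B) (hs0 : x * y ≠ 1) (hs1' : x * y * b0 ≠ 1)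
    (hsx₀ : ∀ n ∈ Subgroup.normalizer (S : Set H), n * x * n⁻¹ ≠ x * y)
    (hsx₁ : ∀ n ∈ Subgroup.normalizer (S : Set H), n * x * n⁻¹ ≠ x * y * b0)
    (hsy₀ : ∀ n ∈ Subgroup.normalizer (S : Set H), n * y * n⁻¹ ≠ x * y)
    (hsy₁ : ∀ n ∈ Subgroup.normalizer (S : Set H), n * y * n⁻¹ ≠ x * y * b0)
    (hdiff : Nat.card {p : H × H //
      (∃ n ∈ Subgroup.normalizer (S : Set H), n * x * n⁻¹ = p.1) ∧
      (∃ n ∈ Subgroup.normalizer (S : Set H), n * y * n⁻¹ = p.2) ∧ p.1 * p.2 = x * y * b0} ≠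
      Nat.card {p : H × H //
      (∃ n ∈ Subgroup.normalizer (S : Set H), n * x * n⁻¹ = p.1) ∧
      (∃ n ∈ Subgroup.normalizer (S : Set H), n * y * n⁻¹ = p.2) ∧ p.1 * p.2 = x * y}) :
    Subgroup.normalizer (S : Set H) = ⊤ := by
  classical
  set N := Subgroup.normalizer (S : Set H) with hNdef
  haveI := Fintype.ofFinite H
  let S' : Subgroup N := S.subgroupOf N
  let B' : Subgroup N := B.subgroupOf N
  haveI hS'n : S'.Normal := Subgroup.normal_in_normalizer
  have hSN : S ≤ N := Subgroup.le_normalizer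
  have hcomm' : ∀ a ∈ S', ∀ b ∈ S', a * b = b * a := fun a ha b hb =>
    Subtype.ext (hcomm _ ha _ hb)
  have hBS' : B' ≤ S' := fun b hb => hBS hb
  have hBinv' : ∀ n : N, ∀ b ∈ B', n * b * n⁻¹ ∈ B' := fun n b hb => hBinv n n.2 b hb
  have hfpf' : ∀ n : N, ∀ b ∈ B', b ≠ 1 → n * b * n⁻¹ = b → n ∈ S' := fun n b hb hb1 h =>
    hfpf n n.2 b hb (fun e => hb1 (Subtype.ext e)) (congrArg Subtype.val h)
  let f : H → ℕ := fun c => Nat.card {p : H × H //
    (∃ n ∈ N, n * x * n⁻¹ = p.1) ∧ (∃ n ∈ N, n * y * n⁻¹ = p.2) ∧ p.1 * p.2 = c}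
  set s := x * y
  set s' := x * y * b0 with hs'
  have hsS : s ∈ S := mul_mem hx hy
  have hs'S : s' ∈ S := mul_mem hsS (hBS hb0)
  let X : N := ⟨x, hSN hx⟩
  let Y : N := ⟨y, hSN hy⟩
  let Z : N := ⟨s, hSN hsS⟩
  let Z' : N := ⟨s', hSN hs'S⟩
  have hconjN : ∀ u v : N, IsConj u v ↔ ∃ n ∈ N, n * (u : H) * n⁻¹ = v := fun u v => by
    rw [isConj_iff]
    exact ⟨fun ⟨n, hn⟩ => ⟨n, n.2, congrArg Subtype.val hn⟩,
      fun ⟨n, hn, e⟩ => ⟨⟨n, hn⟩, Subtype.ext e⟩⟩
  -- the irreducible characters of `N` not constant on cosets of `B`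
  let R : Finset (N → ℂ) := (irrFinset N).filter
    fun θ => ¬ ∀ u ∈ S', ∀ b ∈ B', θ (u * b) = θ u
  have hR : ∀ θ ∈ R, Cfsg.IsIrrCharacter N θ ∧ (∀ g : N, g ∉ S' → θ g = 0) ∧
      θ 1 = (S'.index : ℂ) := fun θ hθ => by
    obtain ⟨h1, h2⟩ := Finset.mem_filter.1 hθ
    exact ⟨mem_irrFinset.1 h1,
      induced_or_const S' B' hcomm' hBS' hBinv' hfpf' (mem_irrFinset.1 h1) h2⟩
  have hnR : ∀ θ ∈ irrFinset N, θ ∉ R → θ Z' = θ Z := fun θ hθ hn => by
    have : ∀ u ∈ S', ∀ b ∈ B', θ (u * b) = θ u := by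
      by_contra h
      exact hn (Finset.mem_filter.2 ⟨hθ, h⟩)
    exact this Z hsS ⟨b0, hSN (hBS hb0)⟩ hb0
  set e : ℂ := (S'.index : ℂ) with he
  have he0 : e ≠ 0 := by rw [he]; exact_mod_cast S'.index_ne_zero_of_finite
  let D : (N → ℂ) → ℂ := fun θ => conj (θ Z) - conj (θ Z')
  have hDsum : ∀ (φ : (N → ℂ) → ℂ), ∑ θ ∈ R, φ θ * D θ = ∑ θ ∈ irrFinset N, φ θ * D θ :=
    fun φ => Finset.sum_subset (Finset.filter_subset _ _) fun θ hθ hn => by
      rw [show D θ = 0 from sub_eq_zero.2 (by rw [hnR θ hθ hn]), mul_zero]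
  have hortho : ∀ W : N, ¬ IsConj W Z → ¬ IsConj W Z' → ∑ θ ∈ R, θ W * D θ = 0 :=
    fun W h1 h2 => by
      rw [hDsum (fun θ => θ W)]
      simp only [D, mul_sub, Finset.sum_sub_distrib, sum_irr_mul_conj, if_neg h1, if_neg h2, sub_zero]
  have hD1 : ∑ θ ∈ R, D θ = 0 := by
    have h := hortho 1 (fun h => hs0 (congrArg Subtype.val (isConj_one_right.1 h)))
      (fun h => hs1' (congrArg Subtype.val (isConj_one_right.1 h)))
    rw [Finset.sum_congr rfl fun θ hθ => show θ 1 * D θ = e * D θ by rw [(hR θ hθ).2.2],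
      ← Finset.mul_sum] at h
    exact (mul_eq_zero.1 h).resolve_left he0
  have hDX : ∑ θ ∈ R, θ X * D θ = 0 := hortho X
    (fun h => by obtain ⟨n, hn, h'⟩ := (hconjN _ _).1 h
                 exact hsx₀ n hn h')
    (fun h => by obtain ⟨n, hn, h'⟩ := (hconjN _ _).1 h; exact hsx₁ n hn h')
  have hDY : ∑ θ ∈ R, θ Y * D θ = 0 := hortho Y
    (fun h => by obtain ⟨n, hn, h'⟩ := (hconjN _ _).1 h
                 exact hsy₀ n hn h')
    (fun h => by obtain ⟨n, hn, h'⟩ := (hconjN _ _).1 h; exact hsy₁ n hn h')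
  set T := ∑ θ ∈ R, θ X * θ Y * D θ with hTdef
  set cX : ℂ := (Nat.card {u : N // IsConj X u} : ℂ) with hcX
  set cY : ℂ := (Nat.card {u : N // IsConj Y u} : ℂ) with hcY
  -- the local count
  have hloc : ∀ c : N, (f c : ℂ) =
      cX * cY / (Nat.card N : ℂ) * ∑ θ ∈ irrFinset N, θ X * θ Y * conj (θ c) / θ 1 := fun c => by
    rw [← card_class_products]
    norm_cast
    refine Nat.card_congr
      { toFun := fun p => ⟨(⟨p.1.1, ?_⟩, ⟨p.1.2, ?_⟩), ?_, ?_, ?_⟩
        invFun := fun q => ⟨(q.1.1, q.1.2), (hconjN X q.1.1).1 q.2.1, (hconjN Y q.1.2).1 q.2.2.1,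
          congrArg Subtype.val q.2.2.2⟩
        left_inv := fun p => rfl
        right_inv := fun q => rfl }
    · obtain ⟨n, hn, h⟩ := p.2.1
      exact h ▸ mul_mem (mul_mem hn X.2) (inv_mem hn)
    · obtain ⟨n, hn, h⟩ := p.2.2.1
      exact h ▸ mul_mem (mul_mem hn Y.2) (inv_mem hn)
    · exact (hconjN _ _).2 p.2.1
    · exact (hconjN _ _).2 p.2.2.1
    · exact Subtype.ext p.2.2.2
  have hlocal : (f s : ℂ) - f s' = cX * cY / (Nat.card N : ℂ) * (T / e) := by
    rw [show (f s : ℂ) = f (Z : H) from rfl, show (f s' : ℂ) = f (Z' : H) from rfl, hloc, hloc,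
      ← mul_sub, ← Finset.sum_sub_distrib]
    congr 1
    rw [hTdef, Finset.sum_div, ← Finset.sum_subset (Finset.filter_subset _ _) fun θ hθ hn => by
      show θ X * θ Y * conj (θ Z) / θ 1 - θ X * θ Y * conj (θ Z') / θ 1 = 0
      rw [hnR θ hθ hn, sub_self]]
    refine Finset.sum_congr rfl fun θ hθ => ?_
    rw [(hR θ hθ).2.2]
    show _ = θ X * θ Y * (conj (θ Z) - conj (θ Z')) / e
    ring
  have hne : (f s : ℂ) - f s' ≠ 0 := by
    rw [sub_ne_zero, Ne, Nat.cast_inj]; exact Ne.symm hdiff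
  have hT0 : T ≠ 0 := fun h => hne (by rw [hlocal, h, zero_div, mul_zero])
  -- coherence
  have hn2 : 2 ≤ R.card := by
    by_contra h
    rcases Nat.eq_zero_or_pos R.card with h0 | hpos
    · exact hT0 (by rw [hTdef, Finset.card_eq_zero.1 h0, Finset.sum_empty])
    obtain ⟨θ, hθ⟩ := Finset.card_eq_one.1 (show R.card = 1 by omega)
    rw [hθ, Finset.sum_singleton] at hD1
    exact hT0 (by rw [hTdef, hθ, Finset.sum_singleton, hD1, mul_zero])
  let χ : Fin R.card → N → ℂ := fun i => (R.equivFin.symm i).1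
  have hχ : ∀ i, χ i ∈ R := fun i => (R.equivFin.symm i).2
  have hχi : Function.Injective χ := fun i j h => R.equivFin.symm.injective (Subtype.ext h)
  have hsumR : ∀ φ : (N → ℂ) → ℂ, ∑ i, φ (χ i) = ∑ θ ∈ R, φ θ := fun φ => by
    rw [← Finset.sum_coe_sort R]
    exact Fintype.sum_equiv R.equivFin.symm _ _ fun i => rfl
  have hTI : ∀ g : H, g ∉ N → ∀ u ∈ (S : Set H), g * u * g⁻¹ ∈ (S : Set H) → u = 1 :=
    fun g hg u hu hgu => by
      by_contra h1
      exact hg (ti S hcomm hexp hidx hcent hu h1 hgu)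
  have hvan : ∀ i, ∀ v : N, (v : H) ∉ (S : Set H) → χ i v = 0 := fun i v hv => (hR _ (hχ i)).2.1 v hv
  obtain ⟨ε, hε, θ, hθ, hθi, hdiffθ⟩ := exists_exceptional (S := (S : Set H)) (H := N) hTI hn2
    (fun i => (hR _ (hχ i)).1) hχi hvan
    (fun i j => by rw [(hR _ (hχ i)).2.2, (hR _ (hχ j)).2.2])
  have hεε : ε * ε = 1 := by rcases hε with rfl | rfl <;> norm_num
  let i₀ : Fin R.card := ⟨0, by omega⟩
  -- values of the exceptional characters on `S`
  have hval : ∀ W : N, (W : H) ∈ S → W ≠ 1 → ∀ i,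
      θ i W = ε * χ i W + (θ i₀ W - ε * χ i₀ W) := fun W hW hW1 i => by
    have h := congrFun (hdiffθ i i₀) (W : H)
    simp only [Pi.sub_apply, Pi.smul_apply, smul_eq_mul] at h
    rw [indFun_apply_TI hTI (IsIrrCharacter.isClassFunction (hR _ (hχ i)).1) (hvan i) W hW hW1,
      indFun_apply_TI hTI (IsIrrCharacter.isClassFunction (hR _ (hχ i₀)).1) (hvan i₀) W hW hW1] at h
    linear_combination (-ε) * h - (θ i W - θ i₀ W) * hεε
  set d := θ i₀ 1 with hd
  have hdeg : ∀ i, θ i 1 = d := fun i => by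
    have h := congrFun (hdiffθ i i₀) 1
    simp only [Pi.sub_apply, Pi.smul_apply, smul_eq_mul] at h
    rw [indFun_one, indFun_one, (hR _ (hχ i)).2.2, (hR _ (hχ i₀)).2.2, sub_self] at h
    linear_combination (-ε) * h - (θ i 1 - d) * hεε
  -- every irreducible character on the two elements
  have hsum0 : ∑ i, D (χ i) = 0 := by rw [hsumR D]; exact hD1
  have hres : ∀ φ, Cfsg.IsIrrCharacter H φ →
      conj (φ s) - conj (φ s') = ε * ∑ i, if φ = θ i then D (χ i) else 0 := by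
    intro φ hφ
    let r : N → ℂ := fun v => φ v
    have hr : Cfsg.IsClassFunction N r := IsCharacter.isClassFunction
      (IsCharacter.restrict (IsIrrCharacter.isCharacter hφ) N)
    have hexpand : ∀ W : N, r W = ∑ ψ ∈ irrFinset N, Cfsg.classInner r ψ * ψ W := fun W => by
      conv_lhs => rw [eq_sum_irr hr]
      simp [Finset.sum_apply]
    have hsplit : conj (φ s) - conj (φ s') = ∑ i, conj (Cfsg.classInner r (χ i)) * D (χ i) := by
      rw [hsumR (fun ψ => conj (Cfsg.classInner r ψ) * D ψ),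
        hDsum (fun ψ => conj (Cfsg.classInner r ψ)), show φ s = r Z from rfl,
        show φ s' = r Z' from rfl, hexpand, hexpand, map_sum, map_sum, ← Finset.sum_sub_distrib]
      refine Finset.sum_congr rfl fun ψ _ => ?_
      rw [map_mul, map_mul, ← mul_sub]
    have hδ : ∀ i, Cfsg.classInner φ (θ i) = if φ = θ i then 1 else 0 := fun i =>
      IsIrrCharacter.classInner_eq hφ (hθ i)
    have hc : ∀ i, Cfsg.classInner r (χ i) - Cfsg.classInner r (χ i₀) =
        ε * ((if φ = θ i then (1 : ℂ) else 0) - if φ = θ i₀ then 1 else 0) := fun i => by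
      rw [← classInner_indFun_right (IsIrrCharacter.isClassFunction hφ),
        ← classInner_indFun_right (IsIrrCharacter.isClassFunction hφ), ← classInner_sub_right,
        hdiffθ i i₀, classInner_smul_right, classInner_sub_right, hδ, hδ]
      rcases hε with rfl | rfl <;> simp
    set K := conj (Cfsg.classInner r (χ i₀)) - ε * if φ = θ i₀ then 1 else 0
    rw [hsplit, Finset.mul_sum]
    have hterm : ∀ i, conj (Cfsg.classInner r (χ i)) * D (χ i) =
        (ε * if φ = θ i then D (χ i) else 0) + K * D (χ i) := fun i => by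
      have h := congrArg conj (hc i)
      simp only [map_sub, map_mul, apply_ite conj, map_one, map_zero,
        show conj ε = ε by rcases hε with rfl | rfl <;> simp] at h
      have hδD : (if φ = θ i then D (χ i) else 0) =
          (if φ = θ i then (1 : ℂ) else 0) * D (χ i) := by split_ifs <;> simp
      rw [hδD]
      linear_combination D (χ i) * h
    rw [Finset.sum_congr rfl fun i _ => hterm i, Finset.sum_add_distrib, ← Finset.mul_sum (a := K),
      hsum0, mul_zero, add_zero]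
  -- the global count
  have hglob : ∀ c : H, c ∈ S → c ≠ 1 → (f c : ℂ) =
      (Nat.card {u : H // IsConj x u} : ℂ) * (Nat.card {u : H // IsConj y u} : ℂ) /
        (Nat.card H : ℂ) * ∑ φ ∈ irrFinset H, φ x * φ y * conj (φ c) / φ 1 := fun c hcS hc1 => by
    rw [← card_class_products]
    norm_cast
    refine Nat.card_congr (Equiv.subtypeEquivRight fun p => ⟨?_, ?_⟩)
    · rintro ⟨⟨n, -, hn⟩, ⟨k, -, hk⟩, h⟩
      exact ⟨isConj_iff.2 ⟨n, hn⟩, isConj_iff.2 ⟨k, hk⟩, h⟩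
    · rintro ⟨h1, h2, h⟩
      obtain ⟨-, -, h1', h2'⟩ := mem_of_product S hcomm hexp hidx hcent hx hy hx1 hy1 hxy h1 h2
        (h.symm ▸ hcS) (h.symm ▸ hc1)
      exact ⟨h1', h2', h⟩
  set kx := Nat.card (Subgroup.centralizer ({x} : Set H))
  set ky := Nat.card (Subgroup.centralizer ({y} : Set H))
  have hcard : ∀ w : H, w ∈ S → w ≠ 1 → ∀ hw : w ∈ N,
      Nat.card {u : N // IsConj (⟨w, hw⟩ : N) u} * Nat.card (Subgroup.centralizer ({w} : Set H)) =
        Nat.card N := fun w hw1 hw2 hw => by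
    rw [← card_conj_class_mul_card_centralizer (⟨w, hw⟩ : N)]
    congr 1
    refine Nat.card_congr
      { toFun := fun g => ⟨⟨g.1, hcent w hw1 hw2 g.2⟩, Subgroup.mem_centralizer_singleton_iff.2
          (Subtype.ext (Subgroup.mem_centralizer_singleton_iff.1 g.2))⟩
        invFun := fun g => ⟨g.1.1, Subgroup.mem_centralizer_singleton_iff.2
          (congrArg Subtype.val (Subgroup.mem_centralizer_singleton_iff.1 g.2))⟩
        left_inv := fun g => rfl
        right_inv := fun g => rfl }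
  have hglobal : (f s : ℂ) - f s' =
      (Nat.card {u : H // IsConj x u} : ℂ) * (Nat.card {u : H // IsConj y u} : ℂ) /
        (Nat.card H : ℂ) * (ε / d * T) := by
    rw [hglob s hsS hs0, hglob s' hs'S hs1', ← mul_sub, ← Finset.sum_sub_distrib]
    congr 1
    have hstep : ∀ φ ∈ irrFinset H,
        φ x * φ y * conj (φ s) / φ 1 - φ x * φ y * conj (φ s') / φ 1 =
          ∑ i, if φ = θ i then θ i x * θ i y * (ε * D (χ i)) / d else 0 := fun φ hφ => by
      rw [← sub_div, ← mul_sub, hres φ (mem_irrFinset.1 hφ), Finset.mul_sum, Finset.mul_sum,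
        Finset.sum_div]
      refine Finset.sum_congr rfl fun i _ => ?_
      split_ifs with h
      · subst h; rw [hdeg]
      · simp
    rw [Finset.sum_congr rfl hstep, Finset.sum_comm]
    simp only [Finset.sum_ite_eq', mem_irrFinset.2 (hθ _), if_true]
    set Kx := θ i₀ (X : H) - ε * χ i₀ X
    set Ky := θ i₀ (Y : H) - ε * χ i₀ Y
    have hterm : ∀ i, θ i x * θ i y * (ε * D (χ i)) / d = ε / d * (χ i X * χ i Y * D (χ i)) +
        Ky / d * (χ i X * D (χ i)) + Kx / d * (χ i Y * D (χ i)) + ε * Kx * Ky / d * D (χ i) :=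
      fun i => by
        have e1 : θ i x = ε * χ i X + Kx := hval X hx (fun h => hx1 (congrArg Subtype.val h)) i
        have e2 : θ i y = ε * χ i Y + Ky := hval Y hy (fun h => hy1 (congrArg Subtype.val h)) i
        rw [e1, e2]
        linear_combination ((ε * χ i X * χ i Y * D (χ i) + Ky * χ i X * D (χ i) +
          Kx * χ i Y * D (χ i)) / d) * hεε
    rw [Finset.sum_congr rfl fun i _ => hterm i, Finset.sum_add_distrib, Finset.sum_add_distrib,
      Finset.sum_add_distrib, ← Finset.mul_sum, ← Finset.mul_sum, ← Finset.mul_sum,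
      ← Finset.mul_sum, hsumR (fun ψ => ψ X * ψ Y * D ψ), hsumR (fun ψ => ψ X * D ψ),
      hsumR (fun ψ => ψ Y * D ψ), hDX, hDY, hsum0]
    ring
  -- compare
  obtain ⟨dn, hdn0, hdn⟩ := IsIrrCharacter.exists_degree (hθ i₀)
  have hdd : d = (dn : ℂ) := hdn
  have hN0 : (Nat.card N : ℂ) ≠ 0 := by simp
  have hH0 : (Nat.card H : ℂ) ≠ 0 := by simp
  have hkx : (kx : ℂ) ≠ 0 := by simp [kx]
  have hky : (ky : ℂ) ≠ 0 := by simp [ky]
  have hcXk : cX * (kx : ℂ) = Nat.card N := by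
    rw [hcX]; exact_mod_cast hcard x hx hx1 X.2
  have hcYk : cY * (ky : ℂ) = Nat.card N := by
    rw [hcY]; exact_mod_cast hcard y hy hy1 Y.2
  have hcxk : (Nat.card {u : H // IsConj x u} : ℂ) * kx = Nat.card H := by
    exact_mod_cast card_conj_class_mul_card_centralizer x
  have hcyk : (Nat.card {u : H // IsConj y u} : ℂ) * ky = Nat.card H := by
    exact_mod_cast card_conj_class_mul_card_centralizer y
  have heq : (Nat.card N : ℂ) * d = (Nat.card H : ℂ) * ε * e := by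
    have h := hlocal.symm.trans hglobal
    have hd0 : d ≠ 0 := by rw [hdd]; exact_mod_cast hdn0.ne'
    rw [show cX = (Nat.card N : ℂ) / kx by rw [← hcXk]; field_simp,
      show cY = (Nat.card N : ℂ) / ky by rw [← hcYk]; field_simp,
      show (Nat.card {u : H // IsConj x u} : ℂ) = (Nat.card H : ℂ) / kx by rw [← hcxk]; field_simp,
      show (Nat.card {u : H // IsConj y u} : ℂ) = (Nat.card H : ℂ) / ky by rw [← hcyk]; field_simp]
      at h
    field_simp at h
    linear_combination h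
  have hSidx : Nat.card N = S'.index * Nat.card S := by
    rw [← S'.index_mul_card, Nat.card_congr (Subgroup.subgroupOfEquivOfLe hSN).toEquiv]
  have hdeq : dn * Nat.card S = Nat.card H := by
    have h1 : ((dn * Nat.card S : ℕ) : ℂ) = ε * (Nat.card H : ℂ) := by
      rw [hdd, hSidx, he] at heq
      push_cast at heq ⊢
      exact mul_left_cancel₀ he0 (by rw [he]; linear_combination heq)
    rcases hε with rfl | rfl
    · rw [one_mul] at h1; exact_mod_cast h1
    · exfalso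
      have h2 : ((dn * Nat.card S + Nat.card H : ℕ) : ℂ) = 0 := by push_cast at h1 ⊢; rw [h1]; ring
      have := Nat.cast_eq_zero.1 h2
      have : 0 < Nat.card H := Nat.card_pos
      omega
  have hsq : dn ^ 2 ≤ Nat.card H := by
    have h : ∀ φ ∈ irrFinset H, ∃ k : ℕ, φ 1 = (k : ℂ) := fun φ hφ =>
      ⟨_, (IsIrrCharacter.exists_degree (mem_irrFinset.1 hφ)).choose_spec.2⟩
    choose! k hk using h
    have hs : ∑ φ ∈ irrFinset H, k φ ^ 2 = Nat.card H := by
      have := sum_degree_sq (G := H)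
      rw [Finset.sum_congr rfl fun φ hφ => show φ 1 ^ 2 = ((k φ ^ 2 : ℕ) : ℂ) by
        rw [hk φ hφ, Nat.cast_pow]] at this
      exact_mod_cast this
    have hkd : k (θ i₀) = dn := by
      have := (hk _ (mem_irrFinset.2 (hθ i₀))).symm.trans hdn
      exact_mod_cast this
    rw [← hkd, ← hs]
    exact Finset.single_le_sum (f := fun φ => k φ ^ 2) (fun φ _ => Nat.zero_le _)
      (mem_irrFinset.2 (hθ i₀))
  by_contra htop
  have hlt : Nat.card S < N.index := card_lt_index S hcomm hexp hidx hcent htop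
  have hH : Nat.card N * N.index = Nat.card H := N.card_mul_index
  have hSle : Nat.card S ≤ Nat.card N := Subgroup.card_le_of_le hSN
  have h1 : dn ≤ Nat.card S := by nlinarith
  nlinarith [Nat.mul_le_mul hSle hlt.le, Nat.mul_lt_mul_of_le_of_lt h1 hlt (Nat.card_pos (α := S)),
    Nat.card_pos (α := S)]


theorem normal_of_coset (hcomm : ∀ a ∈ S, ∀ b ∈ S, a * b = b * a) (hexp : ∀ a ∈ S, a ^ 3 = 1)
    (hidx : ¬ 3 ∣ S.index)
    (hcent : ∀ s ∈ S, s ≠ 1 → Subgroup.centralizer ({s} : Set H) ≤ Subgroup.normalizer (S : Set H))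
    (hBS : B ≤ S) (hBinv : ∀ n ∈ Subgroup.normalizer (S : Set H), ∀ b ∈ B, n * b * n⁻¹ ∈ B)
    (hfpf : ∀ n ∈ Subgroup.normalizer (S : Set H), ∀ b ∈ B, b ≠ 1 → n * b * n⁻¹ = b → n ∈ S)
    {x y : H} (hx : x ∈ S) (hy : y ∈ S) (hx1 : x ≠ 1) (hy1 : y ≠ 1)
    (hxy : ∀ n ∈ Subgroup.normalizer (S : Set H), n * x * n⁻¹ ≠ y)
    (hs1 : ∀ b ∈ B, x * y * b ≠ 1)
    (hsx : ∀ n ∈ Subgroup.normalizer (S : Set H), ∀ b ∈ B, n * x * n⁻¹ ≠ x * y * b)
    (hsy : ∀ n ∈ Subgroup.normalizer (S : Set H), ∀ b ∈ B, n * y * n⁻¹ ≠ x * y * b)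
    (hT : ¬ Nat.card B ∣ Nat.card {p : H × H //
      (∃ n ∈ Subgroup.normalizer (S : Set H), n * x * n⁻¹ = p.1) ∧
      (∃ n ∈ Subgroup.normalizer (S : Set H), n * y * n⁻¹ = p.2) ∧ (x * y)⁻¹ * (p.1 * p.2) ∈ B}) :
    Subgroup.normalizer (S : Set H) = ⊤ := by
  classical
  set N := Subgroup.normalizer (S : Set H) with hNdef
  haveI := Fintype.ofFinite H
  -- the local numbers of products
  let f : H → ℕ := fun c => Nat.card {p : H × H //
    (∃ n ∈ N, n * x * n⁻¹ = p.1) ∧ (∃ n ∈ N, n * y * n⁻¹ = p.2) ∧ p.1 * p.2 = c}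
  obtain ⟨b0, hb0, hdiff⟩ : ∃ b ∈ B, f (x * y * b) ≠ f (x * y) := by
    by_contra! hall
    apply hT
    have e : {p : H × H // (∃ n ∈ N, n * x * n⁻¹ = p.1) ∧ (∃ n ∈ N, n * y * n⁻¹ = p.2) ∧
        (x * y)⁻¹ * (p.1 * p.2) ∈ B} ≃ Σ b : B, {p : H × H //
        (∃ n ∈ N, n * x * n⁻¹ = p.1) ∧ (∃ n ∈ N, n * y * n⁻¹ = p.2) ∧ p.1 * p.2 = x * y * b} :=
      { toFun := fun p => ⟨⟨_, p.2.2.2⟩, p.1, p.2.1, p.2.2.1, (mul_inv_cancel_left _ _).symm⟩
        invFun := fun q => ⟨q.2.1, q.2.2.1, q.2.2.2.1, by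
          rw [q.2.2.2.2, inv_mul_cancel_left]; exact q.1.2⟩
        left_inv := fun p => rfl
        right_inv := fun ⟨⟨b, hb⟩, ⟨p, h1, h2, h3⟩⟩ => by
          obtain rfl : b = (x * y)⁻¹ * (p.1 * p.2) := by rw [h3, inv_mul_cancel_left]
          rfl }
    rw [Nat.card_congr e, Nat.card_sigma, Finset.sum_congr rfl fun b _ =>
      show _ = f (x * y) from hall b.1 b.2, Finset.sum_const, Finset.card_univ,
      ← Nat.card_eq_fintype_card, smul_eq_mul]
    exact dvd_mul_right _ _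
  have h1 := fun n hn => hsx n hn 1 B.one_mem
  have h2 := fun n hn => hsy n hn 1 B.one_mem
  simp only [mul_one] at h1 h2
  exact normal_of_diff S B hcomm hexp hidx hcent hBS hBinv hfpf hx hy hx1 hy1 hxy hb0
    (by simpa using hs1 1 B.one_mem) (hs1 b0 hb0) h1 (fun n hn => hsx n hn b0 hb0) h2
    (fun n hn => hsy n hn b0 hb0) hdiff

end CfsgLib.PSpFourTypeThree
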