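import Cfsg.Agent.PSpFourTypeThree.Act
import Cfsg.Agent.Solvable.CoprimeAbelian
import Mathlib.GroupTheory.Transfer

/-!
Centralisers of nontrivial subgroups of `Z × U` meeting `Z` trivially normalise `M`.
-/

set_option autoImplicit false
set_option linter.unusedSectionVars false
set_option linter.style.haveILetI false
set_option maxHeartbeats 400000

open scoped Classical
open CfsgLib.PSpFourNormM

namespace CfsgLib.PSpFourTypeThree

variable {F : Type*} [Field F] {G : Type*} [Group G] {α : G}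
  (Φ : Frame F (Subgroup.centralizer ({α} : Set G)))

/-- The subgroup of an additive family of coordinates. -/
def lineSub (i : F →+ V F) : Subgroup G where
  carrier := {g | ∃ a, g = Φ.mM (i a)}
  one_mem' := ⟨0, by rw [map_zero, Φ.mM_zero]⟩
  mul_mem' := by
    rintro _ _ ⟨a, rfl⟩ ⟨b, rfl⟩
    exact ⟨a + b, by rw [map_add, Φ.mM_add]⟩
  inv_mem' := by
    rintro _ ⟨a, rfl⟩
    exact ⟨-a, inv_eq_of_mul_eq_one_right (by
      rw [← Φ.mM_add, ← map_add, add_neg_cancel, map_zero, Φ.mM_zero])⟩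

/-- First coordinate. -/
def inA1 (F : Type*) [Field F] : F →+ V F where
  toFun a := (a, 0, 0)
  map_zero' := rfl
  map_add' a b := by simp

/-- Second coordinate. -/
def inB1 (F : Type*) [Field F] : F →+ V F where
  toFun b := (0, b, 0)
  map_zero' := rfl
  map_add' a b := by simp

/-- The centre of `C`. -/
abbrev zSub : Subgroup G := lineSub Φ (inA1 F)

/-- The second coordinate subgroup of `M`. -/
abbrev bSub : Subgroup G := lineSub Φ (inB1 F)

theorem mem_zSub {g : G} : g ∈ zSub Φ ↔ ∃ a, g = Φ.mM (a, 0, 0) := Iff.rfl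

theorem mem_bSub {g : G} : g ∈ bSub Φ ↔ ∃ b, g = Φ.mM (0, b, 0) := Iff.rfl

theorem card_lineSub [Fintype F] (i : F →+ V F) (hi : Function.Injective i) :
    Nat.card (lineSub Φ i) = Fintype.card F := by
  let φ : F → lineSub Φ i := fun a => ⟨Φ.mM (i a), a, rfl⟩
  have hφ : Function.Bijective φ :=
    ⟨fun a b h => hi (Φ.mM_inj (congrArg Subtype.val h)), fun ⟨g, a, e⟩ => ⟨a, Subtype.ext e.symm⟩⟩
  rw [← Nat.card_eq_of_bijective φ hφ, Nat.card_eq_fintype_card]

theorem inA1_inj : Function.Injective (inA1 F) := fun _ _ h => congrArg Prod.fst h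

theorem inB1_inj : Function.Injective (inB1 F) := fun _ _ h => congrArg (fun v => v.2.1) h

variable [Fintype F] [Finite G]

namespace Hyp

variable {Φ} {P : Sylow 3 G} {M : Subgroup G} (K : Hyp Φ P M)
include K

theorem lineSub_le_M (i : F →+ V F) : lineSub Φ i ≤ M := fun _ ⟨a, e⟩ => e ▸ K.mem_M _

theorem M_le_centralizer (u : V F) : M ≤ Subgroup.centralizer ({Φ.mM u} : Set G) := fun g hg =>
  Subgroup.mem_centralizer_singleton_iff.2 (K.M_comm g hg _ (K.mem_M u))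

theorem conj_of_comm {g : G} {u : V F} (hg : g ∈ Subgroup.centralizer ({Φ.mM u} : Set G))
    (hgN : g ∈ Subgroup.normalizer (M : Set G)) : act Φ g u = u := by
  refine K.act_eq hgN ?_
  rw [mul_inv_eq_iff_eq_mul, Subgroup.mem_centralizer_singleton_iff.1 hg]

theorem act_P {u : V F} {t : F} (hg : Φ.mM u * Φ.sS t ∈ Subgroup.normalizer (M : Set G)) (v : V F) :
    act Φ (Φ.mM u * Φ.sS t) v = sU t v := by
  refine K.act_eq hg ?_
  calc Φ.mM u * Φ.sS t * Φ.mM v * (Φ.mM u * Φ.sS t)⁻¹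
      = Φ.mM u * (Φ.sS t * Φ.mM v) * (Φ.sS t)⁻¹ * (Φ.mM u)⁻¹ := by group
    _ = Φ.mM (sU t v) := by
      rw [Φ.sS_mM, ← mul_assoc, mul_inv_cancel_right, ← Φ.mM_add, add_comm, Φ.mM_add, mul_inv_cancel_right]

/-- `M` is a Sylow subgroup of every group between `M` and the centraliser of `(a, 0, c)`. -/
theorem index_M {a c : F} (hc : c ≠ 0) {D : Subgroup G} (hMD : M ≤ D)
    (hD : D ≤ Subgroup.centralizer ({Φ.mM (a, 0, c)} : Set G)) :
    ¬ 3 ∣ (M.subgroupOf D).index := by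
  haveI : Fact (Nat.Prime 3) := ⟨Nat.prime_three⟩
  have hMp : IsPGroup 3 M := fun g => ⟨1, Subtype.ext (by simpa using K.M_cube _ g.2)⟩
  obtain ⟨S, hS⟩ := (hMp.comap_subtype (K := D)).exists_le_sylow
  suffices hsuf : (S : Subgroup D) = M.subgroupOf D by
    rw [← hsuf]; exact S.not_dvd_index
  refine le_antisymm ?_ hS
  by_contra hne
  haveI : Group.IsNilpotent (S : Subgroup D) := S.isPGroup'.isNilpotent
  have htop : (M.subgroupOf D).subgroupOf S < ⊤ := lt_top_iff_ne_top.mpr fun e =>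
    hne fun g hg => (show (⟨g, hg⟩ : (S : Subgroup D)) ∈ (M.subgroupOf D).subgroupOf S from
      e ▸ Subgroup.mem_top _)
  obtain ⟨⟨y, hyS⟩, hyN, hyM⟩ := SetLike.exists_of_lt (Group.normalizerCondition_of_isNilpotent _ htop)
  apply hyM
  show (y : G) ∈ M
  have hyM' : (y : G) ∈ Subgroup.normalizer (M : Set G) := by
    refine Subgroup.mem_normalizer_iff.2 fun v => ⟨fun hv => ?_, fun hv => ?_⟩
    · exact (Subgroup.mem_normalizer_iff.1 hyN ⟨⟨v, hMD hv⟩, hS hv⟩).1 hv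
    · have hv' : v ∈ D := by
        have := D.mul_mem (D.mul_mem (D.inv_mem y.2) (hMD hv)) y.2
        simpa [mul_assoc] using this
      have hvS : (⟨v, hv'⟩ : D) ∈ (S : Subgroup D) := by
        have hin : y * ⟨v, hv'⟩ * y⁻¹ ∈ (S : Subgroup D) := hS hv
        have := mul_mem (mul_mem (inv_mem hyS) hin) hyS
        simpa [mul_assoc] using this
      exact (Subgroup.mem_normalizer_iff.1 hyN ⟨⟨v, hv'⟩, hvS⟩).2 hv
  obtain ⟨k, hk⟩ := S.isPGroup' ⟨y, hyS⟩
  have hk' : (y : G) ^ 3 ^ k = 1 := congrArg (fun z : (S : Subgroup D) => ((z : D) : G)) hk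
  obtain ⟨u, t, e⟩ := (K.hP _).1 (K.mem_P_of_pow hyM' hk')
  have hfix := K.conj_of_comm (hD y.2) hyM'
  rw [e, K.act_P (e ▸ hyM')] at hfix
  simp at hfix
  have ht : t = 0 := by
    rcases hfix with h | h
    · exact h
    · exact absurd h hc
  rw [e, ht, Φ.sS_zero, mul_one]
  exact K.mem_M u

theorem C_u {x : G} (hx : x ∈ CA α) {a c : F} (hc : c ≠ 0)
    (h : x ∈ Subgroup.centralizer ({Φ.mM (a, 0, c)} : Set G)) :
    x ∈ Subgroup.normalizer (M : Set G) := by
  obtain ⟨v, A, rfl⟩ := (Φ.mem_iff x).1 hx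
  have e := Subgroup.mem_centralizer_singleton_iff.1 h
  simp only [Frame.mM, Φ.mul] at e
  have e2 := congrArg (fun B : Matrix.SpecialLinearGroup (Fin 2) F => B.1 1 1) (Φ.inj _ _ _ _ e).2
  simp [Matrix.SpecialLinearGroup.coe_mul, Matrix.mul_apply, Fin.sum_univ_two] at e2
  obtain ⟨u, t, l, hform⟩ := Φ.upper_decomp v (A := A) (e2.resolve_right hc)
  rw [hform]
  have hM : ∀ (g : G) (σ : Equiv.Perm (V F)), (∀ v, g * Φ.mM v = Φ.mM (σ v) * g) →
      g ∈ Subgroup.normalizer (M : Set G) := by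
    intro g σ hσ
    refine Subgroup.mem_normalizer_iff.mpr fun z => ⟨fun hz => ?_, fun hz => ?_⟩
    · obtain ⟨w, rfl⟩ := (K.hM z).mp hz
      exact (K.hM _).mpr ⟨σ w, by rw [hσ, mul_inv_cancel_right]⟩
    · obtain ⟨w, hw⟩ := (K.hM _).mp hz
      refine (K.hM z).mpr ⟨σ.symm w, ?_⟩
      have h := hσ (σ.symm w)
      rw [Equiv.apply_symm_apply, ← hw] at h
      exact (mul_left_cancel (a := g) (by rw [h]; group)).symm
  exact mul_mem (mul_mem (Subgroup.le_normalizer (K.mem_M u)) (hM _ _ (Φ.sS_mM t)))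
    (hM _ _ (Φ.hH_mM l))

theorem fusion_trivial {W : Subgroup G} (hWM : W ≤ M) {a c : F} (hc : c ≠ 0)
    (hu : Φ.mM (a, 0, c) ∈ W) {s x : G} (hs : s ∈ M)
    (hx : x ∈ Subgroup.centralizer (W : Set G)) (h : x * s * x⁻¹ * s⁻¹ ∈ W) :
    x * s * x⁻¹ = s := by
  set D := Subgroup.centralizer (W : Set G)
  have hMD : M ≤ D := fun v hv w hw => (K.M_comm v hv w (hWM hw)).symm
  obtain ⟨n, hnD, hnN, hn⟩ := K.conj_M hMD hs
    (show x * s * x⁻¹ ∈ M by
      have := M.mul_mem (hWM h) hs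
      rwa [inv_mul_cancel_right] at this) hx rfl
  set w := x * s * x⁻¹ * s⁻¹ with hw
  have hconj : n * s * n⁻¹ = w * s := by rw [hn, hw, inv_mul_cancel_right]
  have hnw : n * w = w * n := (hnD w h).symm
  clear_value w
  set D2 := D ⊓ Subgroup.normalizer (M : Set G)
  haveI : (M.subgroupOf D2).Normal :=
    Subgroup.normal_subgroupOf_of_le_normalizer inf_le_right
  set k := (M.subgroupOf D2).index with hk
  have hk3 : ¬ 3 ∣ k := K.index_M hc (le_inf hMD Subgroup.le_normalizer) fun y hy =>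
    Subgroup.mem_centralizer_singleton_iff.2 (hy.1 _ hu).symm
  have hnk : n ^ k ∈ M := by
    have := (M.subgroupOf D2).pow_index_mem ⟨n, hnD, hnN⟩
    exact this
  have hpow : ∀ j : ℕ, n ^ j * s * (n ^ j)⁻¹ = w ^ j * s := by
    intro j
    induction j with
    | zero => simp
    | succ j ih =>
      calc n ^ (j + 1) * s * (n ^ (j + 1))⁻¹
          = n * (n ^ j * s * (n ^ j)⁻¹) * n⁻¹ := by rw [pow_succ']; group
        _ = n * w ^ j * n⁻¹ * (n * s * n⁻¹) := by rw [ih]; group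
        _ = w ^ j * (w * s) := by
          rw [hconj, show n * w ^ j = w ^ j * n from (Commute.pow_right hnw j).eq, mul_inv_cancel_right]
        _ = _ := by rw [pow_succ, mul_assoc]
  have h1 : w ^ k = 1 := by
    have e := hpow k
    rw [mul_inv_eq_iff_eq_mul.2 (K.M_comm _ hnk s hs)] at e
    exact (mul_eq_right.1 e.symm)
  have h2 : w = 1 := by
    have h3 := K.M_cube w (hWM h)
    have := Nat.dvd_gcd (orderOf_dvd_of_pow_eq_one h3) (orderOf_dvd_of_pow_eq_one h1)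
    rw [Nat.Coprime.gcd_eq_one ((Nat.prime_three.coprime_iff_not_dvd).2 hk3), Nat.dvd_one] at this
    exact orderOf_eq_one_iff.1 this
  rwa [hw, mul_inv_eq_one] at h2

theorem zSub_not_cyclic : ¬ IsCyclic (zSub Φ) := by
  intro hcyc
  haveI := hcyc
  have h3 : Monoid.exponent (zSub Φ) ∣ 3 := Monoid.exponent_dvd_of_forall_pow_eq_one fun g =>
    Subtype.ext (by simpa using K.M_cube _ (K.lineSub_le_M _ g.2))
  rw [IsCyclic.exponent_eq_card, card_lineSub Φ _ inA1_inj] at h3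
  have := Nat.le_of_dvd (by norm_num) h3
  have := K.big
  omega

/-- The centraliser of a point `(a, 0, c)` and of a point off `Z × U` is `M`. -/
theorem cent_pair {a c : F} (hc : c ≠ 0) {a' b' c' : F} (hb' : b' ≠ 0) :
    Subgroup.centralizer ({Φ.mM (a, 0, c)} : Set G) ⊓
      Subgroup.centralizer ({Φ.mM (a', b', c')} : Set G) ≤ M := by
  haveI : Fact (Nat.Prime 3) := ⟨Nat.prime_three⟩
  set D := Subgroup.centralizer ({Φ.mM (a, 0, c)} : Set G) ⊓
    Subgroup.centralizer ({Φ.mM (a', b', c')} : Set G) with hD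
  have hMD : M ≤ D := le_inf (K.M_le_centralizer _) (K.M_le_centralizer _)
  have hidx := K.index_M hc hMD inf_le_left
  have hMp : IsPGroup 3 (M.subgroupOf D) := fun g => ⟨1, Subtype.ext (Subtype.ext (by
    simpa using K.M_cube _ g.2))⟩
  let S : Sylow 3 D := hMp.toSylow hidx
  have hS : (S : Subgroup D) = M.subgroupOf D := rfl
  have hND : ∀ g : G, g ∈ D → g ∈ Subgroup.normalizer (M : Set G) → g ∈ M := fun g hg hgN =>
    K.rigid hgN hc (K.conj_of_comm hg.1 hgN) hb' (K.conj_of_comm hg.2 hgN)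
  have hNS : ∀ g : D, g ∈ Subgroup.normalizer ((S : Subgroup D) : Set D) → (g : G) ∈ M := by
    intro g hg
    refine hND g g.2 (Subgroup.mem_normalizer_iff.2 fun v => ⟨fun hv => ?_, fun hv => ?_⟩)
    · exact (Subgroup.mem_normalizer_iff.1 hg ⟨v, hMD hv⟩).1 (by rw [hS]; exact hv)
    · have hv' : v ∈ D := by
        have := D.mul_mem (D.mul_mem (D.inv_mem g.2) (hMD hv)) g.2
        simpa [mul_assoc] using this
      have h := (Subgroup.mem_normalizer_iff.1 hg ⟨v, hv'⟩).2 (by rw [hS]; exact hv)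
      rw [hS] at h
      exact h
  have hP : Subgroup.normalizer ((S : Subgroup D) : Set D) ≤ Subgroup.centralizer (S : Set D) := by
    intro g hg v hv
    exact Subtype.ext (K.M_comm _ hv _ (hNS g hg))
  have hcompl := MonoidHom.ker_transferSylow_isComplement' S hP
  set R := (MonoidHom.transferSylow S hP).ker with hR
  haveI hRn : R.Normal := MonoidHom.normal_ker _
  have hR3 : ¬ 3 ∣ Nat.card R := MonoidHom.not_dvd_card_ker_transferSylow S hP
  clear_value R
  clear hR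
  set R' := R.map D.subtype with hR'
  have hR'card : Nat.card R' = Nat.card R :=
    (Nat.card_congr (R.equivMapOfInjective _ D.subtype_injective).toEquiv).symm
  have hnorm : zSub Φ ≤ Subgroup.normalizer (R' : Set G) := by
    intro z hz
    have hzD : z ∈ D := hMD (K.lineSub_le_M _ hz)
    refine Subgroup.mem_normalizer_iff.2 fun v => ⟨?_, fun hv => ?_⟩
    · rintro ⟨r, hr, rfl⟩
      exact ⟨⟨z, hzD⟩ * r * ⟨z, hzD⟩⁻¹, hRn.conj_mem r hr _, rfl⟩
    · obtain ⟨r, hr, e⟩ := hv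
      refine ⟨⟨z, hzD⟩⁻¹ * r * ⟨z, hzD⟩, ?_, ?_⟩
      · simpa using hRn.conj_mem r hr (⟨z, hzD⟩⁻¹ : D)
      · show z⁻¹ * r * z = v
        rw [show (r : G) = z * v * z⁻¹ from e]; group
  haveI : IsMulCommutative (zSub Φ) := ⟨⟨fun u v =>
    Subtype.ext (K.M_comm _ (K.lineSub_le_M _ u.2) _ (K.lineSub_le_M _ v.2))⟩⟩
  have hcop : (Nat.card (zSub Φ)).Coprime (Nat.card R') := by
    obtain ⟨n, -, e⟩ := K.pow
    rw [card_lineSub Φ _ inA1_inj, e, hR'card]
    exact ((Nat.prime_three.coprime_iff_not_dvd).2 hR3).pow_left n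
  have hgen := CfsgLib.CoprimeAct.generated_by_centralizers (A := zSub Φ) (K := R')
    K.zSub_not_cyclic hnorm hcop
  have hRM : R' ≤ M := by
    rw [← hgen]
    refine iSup₂_le fun z hz => ?_
    rintro g ⟨hg1, hg2⟩
    obtain ⟨⟨z', rfl⟩, hz1⟩ := hz
    have hz' : z' ≠ 0 := by
      rintro rfl
      exact hz1 (by rw [show inA1 F 0 = 0 from map_zero _, Φ.mM_zero])
    have hgD : g ∈ D := Subgroup.map_subtype_le _ hg1
    have hgC : g ∈ CA α := mem_C_of_comm_z Φ K.hb hz' (Subgroup.mem_centralizer_singleton_iff.1 hg2)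
    exact hND g hgD (K.C_u hgC hc hgD.1)
  have htop := hcompl.sup_eq_top
  intro g hg
  have hgm : (⟨g, hg⟩ : D) ∈ R ⊔ (S : Subgroup D) := htop ▸ Subgroup.mem_top _
  have hle : R ⊔ (S : Subgroup D) ≤ M.subgroupOf D :=
    sup_le (fun r hr => hRM ⟨r, hr, rfl⟩) (le_of_eq hS)
  exact hle hgm

/-- A subgroup of `Z × U` meeting `Z` trivially. -/
def Slant (Φ : Frame F (Subgroup.centralizer ({α} : Set G))) (M W : Subgroup G) : Prop :=
  W ≤ M ∧ (∀ a b c : F, Φ.mM (a, b, c) ∈ W → b = 0) ∧ (∀ a : F, Φ.mM (a, 0, 0) ∈ W → a = 0) ∧ W ≠ ⊥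

theorem cent_slant (W : Subgroup G) (hW : Slant Φ M W) :
    Subgroup.centralizer (W : Set G) ≤ Subgroup.normalizer (M : Set G) := by
  induction W using WellFoundedGT.induction with
  | ind W ih =>
  obtain ⟨hWM, hWb, hWz, hW1⟩ := hW
  obtain ⟨w, hw, hw1⟩ := (Subgroup.ne_bot_iff_exists_ne_one.1 hW1 : ∃ a : W, a ≠ 1) |>
    fun ⟨a, ha⟩ => (⟨a.1, a.2, fun e => ha (Subtype.ext e)⟩ : ∃ w, w ∈ W ∧ w ≠ 1)
  obtain ⟨⟨a₁, b₁, c₁⟩, rfl⟩ := (K.hM w).1 (hWM hw)
  obtain rfl := hWb _ _ _ hw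
  have hc₁ : c₁ ≠ 0 := by
    rintro rfl
    obtain rfl := hWz _ hw
    exact hw1 Φ.mM_zero
  set D := Subgroup.centralizer (W : Set G) with hD
  have hMD : M ≤ D := fun v hv u hu => (K.M_comm v hv u (hWM hu)).symm
  have hDu : D ≤ Subgroup.centralizer ({Φ.mM (a₁, 0, c₁)} : Set G) := fun g hg =>
    Subgroup.mem_centralizer_singleton_iff.2 (hg _ hw).symm
  have hWD : W ≤ D := hWM.trans hMD
  -- coordinates of products with `W`
  have hWcoord : ∀ v : V F, Φ.mM v ∈ W → v.2.1 = 0 ∧ (v.2.2 = 0 → v.1 = 0) := by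
    rintro ⟨a, b, c⟩ hv
    refine ⟨hWb a b c hv, fun hc => ?_⟩
    obtain rfl := hWb a b c hv
    obtain rfl : c = 0 := hc
    exact hWz a hv
  set W' := W.subgroupOf D
  set S := M.subgroupOf D
  set B := (bSub Φ).subgroupOf D
  haveI hW'n : W'.Normal := ⟨fun u hu g => by
    have e : (g : G) * u * (g : G)⁻¹ = u := by
      rw [← g.2 _ (Subgroup.mem_subgroupOf.1 hu), mul_inv_cancel_right]
    show (g : G) * u * (g : G)⁻¹ ∈ W
    rw [e]; exact hu⟩
  have hSW : S ⊔ W' = S := sup_eq_left.2 fun u hu => hWM hu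
  have hBM : bSub Φ ≤ M := K.lineSub_le_M _
  have hN : ∀ n : D, n ∈ Subgroup.normalizer ((S ⊔ W' : Subgroup D) : Set D) →
      (n : G) ∈ Subgroup.normalizer (M : Set G) := by
    intro n hn
    rw [hSW] at hn
    refine Subgroup.mem_normalizer_iff.2 fun v => ⟨fun hv => ?_, fun hv => ?_⟩
    · exact (Subgroup.mem_normalizer_iff.1 hn ⟨v, hMD hv⟩).1 hv
    · have hv' : v ∈ D := by
        have := D.mul_mem (D.mul_mem (D.inv_mem n.2) (hMD hv)) n.2
        simpa [mul_assoc] using this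
      exact (Subgroup.mem_normalizer_iff.1 hn ⟨v, hv'⟩).2 hv
  have hN' : ∀ n : D, (n : G) ∈ Subgroup.normalizer (M : Set G) →
      n ∈ Subgroup.normalizer ((S ⊔ W' : Subgroup D) : Set D) := by
    intro n hn
    rw [hSW]
    exact Subgroup.mem_normalizer_iff.2 fun v => Subgroup.mem_normalizer_iff.1 hn (v : G)
  have hfix : ∀ n : D, (n : G) ∈ Subgroup.normalizer (M : Set G) →
      act Φ (n : G) (a₁, 0, c₁) = (a₁, 0, c₁) := fun n hn => K.conj_of_comm (hDu n.2) hn
  have hcent : ∀ s ∈ S, s ∉ W' → ∀ g : D, g * s * g⁻¹ * s⁻¹ ∈ W' →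
      g ∈ Subgroup.normalizer ((S ⊔ W' : Subgroup D) : Set D) := by
    intro s hs hsW g hg
    refine hN' g ?_
    have hcomm : (g : G) * s = s * g :=
      mul_inv_eq_iff_eq_mul.1 (K.fusion_trivial hWM hc₁ hw hs g.2 hg)
    set W2 := W ⊔ Subgroup.zpowers (s : G) with hW2
    have hW2M : W2 ≤ M := sup_le hWM (Subgroup.zpowers_le.2 hs)
    have hg2 : (g : G) ∈ Subgroup.centralizer (W2 : Set G) := by
      have : W2 ≤ Subgroup.centralizer ({(g : G)} : Set G) :=
        sup_le (fun u hu => Subgroup.mem_centralizer_singleton_iff.2 (g.2 u hu))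
          (Subgroup.zpowers_le.2 (Subgroup.mem_centralizer_singleton_iff.2 hcomm.symm))
      exact fun u hu => Subgroup.mem_centralizer_singleton_iff.1 (this hu)
    by_cases hb : ∀ a b c : F, Φ.mM (a, b, c) ∈ W2 → b = 0
    · by_cases hz : ∀ a : F, Φ.mM (a, 0, 0) ∈ W2 → a = 0
      · have hlt : W < W2 := lt_of_le_of_ne le_sup_left fun e => hsW (by
          show (s : G) ∈ W
          rw [e]; exact le_sup_right (a := W) (Subgroup.mem_zpowers _))
        exact ih W2 hlt ⟨hW2M, hb, hz, fun e => hW1 (le_bot_iff.1 (e ▸ le_sup_left))⟩ hg2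
      · push Not at hz
        obtain ⟨a, ha, ha0⟩ := hz
        exact K.C_u (mem_C_of_comm_z Φ K.hb ha0 (hg2 _ ha).symm) hc₁ (hDu g.2)
    · push Not at hb
      obtain ⟨a, b, c, hv, hb0⟩ := hb
      exact Subgroup.le_normalizer (K.cent_pair hc₁ hb0
        ⟨hDu g.2, Subgroup.mem_centralizer_singleton_iff.2 (hg2 _ hv).symm⟩)
  -- images of the base elements
  have himgB : ∀ n : D, (n : G) ∈ Subgroup.normalizer (M : Set G) → ∀ b : F,
      ∃ e : F, act Φ (n : G) (0, b, 0) = (0, e, 0) := by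
    intro n hn b
    obtain ⟨f, -, -, hlin, -⟩ := K.fix_u hn hc₁ (hfix n hn)
    refine ⟨f (b / c₁) * c₁, ?_⟩
    have := hlin (b / c₁)
    rwa [div_mul_cancel₀ _ hc₁] at this
  have hBW : ∀ u : D, u ∈ B ⊔ W' → ∀ v : V F, (u : G) = Φ.mM v →
      v.2.2 = 0 → v.1 = 0 := by
    intro u hu v hv hc
    obtain ⟨b, hb, r, hr, rfl⟩ := Subgroup.mem_sup_of_normal_right.1 hu
    obtain ⟨β, hβ⟩ := (mem_bSub Φ).1 (Subgroup.mem_subgroupOf.1 hb)
    obtain ⟨ρ, hρ⟩ := (K.hM _).1 (hWM (Subgroup.mem_subgroupOf.1 hr))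
    rw [Subgroup.coe_mul, hβ, hρ, ← Φ.mM_add] at hv
    have e := Φ.mM_inj hv
    have hW := hWcoord ρ (hρ ▸ hr)
    rw [← e] at hc ⊢
    simpa using hW.2 (by simpa using hc)
  have hmod : Mod W' S B :=
    { normal := hW'n
      comm := fun u hu v hv => Subtype.ext (K.M_comm _ hu _ hv)
      cube := fun u hu => Subtype.ext (by simpa using K.M_cube _ hu)
      idx := K.index_M hc₁ hMD hDu
      cent := hcent
      le := fun u hu => hBM hu
      inv := by
        intro n hn b hb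
        obtain ⟨β, hβ⟩ := (mem_bSub Φ).1 (Subgroup.mem_subgroupOf.1 hb)
        obtain ⟨e, he⟩ := himgB n (hN n hn) β
        refine (mem_bSub Φ).2 ⟨e, ?_⟩
        show (n : G) * b * (n : G)⁻¹ = _
        rw [hβ, K.act_spec (hN n hn), he]
      fpf := by
        intro n hn b hb hbW hcomm
        obtain ⟨β, hβ⟩ := (mem_bSub Φ).1 (Subgroup.mem_subgroupOf.1 hb)
        obtain ⟨e, he⟩ := himgB n (hN n hn) β
        have hm : (n : G) * b * (n : G)⁻¹ * (b : G)⁻¹ = Φ.mM (0, e - β, 0) := by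
          rw [hβ, K.act_spec (hN n hn), he, mul_inv_eq_iff_eq_mul, ← Φ.mM_add]
          simp
        have h0 := (hWcoord _ (hm ▸ hcomm : Φ.mM (0, e - β, 0) ∈ W)).1
        obtain rfl : e = β := sub_eq_zero.1 h0
        have hne : e ≠ 0 := by
          rintro rfl
          exact hbW (show (b : G) ∈ W by
            rw [hβ, show ((0, 0, 0) : V F) = 0 from rfl, Φ.mM_zero]; exact W.one_mem)
        rw [hSW]
        exact K.rigid (hN n hn) hc₁ (hfix n (hN n hn)) hne he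
      inter := by
        intro b hb hbW
        obtain ⟨β, hβ⟩ := (mem_bSub Φ).1 (Subgroup.mem_subgroupOf.1 hb)
        refine Subtype.ext ?_
        show (b : G) = 1
        have h0 := (hWcoord _ (hβ ▸ hbW : Φ.mM (0, β, 0) ∈ W)).1
        rw [hβ, show β = 0 from h0, show ((0, 0, 0) : V F) = 0 from rfl, Φ.mM_zero] }
  let x : D := ⟨Φ.mM (1, 0, 0), hMD (K.mem_M _)⟩
  let y : D := ⟨Φ.mM (1, 1, 0), hMD (K.mem_M _)⟩
  have hcx : ∀ n ∈ Subgroup.normalizer ((S ⊔ W' : Subgroup D) : Set D), ∃ z : F,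
      act Φ (n : G) (1, 0, 0) = (z, 0, 0) ∧ ((n * x * n⁻¹ : D) : G) = Φ.mM (z, 0, 0) := fun n hn => by
    obtain ⟨z, hz⟩ := K.act_Z (hN n hn) 1
    exact ⟨z, hz, by rw [← hz, ← K.act_spec (hN n hn)]; rfl⟩
  have hcy : ∀ n ∈ Subgroup.normalizer ((S ⊔ W' : Subgroup D) : Set D), ∃ z e : F,
      act Φ (n : G) (1, 0, 0) = (z, 0, 0) ∧ act Φ (n : G) (0, 1, 0) = (0, e, 0) ∧
      ((n * y * n⁻¹ : D) : G) = Φ.mM (z, e, 0) := fun n hn => by
    obtain ⟨z, hz⟩ := K.act_Z (hN n hn) 1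
    obtain ⟨e, he⟩ := himgB n (hN n hn) 1
    refine ⟨z, e, hz, he, ?_⟩
    have := K.act_add (hN n hn) (1, 0, 0) (0, 1, 0)
    rw [hz, he] at this
    simp at this
    rw [← this, ← K.act_spec (hN n hn)]; rfl
  have hanti : ∀ n ∈ Subgroup.normalizer ((S ⊔ W' : Subgroup D) : Set D), ∀ z : F,
      act Φ (n : G) (1, 0, 0) = (z, 0, 0) → z ≠ -1 := fun n hn z hz e =>
    K.no_anti (hN n hn) hc₁ (hfix n (hN n hn)) one_ne_zero (by rw [hz, e])
  have hWel : ∀ r ∈ W', ∃ ρ : V F, (r : G) = Φ.mM ρ ∧ ρ.2.1 = 0 ∧ (ρ.2.2 = 0 → ρ.1 = 0) :=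
    fun r hr => by
      obtain ⟨ρ, hρ⟩ := (K.hM _).1 (hWM (Subgroup.mem_subgroupOf.1 hr))
      exact ⟨ρ, hρ, hWcoord ρ (hρ ▸ hr)⟩
  have h3 := K.three
  have hxy : Φ.mM (1, 0, 0) * Φ.mM (1, 1, 0) = Φ.mM (-1, 1, 0) := by
    rw [← Φ.mM_add]
    congr 1
    simp
    linear_combination h3
  have hpair : Pair W' S B x y :=
    { hx := K.mem_M _
      hy := K.mem_M _
      x1 := fun h => by simpa using (hWcoord (1, 0, 0) h).2 rfl
      y1 := fun h => by simpa using (hWcoord (1, 1, 0) h).1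
      xy := by
        intro n hn r hr e
        obtain ⟨z, -, hz⟩ := hcx n hn
        obtain ⟨⟨p, b, c⟩, hρ, hb0, -⟩ := hWel r hr
        have h' := congrArg Subtype.val e
        rw [hz, Subgroup.coe_mul, hρ, ← Φ.mM_add] at h'
        have := congrArg (fun v => v.2.1) (Φ.mM_inj h')
        simp at this hb0
        subst hb0
        simp at this
      s1 := by
        intro b hb h
        obtain ⟨β, hβ⟩ := (mem_bSub Φ).1 (Subgroup.mem_subgroupOf.1 hb)
        have h' : (x : G) * y * b ∈ W := h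
        rw [hxy, hβ, ← Φ.mM_add] at h'
        have := (hWcoord _ h').2 (by simp)
        simp at this
      sx := by
        intro n hn b hb r hr e
        obtain ⟨z, hz, hzG⟩ := hcx n hn
        obtain ⟨β, hβ⟩ := (mem_bSub Φ).1 (Subgroup.mem_subgroupOf.1 hb)
        obtain ⟨⟨p, b', c⟩, hρ, -, hp⟩ := hWel r hr
        have h' := congrArg Subtype.val e
        rw [hzG, Subgroup.coe_mul, Subgroup.coe_mul, Subgroup.coe_mul, hxy, hβ, hρ, ← Φ.mM_add,
          ← Φ.mM_add] at h'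
        have h'' := Φ.mM_inj h'
        simp at h'' hp
        obtain ⟨e1, -, e3⟩ := h''
        rw [hp e3.symm, add_zero] at e1
        exact hanti n hn z hz e1
      sy := by
        intro n hn b hb r hr e
        obtain ⟨z, ε, hz, -, hzG⟩ := hcy n hn
        obtain ⟨β, hβ⟩ := (mem_bSub Φ).1 (Subgroup.mem_subgroupOf.1 hb)
        obtain ⟨⟨p, b', c⟩, hρ, -, hp⟩ := hWel r hr
        have h' := congrArg Subtype.val e
        rw [hzG, Subgroup.coe_mul, Subgroup.coe_mul, Subgroup.coe_mul, hxy, hβ, hρ, ← Φ.mM_add,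
          ← Φ.mM_add] at h'
        have h'' := Φ.mM_inj h'
        simp at h'' hp
        obtain ⟨e1, -, e3⟩ := h''
        rw [hp e3.symm, add_zero] at e1
        exact hanti n hn z hz e1 }
  have hcardB : Nat.card B = Fintype.card F := by
    rw [Nat.card_congr (Subgroup.subgroupOfEquivOfLe (hBM.trans hMD)).toEquiv,
      card_lineSub Φ _ inB1_inj]
  have key := mod_normal hmod hpair (Or.inr ⟨?_, ?_, ?_, ?_, ?_, ?_⟩)
  · exact fun g hg => hN ⟨g, hg⟩ (key ⟨g, hg⟩)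
  · refine ⟨(zSub Φ).subgroupOf D, fun u hu => K.lineSub_le_M _ hu, ?_, fun n hn => ?_⟩
    · rw [hcardB, Nat.card_congr (Subgroup.subgroupOfEquivOfLe ((K.lineSub_le_M _).trans hMD)).toEquiv,
        card_lineSub Φ _ inA1_inj]
    · obtain ⟨z, -, hz⟩ := hcx n hn
      exact Subgroup.mem_sup_left ((mem_zSub Φ).2 ⟨z, hz⟩)
  · rw [hcardB]
    have := K.card8
    rw [Nat.odd_iff]; omega
  · intro h
    simpa using hBW x h (1, 0, 0) rfl rfl
  · intro n hn h
    obtain ⟨z, hz, hzG⟩ := hcx n hn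
    have := hBW _ h (z + 1, 0, 0) (by
      rw [Subgroup.coe_mul, hzG]
      show Φ.mM (z, 0, 0) * Φ.mM (1, 0, 0) = _
      rw [← Φ.mM_add]; congr 1; simp) rfl
    exact hanti n hn z hz (eq_neg_of_add_eq_zero_left this)
  · refine ⟨x, fun n hn h => Or.inl ?_⟩
    obtain ⟨z, hz, hzG⟩ := hcx n hn
    have := hBW _ h (z - 1, 0, 0) (by
      rw [Subgroup.coe_mul, Subgroup.coe_inv, hzG]
      show (Φ.mM (1, 0, 0))⁻¹ * Φ.mM (z, 0, 0) = _
      rw [inv_mul_eq_iff_eq_mul, ← Φ.mM_add]; congr 1; simp) rfl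
    rw [show n * x * n⁻¹ = x from Subtype.ext (by
      rw [hzG, sub_eq_zero.1 this]), inv_mul_cancel]
    exact W'.one_mem
  · refine ⟨⟨Φ.mM (1, -1, 0), hMD (K.mem_M _)⟩, fun n hn h => ?_⟩
    obtain ⟨z, e, hz, he, hzG⟩ := hcy n hn
    have h1 := hBW _ h (z - 1, e - 1, 0) (by
      rw [Subgroup.coe_mul, Subgroup.coe_inv, hzG]
      show (Φ.mM (1, 1, 0))⁻¹ * Φ.mM (z, e, 0) = _
      rw [inv_mul_eq_iff_eq_mul, ← Φ.mM_add]; congr 1; simp) rfl
    obtain rfl : z = 1 := sub_eq_zero.1 h1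
    obtain ⟨u, t, l, -, hact⟩ := K.fix_z (hN n hn) one_ne_zero hz
    have g1 := hfix n (hN n hn)
    rw [hact, sh_apply] at g1
    simp only [Prod.mk.injEq, mul_zero, zero_add, add_zero] at g1
    obtain ⟨-, g12, g13⟩ := g1
    have hl2 : (l : F) * l = 1 := mul_right_cancel₀ hc₁ (by linear_combination g13)
    have ht : t = 0 := by
      rw [hl2, one_mul] at g12
      exact (mul_eq_zero.1 g12).resolve_right hc₁
    rw [hact, sh_apply, ht] at he
    simp at he
    rcases mul_self_eq_one_iff.1 hl2 with hl | hl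
    · left
      rw [show n * y * n⁻¹ = y from Subtype.ext (by rw [hzG, ← he, hl]), inv_mul_cancel]
      exact W'.one_mem
    · right
      rw [show n * y * n⁻¹ = ⟨Φ.mM (1, -1, 0), hMD (K.mem_M _)⟩ from Subtype.ext (by
        rw [hzG, ← he, hl]), inv_mul_cancel]
      exact W'.one_mem

end Hyp

end CfsgLib.PSpFourTypeThree
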