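import Mathlib

/-!
A self-centralising family of elementary abelian Sylow 3-subgroups: products of two conjugates
that lie again in the Sylow subgroup come from inside it.
-/

set_option autoImplicit false
set_option linter.style.haveILetI false

namespace CfsgLib.PSpFourTypeThree

variable {H : Type*} [Group H]

/-- In a quotient of the triangle group `(3,3,3)`, two generators are conjugate unless some element
of order `3` centralises both. -/
theorem triangle [Finite H] {x y : H} (hx : x ^ 3 = 1) (hy : y ^ 3 = 1)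
    (hxy : (x * y) ^ 3 = 1) :
    (∃ t : H, t * x * t⁻¹ = y) ∨ ∃ w : H, w ≠ 1 ∧ w ^ 3 = 1 ∧ Commute w x ∧ Commute w y := by
  set a := x⁻¹ * y with ha
  set b := y * x⁻¹ with hb
  have hx2 : x⁻¹ * x⁻¹ = x := by
    rw [← mul_inv_rev, inv_eq_iff_mul_eq_one, ← pow_two, ← pow_succ, hx]
  have hy2 : y * y = y⁻¹ := by
    rw [eq_inv_iff_mul_eq_one, ← pow_two, ← pow_succ, hy]
  have hc : x * y * x = (y * x * y)⁻¹ := by
    rw [eq_inv_iff_mul_eq_one, ← hxy, pow_succ, pow_two]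
    group
  have hab1 : a * b = (x * y * x)⁻¹ := by
    rw [ha, hb, show x⁻¹ * y * (y * x⁻¹) = x⁻¹ * (y * y) * x⁻¹ by group, hy2]
    group
  have hba : b * a = y * x * y := by
    rw [ha, hb, show y * x⁻¹ * (x⁻¹ * y) = y * (x⁻¹ * x⁻¹) * y by group, hx2]
  have hab : Commute a b := by
    show a * b = b * a
    rw [hab1, hba, hc, inv_inv]
  have hθa : x⁻¹ * a * x = (a * b)⁻¹ := by
    rw [hab1, inv_inv, ha, show x⁻¹ * (x⁻¹ * y) * x = (x⁻¹ * x⁻¹) * y * x by group, hx2]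
  have hθb : x⁻¹ * b * x = a := by rw [ha, hb]; group
  have hbx : b = MulAut.conj x a := by rw [MulAut.conj_apply, ha, hb]; group
  by_cases h3 : 3 ∣ orderOf a
  · right
    set k := orderOf a / 3 with hk
    have hk3 : k * 3 = orderOf a := Nat.div_mul_cancel h3
    have hpos := orderOf_pos a
    set a0 := a ^ k with ha0
    set b0 := b ^ k with hb0
    have hb0' : b0 = MulAut.conj x a0 := by rw [hb0, ha0, map_pow, ← hbx]
    have ha3 : a0 ^ 3 = 1 := by rw [ha0, ← pow_mul, hk3, pow_orderOf_eq_one]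
    have hb3 : b0 ^ 3 = 1 := by rw [hb0', ← map_pow, ha3, map_one]
    have ha1 : a0 ≠ 1 := by
      intro h
      have := orderOf_dvd_of_pow_eq_one h
      have := Nat.le_of_dvd (by omega) this
      omega
    have hcab : Commute a0 b0 := hab.pow_pow k k
    have hθ : ∀ v : H, x⁻¹ * v * x = MulAut.conj x⁻¹ v := fun v => by
      rw [MulAut.conj_apply, inv_inv]
    have hθa0 : x⁻¹ * a0 * x = (a0 * b0)⁻¹ := by
      rw [hθ, ha0, map_pow, ← hθ, hθa, inv_pow, hab.mul_pow]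
    have hθb0 : x⁻¹ * b0 * x = a0 := by
      rw [hθ, hb0, map_pow, ← hθ, hθb]
    have key : ∀ w : H, w ≠ 1 → w ^ 3 = 1 → Commute w a → x⁻¹ * w * x = w →
        ∃ w : H, w ≠ 1 ∧ w ^ 3 = 1 ∧ Commute w x ∧ Commute w y := by
      intro w h1 h2 h4 h5
      have hwx : Commute w x := by
        show w * x = x * w
        conv_rhs => rw [← h5]
        group
      refine ⟨w, h1, h2, hwx, ?_⟩
      have := hwx.mul_right h4
      rwa [ha, mul_inv_cancel_left] at this
    by_cases he : a0 = b0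
    · refine key a0 ha1 ha3 (Commute.pow_self a k) ?_
      rw [hθa0, ← he, inv_eq_iff_mul_eq_one, ← pow_two, ← pow_succ, ha3]
    · refine key (a0 * b0⁻¹) (fun h => he (mul_inv_eq_one.mp h)) ?_ ?_ ?_
      · rw [hcab.inv_right.mul_pow, inv_pow, ha3, hb3, inv_one, mul_one]
      · exact (Commute.pow_self a k).mul_left (hab.symm.pow_left k).inv_left
      · rw [show x⁻¹ * (a0 * b0⁻¹) * x = (x⁻¹ * a0 * x) * (x⁻¹ * b0 * x)⁻¹ by group, hθa0, hθb0,
          hcab.eq, mul_inv_rev]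
        rw [show a0⁻¹ * b0⁻¹ * a0⁻¹ = a0⁻¹ * (b0⁻¹ * a0⁻¹) by group, ← mul_inv_rev a0 b0, hcab.eq,
          mul_inv_rev, ← mul_assoc]
        congr 1
        rw [← mul_inv_rev, inv_eq_iff_mul_eq_one, ← pow_two, ← pow_succ, ha3]
  · left
    obtain ⟨k, hk⟩ := exists_pow_eq_self_of_coprime
      ((Nat.prime_three.coprime_iff_not_dvd).mpr h3)
    have hθt : x⁻¹ * ((a⁻¹ * b) ^ k) * x = (a * (a * b)) ^ k := by
      rw [show x⁻¹ * (a⁻¹ * b) ^ k * x = (x⁻¹ * (a⁻¹ * b) * x⁻¹⁻¹) ^ k by rw [conj_pow, inv_inv],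
        inv_inv]
      congr 1
      calc x⁻¹ * (a⁻¹ * b) * x = (x⁻¹ * a * x)⁻¹ * (x⁻¹ * b * x) := by group
        _ = a * b * a := by rw [hθa, hθb, inv_inv]
        _ = _ := by rw [mul_assoc, hab.symm.eq]
    refine ⟨(a⁻¹ * b) ^ k, ?_⟩
    have h1 : Commute (a * (a * b)) (a⁻¹ * b)⁻¹ := by
      refine Commute.inv_right ?_
      have e1 : Commute a (a⁻¹ * b) := (Commute.refl a).inv_right.mul_right hab
      have e2 : Commute b (a⁻¹ * b) := hab.symm.inv_right.mul_right (Commute.refl b)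
      exact e1.mul_left (e1.mul_left e2)
    calc (a⁻¹ * b) ^ k * x * ((a⁻¹ * b) ^ k)⁻¹
        = x * ((x⁻¹ * (a⁻¹ * b) ^ k * x) * ((a⁻¹ * b)⁻¹) ^ k) := by rw [inv_pow]; group
      _ = x * ((a * (a * b)) * (a⁻¹ * b)⁻¹) ^ k := by rw [hθt, h1.mul_pow]
      _ = x * (a ^ 3) ^ k := by
        congr 2
        rw [show a * (a * b) * (a⁻¹ * b)⁻¹ = a * a * (b * b⁻¹) * a by group]
        rw [mul_inv_cancel, mul_one, pow_succ, pow_two]
      _ = y := by rw [hk, ha, mul_inv_cancel_left]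

variable (S : Subgroup H) (hcomm : ∀ a ∈ S, ∀ b ∈ S, a * b = b * a) (hexp : ∀ a ∈ S, a ^ 3 = 1)
  (hidx : ¬ 3 ∣ S.index)
  (hcent : ∀ s ∈ S, s ≠ 1 → Subgroup.centralizer ({s} : Set H) ≤ Subgroup.normalizer (S : Set H))

include hidx in
theorem mem_of_cube [Finite H] {n : H} (hn : n ∈ Subgroup.normalizer (S : Set H)) (h3 : n ^ 3 = 1) :
    n ∈ S := by
  set N := Subgroup.normalizer (S : Set H)
  haveI : (S.subgroupOf N).Normal := Subgroup.normal_in_normalizer
  have hd : ¬ 3 ∣ (S.subgroupOf N).index := fun h =>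
    hidx (h.trans (Subgroup.relIndex_dvd_index_of_le Subgroup.le_normalizer))
  have h1 : orderOf (QuotientGroup.mk' (S.subgroupOf N) ⟨n, hn⟩) ∣ 3 :=
    orderOf_dvd_of_pow_eq_one (by
      rw [← map_pow]
      refine (congrArg _ (Subtype.ext h3 : (⟨n, hn⟩ : N) ^ 3 = 1)).trans (map_one _))
  have h2 : orderOf (QuotientGroup.mk' (S.subgroupOf N) ⟨n, hn⟩) ∣ (S.subgroupOf N).index := by
    rw [Subgroup.index_eq_card]
    exact orderOf_dvd_natCard _
  rcases (Nat.dvd_prime Nat.prime_three).mp h1 with e | e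
  · exact Subgroup.mem_subgroupOf.mp ((QuotientGroup.eq_one_iff _).mp (orderOf_eq_one_iff.mp e))
  · exact absurd (e ▸ h2) hd

include hcomm hexp hidx hcent in
theorem ti [Finite H] {s g : H} (hs : s ∈ S) (hs1 : s ≠ 1) (hg : g * s * g⁻¹ ∈ S) :
    g ∈ Subgroup.normalizer (S : Set H) := by
  have hle : ∀ u ∈ S, g * u * g⁻¹ ∈ S := by
    intro u hu
    refine mem_of_cube S hidx (hcent _ hg (fun h => hs1 (by simpa using h)) ?_) ?_
    · rw [Subgroup.mem_centralizer_singleton_iff,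
        show g * u * g⁻¹ * (g * s * g⁻¹) = g * (u * s) * g⁻¹ by group, hcomm u hu s hs]
      group
    · rw [conj_pow, hexp u hu, mul_one, mul_inv_cancel]
  refine Subgroup.mem_normalizer_iff.mpr fun u => ⟨hle u, fun hu => ?_⟩
  let φ : S → S := fun v => ⟨g * v.1 * g⁻¹, hle _ v.2⟩
  have hφ : Function.Injective φ := fun v w e =>
    Subtype.ext (mul_left_cancel (mul_right_cancel (congrArg Subtype.val e)))
  obtain ⟨v, hv⟩ := Finite.injective_iff_surjective.mp hφ ⟨_, hu⟩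
  have := congrArg Subtype.val hv
  exact mul_left_cancel (mul_right_cancel this) ▸ v.2

include hexp hidx in
theorem exists_conj_mem [Finite H] {w : H} (hw : w ^ 3 = 1) : ∃ h : H, h * w * h⁻¹ ∈ S := by
  haveI : Fact (Nat.Prime 3) := ⟨Nat.prime_three⟩
  have hS : IsPGroup 3 S := fun g => ⟨1, Subtype.ext (by simpa using hexp _ g.2)⟩
  let P : Sylow 3 H := hS.toSylow hidx
  have hw' : IsPGroup 3 (Subgroup.zpowers w) := fun g => ⟨1, by
    obtain ⟨i, hi⟩ := Subgroup.mem_zpowers_iff.mp g.2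
    refine Subtype.ext ?_
    rw [pow_one, SubgroupClass.coe_pow, ← hi, ← zpow_natCast, ← zpow_mul, mul_comm, zpow_mul,
      zpow_natCast, hw, one_zpow]
    rfl⟩
  obtain ⟨Q, hQ⟩ := hw'.exists_le_sylow
  obtain ⟨h, hh⟩ := MulAction.exists_smul_eq H Q P
  refine ⟨h, ?_⟩
  have : h * w * h⁻¹ ∈ ((h • Q : Sylow 3 H) : Subgroup H) := by
    rw [Sylow.smul_def, Sylow.pointwise_smul_def]
    exact Subgroup.smul_mem_pointwise_smul _ (MulAut.conj h) _ (hQ (Subgroup.mem_zpowers w))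
  rw [hh] at this
  exact this

include hcomm hexp hidx hcent in
/-- Conjugates of non-conjugate `x, y ∈ S` with product in `S` lie in `S`. -/
theorem mem_of_product [Finite H] {x y x' y' : H} (hx : x ∈ S) (hy : y ∈ S) (hx1 : x ≠ 1)
    (hy1 : y ≠ 1)
    (hxy : ∀ n ∈ Subgroup.normalizer (S : Set H), n * x * n⁻¹ ≠ y)
    (hx' : IsConj x x') (hy' : IsConj y y') (hs : x' * y' ∈ S) (hs1 : x' * y' ≠ 1) :
    x' ∈ S ∧ y' ∈ S ∧ (∃ n ∈ Subgroup.normalizer (S : Set H), n * x * n⁻¹ = x') ∧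
      ∃ n ∈ Subgroup.normalizer (S : Set H), n * y * n⁻¹ = y' := by
  obtain ⟨g, rfl⟩ := isConj_iff.mp hx'
  obtain ⟨k, rfl⟩ := isConj_iff.mp hy'
  have hx3 : (g * x * g⁻¹) ^ 3 = 1 := by rw [conj_pow, hexp x hx, mul_one, mul_inv_cancel]
  have hy3 : (k * y * k⁻¹) ^ 3 = 1 := by rw [conj_pow, hexp y hy, mul_one, mul_inv_cancel]
  rcases triangle hx3 hy3 (hexp _ hs) with ⟨t, ht⟩ | ⟨w, hw1, hw3, hwx, hwy⟩
  · exfalso
    have h : k⁻¹ * (t * g) * x * (k⁻¹ * (t * g))⁻¹ = y := by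
      calc k⁻¹ * (t * g) * x * (k⁻¹ * (t * g))⁻¹
          = k⁻¹ * (t * (g * x * g⁻¹) * t⁻¹) * k := by group
        _ = y := by rw [ht]; group
    exact hxy _ (ti S hcomm hexp hidx hcent hx hx1 (by rw [h]; exact hy)) h
  · obtain ⟨h, hh⟩ := exists_conj_mem S hexp hidx hw3
    have hh1 : h * w * h⁻¹ ≠ 1 := fun e => hw1 (by simpa using e)
    have hin : ∀ v : H, Commute w v → v ^ 3 = 1 → h * v * h⁻¹ ∈ S := fun v hv h3 => by
      refine mem_of_cube S hidx (hcent _ hh hh1 (Subgroup.mem_centralizer_singleton_iff.mpr ?_))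
        (by rw [conj_pow, h3, mul_one, mul_inv_cancel])
      rw [show h * v * h⁻¹ * (h * w * h⁻¹) = h * (v * w) * h⁻¹ by group, ← hv.eq]
      group
    have hX := hin _ hwx hx3
    have hY := hin _ hwy hy3
    have hS' : h * (g * x * g⁻¹ * (k * y * k⁻¹)) * h⁻¹ ∈ S := by
      rw [show h * (g * x * g⁻¹ * (k * y * k⁻¹)) * h⁻¹
        = h * (g * x * g⁻¹) * h⁻¹ * (h * (k * y * k⁻¹) * h⁻¹) by group]
      exact mul_mem hX hY
    have hhN := ti S hcomm hexp hidx hcent hs hs1 hS'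
    have hX' : g * x * g⁻¹ ∈ S := (Subgroup.mem_normalizer_iff.mp hhN _).mpr hX
    have hY' : k * y * k⁻¹ ∈ S := (Subgroup.mem_normalizer_iff.mp hhN _).mpr hY
    exact ⟨hX', hY', ⟨g, ti S hcomm hexp hidx hcent hx hx1 hX', rfl⟩,
      k, ti S hcomm hexp hidx hcent hy hy1 hY', rfl⟩

include hcomm hexp hidx hcent in
/-- The index of the normaliser exceeds the order of `S`, unless it is everything. -/
theorem card_lt_index [Finite H] (h : Subgroup.normalizer (S : Set H) ≠ ⊤) :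
    Nat.card S < (Subgroup.normalizer (S : Set H)).index := by
  set N := Subgroup.normalizer (S : Set H)
  obtain ⟨g, hg⟩ : ∃ g : H, g ∉ N := by
    by_contra! hc
    exact h (eq_top_iff.mpr fun g _ => hc g)
  let φ : Option S → H ⧸ N := fun o =>
    o.elim ((1 : H) : H ⧸ N) fun s => (((s : H) * g : H) : H ⧸ N)
  have hφ : Function.Injective φ := by
    have hne : ∀ s : S, ((1 : H) : H ⧸ N) ≠ (((s : H) * g : H) : H ⧸ N) := fun s e => hg (by
      have hm := QuotientGroup.eq.mp e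
      rw [inv_one, one_mul] at hm
      have := N.mul_mem (N.inv_mem (Subgroup.le_normalizer s.2)) hm
      rwa [inv_mul_cancel_left] at this)
    rintro (_ | s) (_ | s') e
    · rfl
    · exact absurd e (hne s')
    · exact absurd e.symm (hne s)
    · have hm : ((s : H) * g)⁻¹ * ((s' : H) * g) ∈ N := QuotientGroup.eq.mp e
      rw [show ((s : H) * g)⁻¹ * ((s' : H) * g) = g⁻¹ * ((s : H)⁻¹ * s') * g⁻¹⁻¹ by group] at hm
      have hu : (s : H)⁻¹ * s' ∈ S := mul_mem (inv_mem s.2) s'.2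
      by_cases h1 : (s : H)⁻¹ * s' = 1
      · exact congrArg some (Subtype.ext (inv_mul_eq_one.mp h1))
      · exfalso
        have hmS := mem_of_cube S hidx hm (by rw [conj_pow, hexp _ hu, mul_one, mul_inv_cancel])
        exact hg (by simpa using N.inv_mem (ti S hcomm hexp hidx hcent hu h1 hmS))
  have hle := Nat.card_le_card_of_injective φ hφ
  rw [Finite.card_option, ← Subgroup.index_eq_card] at hle
  omega

end CfsgLib.PSpFourTypeThree
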