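import Cfsg.Agent.PSpFourTypeThree.Quat
import Cfsg.Agent.SL2C.Basic

/-!
The normaliser of `C` contains a Sylow 2-subgroup of the centraliser of `j`.
-/

set_option autoImplicit false
set_option linter.unusedSectionVars false
set_option linter.style.haveILetI false
set_option maxHeartbeats 400000

open scoped Classical
open CfsgLib.PSpFourNormM

namespace CfsgLib.PSpFourTypeThree

theorem not_sixteen_dvd {q : ℕ} (hq : q % 8 = 3) : ¬ 16 ∣ q * (q ^ 2 - 1) := by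
  obtain ⟨k, rfl⟩ : ∃ k, q = 8 * k + 3 := ⟨q / 8, by omega⟩
  have h : (8 * k + 3) * ((8 * k + 3) ^ 2 - 1) = 16 * (32 * k ^ 3 + 36 * k ^ 2 + 13 * k + 1) + 8 := by
    have h1 : (8 * k + 3) ^ 2 - 1 = 64 * k ^ 2 + 48 * k + 8 := by
      have : (8 * k + 3) ^ 2 = 64 * k ^ 2 + 48 * k + 9 := by ring
      omega
    rw [h1]; ring
  rw [h]
  omega

section Matrices

variable (F : Type*) [Field F] [Fintype F] [CharP F 3]

theorem dS_neg_one_ne : dS (-1 : Fˣ) ≠ 1 := by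
  intro h
  have := congrArg (fun B : Matrix.SpecialLinearGroup (Fin 2) F => B.1 0 0) h
  simp at this
  exact one_ne_zero (α := F) (by linear_combination three_zero F + this)

theorem orderOf_iS : orderOf (iS F) = 4 := by
  refine orderOf_eq_prime_pow (p := 2) (n := 1) ?_ ?_
  · rw [pow_one, pow_two, iS_sq]
    exact dS_neg_one_ne F
  · rw [show (2 : ℕ) ^ (1 + 1) = 2 + 2 from rfl, pow_add, pow_two, iS_sq, ← dS_mul, neg_mul_neg,
      one_mul, dS_one]

theorem kS_not_mem : kS F ∉ Subgroup.zpowers (iS F) := by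
  intro h
  obtain ⟨i, hi⟩ := Subgroup.mem_zpowers_iff.1 h
  have hc : Commute (iS F) (kS F) := hi ▸ (Commute.refl (iS F)).zpow_right i
  have := congrArg (fun B : Matrix.SpecialLinearGroup (Fin 2) F => B.1 0 0) hc.eq
  simp [Matrix.SpecialLinearGroup.coe_mul, Matrix.mul_apply, Fin.sum_univ_two] at this
  exact one_ne_zero (α := F) (by linear_combination three_zero F - this)

theorem eight_le_q8 : 8 ≤ Nat.card (q8 F) := by
  have hle : Subgroup.zpowers (iS F) ≤ q8 F := Subgroup.zpowers_le.2 (iS_mem F)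
  obtain ⟨c, hc⟩ := Subgroup.card_dvd_of_le hle
  rw [Nat.card_zpowers, orderOf_iS] at hc
  have hne : c ≠ 1 := by
    rintro rfl
    have he : Subgroup.zpowers (iS F) = q8 F := Subgroup.eq_of_le_of_card_ge hle (by
      rw [hc, Nat.card_zpowers, orderOf_iS])
    exact kS_not_mem F (he ▸ kS_mem F)
  have : 0 < Nat.card (q8 F) := Nat.card_pos
  have : c ≠ 0 := by rintro rfl; omega
  omega

theorem card_two_le (hq : Fintype.card F % 8 = 3) (R : Subgroup (Matrix.SpecialLinearGroup (Fin 2) F))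
    (hR : IsPGroup 2 R) : Nat.card R ≤ 8 := by
  haveI : Fact (Nat.Prime 2) := ⟨Nat.prime_two⟩
  obtain ⟨n, hn⟩ := IsPGroup.iff_card.1 hR
  have hd : Nat.card R ∣ Fintype.card F * (Fintype.card F ^ 2 - 1) :=
    CfsgLib.SL2C.card_SL2_mul (F := F) ▸ R.card_subgroup_dvd_card
  rw [hn] at hd ⊢
  by_contra h
  have h4 : 4 ≤ n := by
    by_contra h4
    exact h (le_trans (Nat.pow_le_pow_right (by norm_num) (show n ≤ 3 by omega)) (by norm_num))
  exact not_sixteen_dvd hq ((pow_dvd_pow 2 h4).trans hd)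

end Matrices

variable {F : Type*} [Field F] {G : Type*} [Group G] {α : G}
  (Φ : Frame F (Subgroup.centralizer ({α} : Set G))) [CharP F 3] [Fintype F] [Finite G]

/-- The centraliser of the involution. -/
abbrev DJ : Subgroup G := Subgroup.centralizer ({jj Φ} : Set G)

/-- The translations in coordinates. -/
def IsQ (g : G) : Prop := ∃ w : F × F × F, g = Φ.el w 1

theorem el_one_mul (v w : F × F × F) :
    Φ.el v 1 * Φ.el w 1 = Φ.el (v.1 + w.1, v.2.1 + w.2.1, v.2.2 + w.2.2 + (v.1 * w.2.1 - v.2.1 * w.1)) 1 := by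
  rw [Φ.mul, one_mul]
  congr 1
  simp [vmul]

namespace Hyp

variable {Φ} {P : Sylow 3 G} {M : Subgroup G} (K : Hyp Φ P M)
include K

theorem isQ_iff (g : G) :
    IsQ Φ g ↔ g ∈ CA α ∧ ∀ c ∈ CA α, c * g * c⁻¹ ∈ (P : Subgroup G) := by
  constructor
  · rintro ⟨w, rfl⟩
    refine ⟨Φ.el_mem _ _, fun c hc => ?_⟩
    obtain ⟨v, A, rfl⟩ := (Φ.mem_iff c).1 hc
    have hv : ∃ w', Φ.el v A * Φ.el w 1 * (Φ.el v A)⁻¹ = Φ.el w' 1 := by
      have h1 : Φ.el v A = Φ.el v 1 * Φ.el 0 A := by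
        rw [Φ.mul, one_mul]; congr 1; simp [vmul, Prod.ext_iff]
      obtain ⟨⟨p, r, s⟩, hw⟩ : ∃ w₁, Φ.el 0 A * Φ.el w 1 * (Φ.el 0 A)⁻¹ = Φ.el w₁ 1 :=
        ⟨vmul 0 A w, by rw [el_conj]; simp⟩
      obtain ⟨v1, v2, v3⟩ := v
      refine ⟨(p, r, s + (v1 * r - v2 * p) + (v1 * r - v2 * p)), ?_⟩
      rw [h1, show Φ.el (v1, v2, v3) 1 * Φ.el 0 A * Φ.el w 1 * (Φ.el (v1, v2, v3) 1 * Φ.el 0 A)⁻¹ =
        Φ.el (v1, v2, v3) 1 * (Φ.el 0 A * Φ.el w 1 * (Φ.el 0 A)⁻¹) * (Φ.el (v1, v2, v3) 1)⁻¹ by group,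
        hw, mul_inv_eq_iff_eq_mul, el_one_mul, el_one_mul]
      congr 1
      simp
      ring_nf
      trivial
    obtain ⟨⟨p, r, s⟩, e⟩ := hv
    rw [e]
    refine (K.hP _).2 ⟨(s - r * p, p, 0), -r, ?_⟩
    have h' := Φ.mM_sS_hH (s - r * p, p, (0 : F)) (-r) 1
    rw [Φ.hH_one, mul_one, dS_one, mul_one, uS_zero] at h'
    rw [h']
    congr 1
    simp
    ring
  · rintro ⟨hg, hall⟩
    obtain ⟨u, t, e⟩ := (K.hP _).1 (by simpa using hall 1 (one_mem _) : g ∈ (P : Subgroup G))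
    have h' := Φ.mM_sS_hH u t 1
    rw [Φ.hH_one, mul_one, dS_one, mul_one] at h'
    set w : F × F × F := (u.2.1 - u.2.2 * t, -t, u.1 - u.2.1 * t)
    obtain ⟨u', t', e'⟩ := (K.hP _).1 (hall (Φ.el 0 (iS F)) (Φ.el_mem _ _))
    have h'' := Φ.mM_sS_hH u' t' 1
    rw [Φ.hH_one, mul_one, dS_one, mul_one] at h''
    rw [e, h', h'', el_conj] at e'
    have e2 := (Φ.inj _ _ _ _ e').2
    rw [mul_inv_eq_iff_eq_mul] at e2
    have g11 := congrArg (fun B : Matrix.SpecialLinearGroup (Fin 2) F => B.1 0 0) e2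
    have g12 := congrArg (fun B : Matrix.SpecialLinearGroup (Fin 2) F => B.1 0 1) e2
    simp [Matrix.SpecialLinearGroup.coe_mul, Matrix.mul_apply, Fin.sum_univ_two] at g11 g12
    have g22 := congrArg (fun B : Matrix.SpecialLinearGroup (Fin 2) F => B.1 1 1) e2
    simp [Matrix.SpecialLinearGroup.coe_mul, Matrix.mul_apply, Fin.sum_univ_two] at g22
    refine ⟨w, ?_⟩
    rw [e, h', show u.2.2 = 0 from ?_, uS_zero]
    first | exact g22 | exact g22.symm | (linear_combination g22) | (linear_combination -g22)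

theorem isQ_conj {x g : G} (hx : x ∈ NC α) (hg : IsQ Φ g) : IsQ Φ (x * g * x⁻¹) := by
  haveI : Fact (Nat.Prime 3) := ⟨Nat.prime_three⟩
  rw [K.isQ_iff] at hg ⊢
  obtain ⟨hgC, hall⟩ := hg
  have hP1 : ((x • P : Sylow 3 G) : Subgroup G) ≤ CA α := by
    intro v hv
    rw [Sylow.smul_def, Sylow.pointwise_smul_def] at hv
    obtain ⟨w, hw, rfl⟩ := hv
    exact (Subgroup.mem_normalizer_iff.1 hx _).1 (K.P_le_C hw)
  obtain ⟨c0, hc0⟩ := MulAction.exists_smul_eq (CA α) ((x • P).subtype hP1) (P.subtype K.P_le_C)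
  have hm : ∀ v ∈ (P : Subgroup G), (c0 : G) * x * v * ((c0 : G) * x)⁻¹ ∈ (P : Subgroup G) := by
    intro v hv
    have hxv : x * v * x⁻¹ ∈ ((x • P : Sylow 3 G) : Subgroup G) := by
      rw [Sylow.smul_def, Sylow.pointwise_smul_def]
      exact Subgroup.smul_mem_pointwise_smul _ (MulAut.conj x) _ hv
    have h : c0 * ⟨x * v * x⁻¹, hP1 hxv⟩ * c0⁻¹ ∈
        ((P.subtype K.P_le_C : Sylow 3 (CA α)) : Subgroup (CA α)) := by
      rw [← hc0, Sylow.smul_def, Sylow.pointwise_smul_def]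
      exact Subgroup.smul_mem_pointwise_smul _ (MulAut.conj c0) _ (by
        rw [Sylow.coe_subtype, Subgroup.mem_subgroupOf]; exact hxv)
    rw [Sylow.coe_subtype, Subgroup.mem_subgroupOf] at h
    simpa [mul_assoc] using h
  set m := (c0 : G) * x
  have hmN : m ∈ NC α := mul_mem (Subgroup.le_normalizer c0.2) hx
  refine ⟨(Subgroup.mem_normalizer_iff.1 hx _).1 hgC, fun c hc => ?_⟩
  set c' := m⁻¹ * (c * (c0 : G)⁻¹) * m
  have hc' : c' ∈ CA α := by
    have := (Subgroup.mem_normalizer_iff.1 (inv_mem hmN) _).1 (mul_mem hc (inv_mem c0.2))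
    rwa [inv_inv] at this
  have h := hm _ (hall c' hc')
  convert h using 1
  simp only [c', m]
  group

/-- A square root of `j` in the normaliser of `C` lies in `C`. -/
theorem mem_C_of_sq {x : G} (hx : x ∈ NC α) (hxx : x * x = jj Φ) : x ∈ CA α := by
  by_contra hxC
  have h2 := K.two
  have hinv : ∀ a : F, x * Φ.mM (a, 0, 0) * x⁻¹ = Φ.mM (-a, 0, 0) := by
    intro a
    obtain ⟨a', ha'⟩ := exists_z_conj Φ h2 hx a
    have hj : jj Φ * Φ.mM (a, 0, 0) * (jj Φ)⁻¹ = Φ.mM (a, 0, 0) := by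
      rw [Φ.central_mM a (jj Φ) (Φ.el_mem _ _), mul_inv_cancel_right]
    have hback : x * Φ.mM (a', 0, 0) * x⁻¹ = Φ.mM (a, 0, 0) := by
      calc x * Φ.mM (a', 0, 0) * x⁻¹ = (x * x) * Φ.mM (a, 0, 0) * (x * x)⁻¹ := by rw [← ha']; group
        _ = _ := by rw [hxx, hj]
    have hsum : x * Φ.mM (a + a', 0, 0) * x⁻¹ = Φ.mM (a + a', 0, 0) := by
      have e : Φ.mM (a + a', 0, 0) = Φ.mM (a, 0, 0) * Φ.mM (a', 0, 0) := by rw [← Φ.mM_add]; simp
      rw [show x * Φ.mM (a + a', 0, 0) * x⁻¹ =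
        (x * Φ.mM (a, 0, 0) * x⁻¹) * (x * Φ.mM (a', 0, 0) * x⁻¹) by rw [e]; group, ha', hback,
        ← Φ.mM_add]
      simp [add_comm]
    have h0 : a + a' = 0 := by
      by_contra h0
      exact hxC (mem_C_of_comm_z Φ K.hb h0 (mul_inv_eq_iff_eq_mul.1 hsum))
    rw [ha', show a' = -a by linear_combination h0]
  have himg : ∀ v : F × F × F, ∃ w : F × F × F, x * Φ.el v 1 * x⁻¹ = Φ.el w 1 :=
    fun v => K.isQ_conj hx ⟨v, rfl⟩
  choose φ hφ using himg
  have hφadd : ∀ v w : F × F × F, (φ (v.1 + w.1, v.2.1 + w.2.1, v.2.2 + w.2.2 + (v.1 * w.2.1 - v.2.1 * w.1))).1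
        = (φ v).1 + (φ w).1 ∧
      (φ (v.1 + w.1, v.2.1 + w.2.1, v.2.2 + w.2.2 + (v.1 * w.2.1 - v.2.1 * w.1))).2.1
        = (φ v).2.1 + (φ w).2.1 := by
    intro v w
    have e : x * (Φ.el v 1 * Φ.el w 1) * x⁻¹ = Φ.el (φ v) 1 * Φ.el (φ w) 1 := by
      rw [← hφ, ← hφ]; group
    rw [el_one_mul, el_one_mul, hφ] at e
    have := (Φ.inj _ _ _ _ e).1
    exact ⟨congrArg Prod.fst this, congrArg (fun v => v.2.1) this⟩
  have hsq : ∀ v : F × F × F, (φ (φ v)).1 = -v.1 ∧ (φ (φ v)).2.1 = -v.2.1 := by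
    intro v
    have e : Φ.el (φ (φ v)) 1 = jj Φ * Φ.el v 1 * (jj Φ)⁻¹ := by
      rw [← hφ, ← hφ, ← hxx]; group
    change _ = Φ.el 0 (dS (-1)) * Φ.el v 1 * (Φ.el 0 (dS (-1)))⁻¹ at e
    rw [el_conj, mul_one, mul_inv_cancel] at e
    have e' := (Φ.inj _ _ _ _ e).1
    rw [e']
    simp [vmul]
  have hω : ∀ v : F × F × F, v.1 * (φ v).2.1 = v.2.1 * (φ v).1 := by
    intro v
    obtain ⟨p, r, s⟩ := v
    set v : F × F × F := (p, r, s)
    set κ := p * (φ v).2.1 - r * (φ v).1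
    have hk1 : Φ.el v 1 * Φ.el (φ v) 1 = Φ.mM (κ + κ, 0, 0) * (Φ.el (φ v) 1 * Φ.el v 1) := by
      rw [el_z, el_one_mul, el_one_mul, el_one_mul]
      congr 1
      simp [v, κ]
      constructor
      · ring
      constructor <;> ring
    have hk2 : x * (Φ.el v 1 * Φ.el (φ v) 1) * x⁻¹ =
        Φ.mM (-(κ + κ), 0, 0) * (x * (Φ.el (φ v) 1 * Φ.el v 1) * x⁻¹) := by
      rw [hk1, ← hinv]; group
    rw [show x * (Φ.el v 1 * Φ.el (φ v) 1) * x⁻¹ = (x * Φ.el v 1 * x⁻¹) * (x * Φ.el (φ v) 1 * x⁻¹) by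
        group,
      show x * (Φ.el (φ v) 1 * Φ.el v 1) * x⁻¹ = (x * Φ.el (φ v) 1 * x⁻¹) * (x * Φ.el v 1 * x⁻¹) by
        group, hφ, hφ, el_z, el_one_mul, el_one_mul, el_one_mul] at hk2
    obtain ⟨f1, f2⟩ := hsq v
    have e3 := congrArg (fun w => w.2.2) (Φ.inj _ _ _ _ hk2).1
    simp [v, κ] at e3 f1 f2
    rw [f1, f2] at e3
    exact mul_left_cancel₀ (mul_ne_zero h2 h2)
      (by simp only [v]; linear_combination e3)
  -- the induced map would be a scalar with square `-1`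
  obtain ⟨a1, a2⟩ := hsq (1, 0, 0)
  have e1 : (φ (1, 0, 0)).2.1 = 0 := by simpa using hω (1, 0, 0)
  have e2 : (φ (0, 1, 0)).1 = 0 := by simpa using (hω (0, 1, 0)).symm
  set l := (φ (1, 0, 0)).1
  set μ := (φ (0, 1, 0)).2.1
  have hlμ : μ = l := by
    obtain ⟨h1, h1'⟩ := hφadd (1, 0, 0) (0, 1, 0)
    have h := hω (1 + 0, 0 + 1, 0 + 0 + (1 * 1 - 0 * 0))
    rw [show ((1 : F) + 0, (0 : F) + 1, (0 : F) + 0 + (1 * 1 - 0 * 0)) =
      (1 + 0, 0 + 1, 0 + 0 + (1 * 1 - 0 * 0)) from rfl] at h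
    rw [h1, h1', e1, e2] at h
    simpa using h
  obtain ⟨h1, h1'⟩ := hφadd (φ (1, 0, 0)) (0, 1, 0)
  have h := hω ((φ (1, 0, 0)).1 + (0, 1, (0 : F)).1, (φ (1, 0, 0)).2.1 + (0, (1 : F), (0 : F)).2.1,
    (φ (1, 0, 0)).2.2 + (0, (1 : F), (0 : F)).2.2 +
      ((φ (1, 0, 0)).1 * (0, (1 : F), (0 : F)).2.1 - (φ (1, 0, 0)).2.1 * (0, (1 : F), (0 : F)).1))
  rw [h1, h1', a1, a2, e2] at h
  simp [e1, hlμ, l, μ] at h
  refine neg_one_ne_sq K.mod4 l ?_
  simp only [l]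
  linear_combination h

theorem C_inter_DJ {g : G} (hg : g ∈ CA α) (hgD : g ∈ DJ Φ) :
    ∃ (a : F) (A : Matrix.SpecialLinearGroup (Fin 2) F), g = Φ.el (0, 0, a) A := by
  obtain ⟨⟨p, r, a⟩, A, rfl⟩ := (Φ.mem_iff g).1 hg
  have e := Subgroup.mem_centralizer_singleton_iff.1 hgD
  rw [show jj Φ = Φ.el 0 (dS (-1)) from rfl, Φ.mul, Φ.mul] at e
  have v := (Φ.inj _ _ _ _ e).1
  simp [vmul] at v
  refine ⟨a, A, ?_⟩
  rw [show p = 0 from mul_left_cancel₀ K.two (by linear_combination v.1),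
    show r = 0 from mul_left_cancel₀ K.two (by linear_combination v.2)]

theorem el_zero_sq (a : F) (A : Matrix.SpecialLinearGroup (Fin 2) F) :
    Φ.el (0, 0, a) A * Φ.el (0, 0, a) A = Φ.el (0, 0, a + a) (A * A) := by
  rw [Φ.mul]; congr 1; simp [vmul]

theorem sqrt_jj_mem {g : G} (hg : g ∈ NC α) (h : g * g = jj Φ) : g ∈ (elHom Φ).range := by
  have hC := K.mem_C_of_sq hg h
  have hD : g ∈ DJ Φ := Subgroup.mem_centralizer_singleton_iff.2 (by rw [← h, mul_assoc])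
  obtain ⟨a, A, rfl⟩ := K.C_inter_DJ hC hD
  rw [K.el_zero_sq] at h
  have e := congrArg (fun v => v.2.2) (Φ.inj _ _ _ _ h).1
  have ha : a = 0 := mul_left_cancel₀ K.two (by simp at e; linear_combination e)
  exact ⟨A, by rw [ha]; rfl⟩

/-- A Sylow 2-subgroup of the centraliser of `j` normalises `C`. -/
theorem involution_conj {t : G} (ht : t * t = 1) (htD : t ∈ DJ Φ) :
    ∃ d ∈ DJ Φ, d * t * d⁻¹ ∈ NC α := by
  haveI : Fact (Nat.Prime 2) := ⟨Nat.prime_two⟩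
  set E := NC α ⊓ DJ Φ with hE
  have hTD : tSub Φ ≤ DJ Φ := by
    rintro _ ⟨A, -, rfl⟩
    refine Subgroup.mem_centralizer_singleton_iff.2 ?_
    show elHom Φ A * elHom Φ (dS (-1)) = elHom Φ (dS (-1)) * elHom Φ A
    rw [← map_mul, ← map_mul, dS_neg_one_comm]
  have hTE : tSub Φ ≤ E := le_inf ((tSub_le Φ).trans Subgroup.le_normalizer) hTD
  have hinj : Function.Injective (elHom Φ) := fun A B h => (Φ.inj _ _ _ _ h).2
  have hTp : IsPGroup 2 (tSub Φ) := by
    haveI : Fintype (q8 F) := Fintype.ofFinite _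
    refine IsPGroup.map ?_ _
    -- every element of `q8` is a word in two elements normalising each other
    have hi : IsPGroup 2 (Subgroup.zpowers (iS F)) := IsPGroup.of_card (n := 2) (by
      rw [Nat.card_zpowers, orderOf_iS]; rfl)
    have hk4 : kS F ^ 2 ^ 2 = 1 := by
      have h2 : kS F ^ 2 = dS (-1 : Fˣ) := by
        refine Subtype.ext ?_
        simp [pow_two, Matrix.SpecialLinearGroup.coe_mul, Matrix.mul_fin_two]
        linear_combination three_zero F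
      rw [show (2 : ℕ) ^ 2 = 2 + 2 from rfl, pow_add, h2, ← dS_mul, neg_mul_neg, one_mul, dS_one]
    have hnorm : Subgroup.zpowers (kS F) ≤ Subgroup.normalizer (Subgroup.zpowers (iS F) : Set _) := by
      refine Subgroup.zpowers_le.2 ?_
      have hc : kS F * iS F * (kS F)⁻¹ = (iS F)⁻¹ := by
        rw [mul_inv_eq_iff_eq_mul, eq_inv_mul_iff_mul_eq]
        refine Subtype.ext ?_
        simp [Matrix.SpecialLinearGroup.coe_mul, Matrix.mul_fin_two]
      have hle : (Subgroup.zpowers (iS F)).map (MulAut.conj (kS F)).toMonoidHom ≤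
          Subgroup.zpowers (iS F) := by
        rw [MonoidHom.map_zpowers, Subgroup.zpowers_le]
        show kS F * iS F * (kS F)⁻¹ ∈ _
        rw [hc]
        exact inv_mem (Subgroup.mem_zpowers _)
      have he := Subgroup.eq_of_le_of_card_ge hle (le_of_eq (Nat.card_congr
        ((Subgroup.zpowers (iS F)).equivMapOfInjective _ (MulAut.conj (kS F)).injective).toEquiv))
      refine Subgroup.mem_normalizer_iff.2 fun v => ⟨fun hv => he ▸ ⟨v, hv, rfl⟩, fun hv => ?_⟩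
      rw [← he] at hv
      obtain ⟨w, hw, e⟩ := hv
      exact (MulAut.conj (kS F)).injective e ▸ hw
    have hsup := IsPGroup.to_sup_of_normal_right' (isPGroup_zpowers hk4) hi hnorm
    refine hsup.to_le ?_
    rw [q8, Subgroup.closure_le]
    rintro _ (rfl | rfl)
    · exact Subgroup.mem_sup_right (Subgroup.mem_zpowers _)
    · exact Subgroup.mem_sup_left (Subgroup.mem_zpowers _)
  obtain ⟨T1, hT1⟩ := (hTp.comap_subtype (K := E)).exists_le_sylow
  set T := (T1 : Subgroup E).map E.subtype with hT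
  have hTE' : T ≤ E := Subgroup.map_subtype_le _
  have hTT : tSub Φ ≤ T := fun v hv => ⟨⟨v, hTE hv⟩, hT1 hv, rfl⟩
  have hTp' : IsPGroup 2 T := T1.isPGroup'.map _
  -- the square roots of `j` in `T` generate the quaternion group
  have hT0 : ((elHom Φ).range ⊓ T : Subgroup G) = tSub Φ := by
    have hle : tSub Φ ≤ (elHom Φ).range ⊓ T :=
      le_inf (fun v ⟨A, _, e⟩ => ⟨A, e⟩) hTT
    refine (Subgroup.eq_of_le_of_card_ge hle ?_).symm
    have h1 : ((T.comap (elHom Φ)).map (elHom Φ)) = (elHom Φ).range ⊓ T := Subgroup.map_comap_eq _ _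
    rw [← h1, Nat.card_congr ((T.comap (elHom Φ)).equivMapOfInjective _ hinj).toEquiv.symm, tSub,
      Nat.card_congr ((q8 F).equivMapOfInjective _ hinj).toEquiv.symm]
    exact le_trans (card_two_le F K.card8 _ (hTp'.comap_of_injective _ hinj)) (eight_le_q8 F)
  have hnorm : ∀ d ∈ DJ Φ, d ∈ Subgroup.normalizer (T : Set G) → d ∈ NC α := by
    intro d hdD hdT
    refine K.normalizer_tSub_le ?_
    have hgen : ∀ A ∈ ({iS F, kS F} : Set _), d * elHom Φ A * d⁻¹ ∈ tSub Φ := by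
      intro A hA
      have hAm : A ∈ q8 F := Subgroup.subset_closure hA
      have hsq : elHom Φ A * elHom Φ A = jj Φ := by
        rw [← map_mul]
        rcases hA with rfl | rfl
        · rw [iS_sq]; rfl
        · rw [show kS F * kS F = dS (-1 : Fˣ) from Subtype.ext (by
            simp [Matrix.SpecialLinearGroup.coe_mul, Matrix.mul_fin_two]
            linear_combination three_zero F)]
          rfl
      have hm : d * elHom Φ A * d⁻¹ ∈ T :=
        (Subgroup.mem_normalizer_iff.1 hdT _).1 (hTT ⟨A, hAm, rfl⟩)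
      have hsq' : d * elHom Φ A * d⁻¹ * (d * elHom Φ A * d⁻¹) = jj Φ := by
        rw [show d * elHom Φ A * d⁻¹ * (d * elHom Φ A * d⁻¹) = d * (elHom Φ A * elHom Φ A) * d⁻¹ by group,
          hsq, Subgroup.mem_centralizer_singleton_iff.1 hdD, mul_inv_cancel_right]
      rw [← hT0]
      exact ⟨K.sqrt_jj_mem (hTE' hm).1 hsq', hm⟩
    have hle : (tSub Φ).map (MulAut.conj d).toMonoidHom ≤ tSub Φ := by
      rw [tSub, Subgroup.map_map, q8, MonoidHom.map_closure, Subgroup.closure_le]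
      rintro _ ⟨A, hA, rfl⟩
      exact hgen A hA
    have he := Subgroup.eq_of_le_of_card_ge hle (le_of_eq
      (Nat.card_congr ((tSub Φ).equivMapOfInjective _ (MulAut.conj d).injective).toEquiv))
    refine Subgroup.mem_normalizer_iff.2 fun v => ⟨fun hv => he ▸ ⟨v, hv, rfl⟩, fun hv => ?_⟩
    rw [← he] at hv
    obtain ⟨w, hw, e⟩ := hv
    exact (MulAut.conj d).injective e ▸ hw
  -- `T` is a Sylow subgroup of the centraliser
  have hTDJ : T ≤ DJ Φ := hTE'.trans inf_le_right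
  obtain ⟨R, hR⟩ := (hTp'.comap_subtype (K := DJ Φ)).exists_le_sylow
  have hRT : (R : Subgroup (DJ Φ)) = T.subgroupOf (DJ Φ) := by
    refine le_antisymm ?_ hR
    by_contra hne
    haveI : Group.IsNilpotent (R : Subgroup (DJ Φ)) := R.isPGroup'.isNilpotent
    have htop : (T.subgroupOf (DJ Φ)).subgroupOf R < ⊤ := lt_top_iff_ne_top.mpr fun e =>
      hne fun g hg => (show (⟨g, hg⟩ : (R : Subgroup (DJ Φ))) ∈ (T.subgroupOf (DJ Φ)).subgroupOf R
        from e ▸ Subgroup.mem_top _)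
    obtain ⟨⟨y, hyR⟩, hyN, hyS⟩ :=
      SetLike.exists_of_lt (Group.normalizerCondition_of_isNilpotent _ htop)
    apply hyS
    show (y : G) ∈ T
    have hyT : (y : G) ∈ Subgroup.normalizer (T : Set G) := by
      refine Subgroup.mem_normalizer_iff.2 fun v => ⟨fun hv => ?_, fun hv => ?_⟩
      · exact (Subgroup.mem_normalizer_iff.1 hyN ⟨⟨v, hTDJ hv⟩, hR hv⟩).1 hv
      · have hv' : v ∈ DJ Φ := by
          have := mul_mem (mul_mem (inv_mem y.2) (hTDJ hv)) y.2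
          simpa [mul_assoc] using this
        have hvR : (⟨v, hv'⟩ : DJ Φ) ∈ (R : Subgroup (DJ Φ)) := by
          have hin : y * ⟨v, hv'⟩ * y⁻¹ ∈ (R : Subgroup (DJ Φ)) := hR hv
          have := mul_mem (mul_mem (inv_mem hyR) hin) hyR
          simpa [mul_assoc] using this
        exact (Subgroup.mem_normalizer_iff.1 hyN ⟨⟨v, hv'⟩, hvR⟩).2 hv
    have hyE : (y : G) ∈ E := ⟨hnorm _ y.2 hyT, y.2⟩
    obtain ⟨k, hk⟩ := R.isPGroup' ⟨y, hyR⟩
    have hk' : (⟨y, hyE⟩ : E) ^ 2 ^ k = 1 := Subtype.ext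
      (congrArg (fun z : (R : Subgroup (DJ Φ)) => ((z : DJ Φ) : G)) hk)
    refine ⟨⟨y, hyE⟩, mem_sylow_of_normalizer T1 ?_ hk', rfl⟩
    refine Subgroup.mem_normalizer_iff.2 fun v => ?_
    have hiff : ∀ w : E, (w : G) ∈ T ↔ w ∈ (T1 : Subgroup E) := fun w =>
      Subgroup.mem_map_iff_mem E.subtype_injective
    rw [← hiff, ← hiff]
    exact Subgroup.mem_normalizer_iff.1 hyT (v : G)
  have ht2 : IsPGroup 2 (Subgroup.zpowers (⟨t, htD⟩ : DJ Φ)) :=
    isPGroup_zpowers (k := 1) (Subtype.ext (by simpa [pow_two] using ht))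
  obtain ⟨R', hR'⟩ := ht2.exists_le_sylow
  obtain ⟨d, hd⟩ := MulAction.exists_smul_eq (DJ Φ) R' R
  have hmem : d * ⟨t, htD⟩ * d⁻¹ ∈ (R : Subgroup (DJ Φ)) := by
    rw [← hd, Sylow.smul_def, Sylow.pointwise_smul_def]
    exact Subgroup.smul_mem_pointwise_smul _ (MulAut.conj d) _ (hR' (Subgroup.mem_zpowers _))
  rw [hRT] at hmem
  exact ⟨d, d.2, (hTE' hmem).1⟩

end Hyp

end CfsgLib.PSpFourTypeThree
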